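import Cfsg.Agent.WreathU.Base

/-!
The form exchanging the first two coordinates: transitivity and span of the isotropic lines (helper1).
-/

set_option autoImplicit false
set_option linter.unusedSectionVars false

namespace Cfsg.Agent.WreathU

open Matrix Cfsg.Agent.MaxSub

variable {F : Type*} [Field F] {k : ℕ}

/-- The first coordinate. -/
def i0 (hk : 3 ≤ k) : Fin k := ⟨0, by omega⟩

/-- The second coordinate. -/
def i1 (hk : 3 ≤ k) : Fin k := ⟨1, by omega⟩

/-- The exchange of the first two coordinates. -/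
def sw (hk : 3 ≤ k) : Invol (Fin k) := ⟨Equiv.swap (i0 hk) (i1 hk), fun a => by simp⟩

variable (s : Conj F) (hk : 3 ≤ k)

theorem i0_ne_i1 : i0 hk ≠ i1 hk := by simp [i0, i1, Fin.ext_iff]

/-- The first isotropic vector. -/
def eo : Fin k → F := Pi.single (i0 hk) 1

/-- The second isotropic vector. -/
def ew : Fin k → F := Pi.single (i1 hk) 1

local notation "Jk" => sw hk
local notation "f" => hf s (sw hk)

theorem f_single_single (a b : Fin k) :
    f (Pi.single a (1 : F)) (Pi.single b 1) = if (Jk).J a = b then 1 else 0 := by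
  rw [hf_single]
  by_cases h : (Jk).J a = b <;> simp [h]

theorem f_eo (x : Fin k → F) : f x (eo hk) = x (i1 hk) := by
  have h := hf_single s Jk (i0 hk) x
  rw [hf_herm, eo, h, s.inv]
  simp [sw]

theorem f_ew (x : Fin k → F) : f x (ew hk) = x (i0 hk) := by
  have h := hf_single s Jk (i1 hk) x
  rw [hf_herm, ew, h, s.inv]
  simp [sw]

theorem eo_iso : f (eo hk) (eo hk) = 0 := by rw [f_eo]; simp [eo, (i0_ne_i1 hk).symm]

theorem ew_iso : f (ew hk) (ew hk) = 0 := by rw [f_ew]; simp [ew, i0_ne_i1 hk]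

theorem eo_ew : f (eo hk) (ew hk) = 1 := by rw [f_ew]; simp [eo]

theorem ew_eo : f (ew hk) (eo hk) = 1 := by rw [f_eo]; simp [ew]

/-- Vectors orthogonal to the first two isotropic vectors. -/
def IsMid (z : Fin k → F) : Prop := z (i0 hk) = 0 ∧ z (i1 hk) = 0

variable {s hk}

theorem IsMid.eo {z : Fin k → F} (h : IsMid hk z) : f z (WreathU.eo hk) = 0 := by rw [f_eo, h.2]

theorem IsMid.ew {z : Fin k → F} (h : IsMid hk z) : f z (WreathU.ew hk) = 0 := by rw [f_ew, h.1]

theorem IsMid.eo' {z : Fin k → F} (h : IsMid hk z) : f (WreathU.eo hk) z = 0 :=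
  hswap_zero (isUnitary s _) h.eo

theorem IsMid.ew' {z : Fin k → F} (h : IsMid hk z) : f (WreathU.ew hk) z = 0 :=
  hswap_zero (isUnitary s _) h.ew

theorem isMid_single {a : Fin k} (h0 : a ≠ i0 hk) (h1 : a ≠ i1 hk) : IsMid hk (Pi.single a (1 : F)) :=
  ⟨by simp [Ne.symm h0], by simp [Ne.symm h1]⟩

theorem IsMid.add {z z' : Fin k → F} (h : IsMid hk z) (h' : IsMid hk z') : IsMid hk (z + z') :=
  ⟨by simp [h.1, h'.1], by simp [h.2, h'.2]⟩

theorem IsMid.smul {z : Fin k → F} (h : IsMid hk z) (c : F) : IsMid hk (c • z) :=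
  ⟨by simp [h.1], by simp [h.2]⟩

theorem isMid_zero : IsMid hk (0 : Fin k → F) := ⟨rfl, rfl⟩

theorem decomp (x : Fin k → F) :
    ∃ z, IsMid hk z ∧ x = x (i1 hk) • WreathU.ew hk + z + x (i0 hk) • WreathU.eo hk := by
  refine ⟨x - x (i1 hk) • WreathU.ew hk - x (i0 hk) • WreathU.eo hk, ⟨?_, ?_⟩, by abel⟩
  · simp [WreathU.ew, WreathU.eo, i0_ne_i1 hk]
  · simp [WreathU.ew, WreathU.eo, (i0_ne_i1 hk).symm]

variable (s hk)

/-- The two linear parts in a family of norm one multipliers. -/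
theorem separate {M : Type*} [AddCommGroup M] [Module F M] {S : Submodule F M} {C A B : M}
    (h : ∀ μ, s.σ μ * μ = 1 → C + μ • A + s.σ μ • B ∈ S) : C ∈ S ∧ A ∈ S ∧ B ∈ S := by
  obtain ⟨μ, ν, hμ, hν, hμ1, hν1, hμν⟩ := s.exists_units_norm
  have h1 := h 1 (by simp)
  rw [map_one, one_smul, one_smul] at h1
  have hA0 : μ ≠ 0 := fun h0 => by simp [h0] at hμ
  have hB0 : ν ≠ 0 := fun h0 => by simp [h0] at hν
  have h2 := S.sub_mem (h μ hμ) h1
  have h3 := S.sub_mem (h ν hν) h1
  set D := (μ - 1) * (s.σ ν - 1) - (ν - 1) * (s.σ μ - 1) with hD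
  have hD0 : D ≠ 0 := by
    have e : D * (μ * ν) = (μ - 1) * (1 - ν) * (μ - ν) := by
      rw [hD]; linear_combination (μ - 1) * μ * hν - (ν - 1) * ν * hμ
    intro h0
    rw [h0, zero_mul] at e
    exact mul_ne_zero (mul_ne_zero (sub_ne_zero.mpr hμ1) (sub_ne_zero.mpr hν1.symm)) (sub_ne_zero.mpr hμν) e.symm
  have hA : D • A ∈ S := by
    convert S.sub_mem (S.smul_mem (s.σ ν - 1) h2) (S.smul_mem (s.σ μ - 1) h3) using 1
    rw [hD]; module
  have hB : D • B ∈ S := by
    convert S.sub_mem (S.smul_mem (μ - 1) h3) (S.smul_mem (ν - 1) h2) using 1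
    rw [hD]; module
  have hA' : A ∈ S := by simpa [smul_smul, hD0] using S.smul_mem D⁻¹ hA
  have hB' : B ∈ S := by simpa [smul_smul, hD0] using S.smul_mem D⁻¹ hB
  have hC := S.sub_mem (S.sub_mem h1 hA') hB'
  rw [show C + A + B - A - B = C by abel] at hC
  exact ⟨hC, hA', hB'⟩

theorem trace_rk (x y : Fin k → F) : (rk s Jk x y).trace = f x y := by
  rw [rk, trace_vecMulVec, dotProduct_comm]; rfl

/-- The isotropic lines span the matrices of trace zero. -/
theorem mem_of_isotropic (S : Submodule F (Matrix (Fin k) (Fin k) F))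
    (h : ∀ x, f x x = 0 → rk s Jk x x ∈ S) (Y : Matrix (Fin k) (Fin k) F) (hY : Y.trace = 0) : Y ∈ S := by
  classical
  let o := WreathU.eo (F := F) hk
  let w := WreathU.ew (F := F) hk
  have fo : f o o = 0 := eo_iso s hk
  have fw : f w w = 0 := ew_iso s hk
  have fow : f o w = 1 := eo_ew s hk
  have fwo : f w o = 1 := ew_eo s hk
  have key : ∀ (z : Fin k → F), IsMid hk z → ∀ β, β + s.σ β = -f z z →
      (rk s Jk (w + β • o) (w + β • o) + rk s Jk z z ∈ S) ∧
        rk s Jk z (w + β • o) ∈ S ∧ rk s Jk (w + β • o) z ∈ S := by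
    intro z hz β hβ
    refine separate s fun μ hμ => ?_
    convert h ((w + β • o) + μ • z) ?_ using 1
    · simp only [rk_add_left, rk_add_right, rk_smul_left, rk_smul_right, smul_add, smul_smul]
      rw [hμ, one_smul, mul_comm (s.σ β) μ]
      abel
    · simp only [hf_add_left, hf_add_right, hf_smul_left, hf_smul_right, hz.eo, hz.ew, hz.eo', hz.ew', fo, fw,
        fow, fwo, o, w]
      linear_combination hβ + f z z * hμ
  have hoo : rk s Jk o o ∈ S := h o fo
  have hww : rk s Jk w w ∈ S := h w fw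
  obtain ⟨c, hc0, hc⟩ := s.exists_skew
  have hmid : ∀ z : Fin k → F, IsMid hk z → rk s Jk z o ∈ S ∧ rk s Jk o z ∈ S ∧ rk s Jk z w ∈ S ∧ rk s Jk w z ∈ S := by
    intro z hz
    obtain ⟨β, hβ⟩ := s.exists_trace (r := -f z z) (by rw [map_neg, ← hf_herm])
    obtain ⟨-, hA, hB⟩ := key z hz β hβ
    obtain ⟨-, hA', hB'⟩ := key z hz (β + c) (by rw [map_add]; linear_combination hβ + hc)
    have hA2 : s.σ c • rk s Jk z o ∈ S := by
      convert S.sub_mem hA' hA using 1
      simp only [rk_add_right, rk_smul_right, map_add]; module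
    have hB2 : c • rk s Jk o z ∈ S := by
      convert S.sub_mem hB' hB using 1
      simp only [rk_add_left, rk_smul_left]; module
    have hzo : rk s Jk z o ∈ S := by
      simpa [smul_smul, hc0] using S.smul_mem (s.σ c)⁻¹ hA2
    have hoz : rk s Jk o z ∈ S := by simpa [smul_smul, hc0] using S.smul_mem c⁻¹ hB2
    refine ⟨hzo, hoz, ?_, ?_⟩
    · simpa [rk_add_right, rk_smul_right] using S.sub_mem hA (S.smul_mem (s.σ β) hzo)
    · simpa [rk_add_left, rk_smul_left] using S.sub_mem hB (S.smul_mem β hoz)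
  have how : rk s Jk o w - rk s Jk w o ∈ S := by
    obtain ⟨hC, -, -⟩ := key 0 isMid_zero c (by simpa [hf] using hc)
    have h1 : rk s Jk (0 : Fin k → F) 0 = 0 := by simp [rk]
    rw [h1, add_zero] at hC
    have hσc : s.σ c = -c := eq_neg_of_add_eq_zero_right hc
    have h2 : c • (rk s Jk o w - rk s Jk w o) ∈ S := by
      convert S.sub_mem (S.sub_mem hC hww) (S.smul_mem (s.σ c * c) hoo) using 1
      simp only [rk_add_left, rk_add_right, rk_smul_left, rk_smul_right, hσc]
      module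
    simpa [smul_smul, hc0] using S.smul_mem c⁻¹ h2
  have hzz : ∀ z : Fin k → F, IsMid hk z → rk s Jk z z - f z z • rk s Jk w o ∈ S := by
    intro z hz
    obtain ⟨β, hβ⟩ := s.exists_trace (r := -f z z) (by rw [map_neg, ← hf_herm])
    obtain ⟨hC, -, -⟩ := key z hz β hβ
    convert S.sub_mem (S.sub_mem (S.sub_mem hC hww) (S.smul_mem (s.σ β * β) hoo)) (S.smul_mem β how) using 1
    simp only [rk_add_left, rk_add_right, rk_smul_left, rk_smul_right]
    rw [show f z z = -(β + s.σ β) by rw [hβ, neg_neg]]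
    module
  have hzz' : ∀ z z' : Fin k → F, IsMid hk z → IsMid hk z' → rk s Jk z z' - f z z' • rk s Jk w o ∈ S := by
    intro z z' hz hz'
    refine (separate s (C := (rk s Jk z z - f z z • rk s Jk w o) + (rk s Jk z' z' - f z' z' • rk s Jk w o))
      (A := rk s Jk z' z - f z' z • rk s Jk w o) (S := S) fun μ hμ => ?_).2.2
    convert hzz _ (hz.add (hz'.smul μ)) using 1
    simp only [rk_add_left, rk_add_right, rk_smul_left, rk_smul_right, hf_add_left, hf_add_right,
      hf_smul_left, hf_smul_right, add_smul, smul_add, smul_sub, smul_smul]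
    rw [mul_add, show s.σ μ * (μ * f z' z') = f z' z' by linear_combination f z' z' * hμ, hμ, one_smul, add_smul]
    abel
  have hL : ∀ a b : Fin k, Matrix.single a b (1 : F) - (if a = b then (1 : F) else 0) • rk s Jk w o ∈ S := by
    intro a b
    obtain ⟨b, rfl⟩ := (Jk).J.surjective b
    have hif : (if a = (Jk).J b then (1 : F) else 0) = f (Pi.single a 1) (Pi.single b 1) := by
      rw [f_single_single]
      exact if_congr ⟨fun h => by rw [h, (Jk).inv], fun h => by rw [← h, (Jk).inv]⟩ rfl rfl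
    rw [← rk_single s Jk a b, hif]
    rcases eq_or_ne a (i0 hk) with rfl | ha0
    · rcases eq_or_ne b (i0 hk) with rfl | hb0
      · rw [show f (Pi.single (i0 hk) (1 : F)) (Pi.single (i0 hk) 1) = 0 from fo, zero_smul, sub_zero]
        exact hoo
      rcases eq_or_ne b (i1 hk) with rfl | hb1
      · rw [show f (Pi.single (i0 hk) (1 : F)) (Pi.single (i1 hk) 1) = 1 from fow, one_smul]
        exact how
      · have hm := isMid_single (F := F) hb0 hb1
        rw [show f (Pi.single (i0 hk) (1 : F)) (Pi.single b 1) = 0 from hm.eo', zero_smul, sub_zero]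
        exact (hmid _ hm).2.1
    rcases eq_or_ne a (i1 hk) with rfl | ha1
    · rcases eq_or_ne b (i0 hk) with rfl | hb0
      · rw [show f (Pi.single (i1 hk) (1 : F)) (Pi.single (i0 hk) 1) = 1 from fwo, one_smul]
        simp only [w, o, WreathU.eo, WreathU.ew, sub_self, S.zero_mem]
      rcases eq_or_ne b (i1 hk) with rfl | hb1
      · rw [show f (Pi.single (i1 hk) (1 : F)) (Pi.single (i1 hk) 1) = 0 from fw, zero_smul, sub_zero]
        exact hww
      · have hm := isMid_single (F := F) hb0 hb1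
        rw [show f (Pi.single (i1 hk) (1 : F)) (Pi.single b 1) = 0 from hm.ew', zero_smul, sub_zero]
        exact (hmid _ hm).2.2.2
    have hma := isMid_single (F := F) ha0 ha1
    rcases eq_or_ne b (i0 hk) with rfl | hb0
    · rw [show f (Pi.single a (1 : F)) (Pi.single (i0 hk) 1) = 0 from hma.eo, zero_smul, sub_zero]
      exact (hmid _ hma).1
    rcases eq_or_ne b (i1 hk) with rfl | hb1
    · rw [show f (Pi.single a (1 : F)) (Pi.single (i1 hk) 1) = 0 from hma.ew, zero_smul, sub_zero]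
      exact (hmid _ hma).2.2.1
    exact hzz' _ _ hma (isMid_single hb0 hb1)
  have hall : ∀ Z : Matrix (Fin k) (Fin k) F, Z - Z.trace • rk s Jk w o ∈ S := by
    intro Z
    induction Z using Matrix.induction_on' with
    | h_zero => simp
    | h_add P Q hP hQ =>
      rw [Matrix.trace_add, add_smul, add_sub_add_comm]
      exact S.add_mem hP hQ
    | h_std_basis a b x =>
      convert S.smul_mem x (hL a b) using 1
      rw [smul_sub, smul_smul, Matrix.smul_single, smul_eq_mul, mul_one]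
      by_cases hab : a = b
      · subst hab; rw [Matrix.trace_single_eq_same, if_pos rfl, mul_one]
      · rw [Matrix.trace_single_eq_of_ne _ _ _ hab, if_neg hab, mul_zero]
  simpa [hY] using hall Y

/-- Every isotropic line is the image of the second one. -/
theorem exists_map_ew [Finite F] {x : Fin k → F} (hx : f x x = 0) (hx0 : x ≠ 0) :
    ∃ g ∈ HermStab.su (hf s Jk), ∃ r : F, r ≠ 0 ∧ (g : Matrix (Fin k) (Fin k) F) *ᵥ (r • WreathU.ew hk) = x := by
  have hu := isUnitary s (sw hk)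
  have step : ∀ y, f y y = 0 → y (i1 hk) ≠ 0 →
      ∃ g ∈ HermStab.su (hf s Jk), (g : Matrix (Fin k) (Fin k) F) *ᵥ (y (i1 hk) • WreathU.ew hk) = y := by
    intro y hy hy1
    obtain ⟨z, hz, hyz⟩ := decomp (hk := hk) y
    set r := y (i1 hk) with hr
    set β := y (i0 hk) / r with hβdef
    have hβ : β + s.σ β = -f (r⁻¹ • z) (r⁻¹ • z) := by
      have h1 := hy
      rw [hyz] at h1
      simp only [hf_add_left, hf_add_right, hf_smul_left, hf_smul_right, hz.eo, hz.ew, hz.eo', hz.ew',
        eo_iso, ew_iso, eo_ew, ew_eo] at h1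
      rw [hf_smul_left, hf_smul_right, hβdef, map_div₀, map_inv₀]
      have : s.σ r ≠ 0 := (map_ne_zero s.σ).mpr hy1
      field_simp
      linear_combination h1
    refine ⟨_, HermStab.qe_mem_su hu (u := WreathU.eo hk) (eo_iso s hk) (hz.smul _).eo hβ, ?_⟩
    rw [HermStab.qe_mulVec hu (eo_iso s hk) (hz.smul _).eo, hf_smul_left, hf_smul_left, ew_eo,
      (hz.smul _).ew']
    conv_rhs => rw [hyz]
    simp only [mul_one, mul_zero, zero_smul, sub_zero, smul_smul, hβdef]
    rw [mul_inv_cancel₀ hy1, one_smul, div_mul_cancel₀ _ hy1]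
  suffices ∃ g ∈ HermStab.su (hf s Jk), ((g : Matrix (Fin k) (Fin k) F) *ᵥ x) (i1 hk) ≠ 0 by
    obtain ⟨g, hg, hgx⟩ := this
    obtain ⟨g', hg', h'⟩ := step _ ((mem_isom.mp hg.1 x x).trans hx) hgx
    refine ⟨g⁻¹ * g', mul_mem (inv_mem hg) hg', _, hgx, ?_⟩
    rw [Units.val_mul, ← mulVec_mulVec, h', inv_mulVec_mulVec]
  by_cases h1 : x (i1 hk) ≠ 0
  · exact ⟨1, one_mem _, by simpa using h1⟩
  simp only [not_not] at h1
  by_cases h0 : x (i0 hk) ≠ 0
  · obtain ⟨c, hc0, hc⟩ := s.exists_skew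
    refine ⟨_, HermStab.ut_mem_su hu (ew_iso s hk) hc, ?_⟩
    rw [ut_mulVec hu (ew_iso s hk), f_ew]
    simp [WreathU.ew, h1, hc0, h0]
  simp only [not_not] at h0
  have hxm : IsMid hk x := ⟨h0, h1⟩
  obtain ⟨a, ha⟩ := Function.ne_iff.mp hx0
  have ha0 : a ≠ i0 hk := fun h => ha (by rw [h]; exact h0)
  have ha1 : a ≠ i1 hk := fun h => ha (by rw [h]; exact h1)
  have hm := isMid_single (F := F) ha0 ha1
  obtain ⟨β, hβ⟩ := s.exists_trace (r := -f (Pi.single a (1 : F)) (Pi.single a 1)) (by rw [map_neg, ← hf_herm])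
  refine ⟨_, HermStab.qe_mem_su hu (u := WreathU.ew hk) (ew_iso s hk) hm.ew hβ, ?_⟩
  have hfa : f x (Pi.single a 1) ≠ 0 := by
    rw [hf_herm, hf_single, s.inv, show (Jk).J a = a from Equiv.swap_apply_of_ne_of_ne ha0 ha1]
    exact ha
  rw [HermStab.qe_mulVec hu (ew_iso s hk) hm.ew, f_ew, h0]
  simp [WreathU.ew, h1, hfa]

end Cfsg.Agent.WreathU
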