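import Cfsg.Agent.WreathU.Base
import Cfsg.Agent.WreathMax.Kz
import Cfsg.Agent.WreathMax.RootClass

/-!
Tensor powers of a Hermitian form (helper1).
-/

set_option autoImplicit false
set_option linter.unusedSectionVars false

namespace Cfsg.Agent.WreathU

open Matrix Cfsg.Agent.MaxSub Cfsg.Agent.MaxSub.Asch Cfsg.Agent.FG75.SpinTensor Cfsg.Agent.WreathMax

variable {F : Type*} [Field F] {k t : ℕ} (s : Conj F) (π : Invol (Fin k))

/-- The involution of a power of the index set. -/
def powI (t : ℕ) : Invol (Fin t → Fin k) :=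
  ⟨Equiv.piCongrRight fun _ => π.J, fun a => funext fun i => π.inv (a i)⟩

theorem powI_apply (a : Fin t → Fin k) (i : Fin t) : (powI π t).J a i = π.J (a i) := rfl

theorem powI_cons (a : Fin k) (z : Fin t → Fin k) :
    (powI π (t + 1)).J (Fin.cons a z) = Fin.cons (π.J a) ((powI π t).J z) := by
  funext i
  refine Fin.cases ?_ (fun j => ?_) i <;> simp [powI_apply]

theorem adj_tens (A : Fin t → Matrix (Fin k) (Fin k) F) :
    adj s (powI π t) (tens A) = tens fun i => adj s π (A i) := by
  ext a b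
  simp [adj, tens_apply, map_prod, powI_apply]

theorem adj_slot (i : Fin t) (A : Matrix (Fin k) (Fin k) F) :
    adj s (powI π t) (slot i A) = slot i (adj s π A) := by
  rw [slot, adj_tens, slot]
  congr 1
  funext j
  rcases eq_or_ne j i with rfl | hj
  · simp
  · rw [Function.update_of_ne hj, Function.update_of_ne hj, Pi.one_apply, adj_one]

theorem adj_kz (A : Matrix (Fin k) (Fin k) F) (B : Matrix (Fin t → Fin k) (Fin t → Fin k) F) :
    adj s (powI π (t + 1)) (kz A B) = kz (adj s π A) (adj s (powI π t) B) := by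
  ext a b
  simp only [adj, kz_apply, Matrix.of_apply, map_mul]
  rfl

theorem zblk_adj (X : Matrix (Fin (t + 1) → Fin k) (Fin (t + 1) → Fin k) F) (a b : Fin k) :
    zblk (adj s (powI π (t + 1)) X) a b = adj s (powI π t) (zblk X (π.J b) (π.J a)) := by
  ext z z'
  simp only [zblk, adj, Matrix.of_apply, powI_cons]

/-- A pure tensor of a vector of the first slot and a vector of the others. -/
def cz (x : Fin k → F) (z : (Fin t → Fin k) → F) : (Fin (t + 1) → Fin k) → F :=
  fun a => x (a 0) * z (Fin.tail a)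

/-- A pure tensor. -/
def pv (x : Fin t → Fin k → F) : (Fin t → Fin k) → F := fun a => ∏ i, x i (a i)

theorem pv_cons (x : Fin k → F) (y : Fin t → Fin k → F) : pv (Fin.cons x y) = cz x (pv y) := by
  funext a
  simp [pv, cz, Fin.prod_univ_succ, Fin.tail]

theorem kz_mulVec_cz (A : Matrix (Fin k) (Fin k) F) (B : Matrix (Fin t → Fin k) (Fin t → Fin k) F)
    (x : Fin k → F) (z : (Fin t → Fin k) → F) : kz A B *ᵥ cz x z = cz (A *ᵥ x) (B *ᵥ z) := by
  funext a
  simp only [Matrix.mulVec, dotProduct, cz, kz_apply, sum_cons, Fin.cons_zero, Fin.tail_cons, Finset.sum_mul,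
    Finset.mul_sum]
  rw [Finset.sum_comm (γ := Fin k)]
  exact Finset.sum_congr rfl fun b _ => Finset.sum_congr rfl fun w _ => by ring

theorem rk_cz (x y : Fin k → F) (z z' : (Fin t → Fin k) → F) :
    rk s (powI π (t + 1)) (cz x z) (cz y z') = kz (rk s π x y) (rk s (powI π t) z z') := by
  ext a b
  simp only [rk, cv, cz, vecMulVec_apply, kz_apply, map_mul, powI_apply]
  rw [show Fin.tail ((powI π (t + 1)).J b) = (powI π t).J (Fin.tail b) from rfl]
  ring

theorem rk_pv (x y : Fin t → Fin k → F) :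
    rk s (powI π t) (pv x) (pv y) = tens fun i => rk s π (x i) (y i) := by
  ext a b
  simp [rk, cv, pv, vecMulVec_apply, tens_apply, map_prod, powI_apply, Finset.prod_mul_distrib]

theorem hf_cz (x y : Fin k → F) (z z' : (Fin t → Fin k) → F) :
    hf s (powI π (t + 1)) (cz x z) (cz y z') = hf s π x y * hf s (powI π t) z z' := by
  simp only [hf, dotProduct, cv, cz, sum_cons, Fin.cons_zero, Fin.tail_cons, map_mul, powI_cons,
    Finset.sum_mul, Finset.mul_sum]
  rw [Finset.sum_comm (γ := Fin k)]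
  exact Finset.sum_congr rfl fun b _ => Finset.sum_congr rfl fun w _ => by ring

theorem adj_factorPerm (σ : Equiv.Perm (Fin t)) :
    adj s (powI π t) (factorPerm σ : GL (Fin t → Fin k) F).val * (factorPerm σ : GL (Fin t → Fin k) F).val = 1 := by
  have e : adj s (powI π t) (factorPerm σ : GL (Fin t → Fin k) F).val =
      (factorPerm σ : GL (Fin t → Fin k) F).valᵀ := by
    ext a b
    simp only [adj, factorPerm, Matrix.of_apply, Matrix.transpose_apply, apply_ite s.σ, map_one, map_zero]
    refine if_congr ⟨fun h => ?_, fun h => ?_⟩ rfl rfl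
    · funext i
      exact π.J.injective (congrFun h i)
    · funext i
      simp [powI_apply, h]
  rw [e, factorPerm_transpose_mul]

theorem factorPerm_mem_U (σ : Equiv.Perm (Fin t)) : (factorPerm σ : GL (Fin t → Fin k) F) ∈ U s (powI π t) :=
  (mem_U_iff s _).mpr (adj_factorPerm s π σ)

theorem tensGL_mem_U {gs : Fin t → GL (Fin k) F} (h : ∀ i, gs i ∈ U s π) : tensGL gs ∈ U s (powI π t) := by
  rw [mem_U_iff]
  show adj s (powI π t) (tens fun i => (gs i : Matrix (Fin k) (Fin k) F)) * tens (fun i => (gs i : Matrix (Fin k) (Fin k) F)) = 1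
  rw [adj_tens, tens_mul, ← tens_one]
  congr 1
  exact funext fun i => (mem_U_iff s π).mp (h i)

/-- The slots of an isometric wreath element are similitudes. -/
theorem similitude_of_mem [Finite F] {gs : Fin t → GL (Fin k) F} {σ : Equiv.Perm (Fin t)}
    (h : tensGL gs * factorPerm σ ∈ U s (powI π t)) (i : Fin t) :
    ∃ r : F, r ≠ 0 ∧ adj s π (gs i : Matrix (Fin k) (Fin k) F) * (gs i : Matrix (Fin k) (Fin k) F) = r • 1 := by
  have h1 : tensGL gs ∈ U s (powI π t) := by
    simpa [mul_assoc] using mul_mem h (inv_mem (factorPerm_mem_U s π σ))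
  rw [mem_U_iff] at h1
  change adj s (powI π t) (tens fun i => (gs i : Matrix (Fin k) (Fin k) F)) * tens (fun i => (gs i : Matrix (Fin k) (Fin k) F)) = 1 at h1
  rw [adj_tens, tens_mul] at h1
  obtain ⟨c, hc0, hc⟩ := tens_eq_one_imp h1 i
  exact ⟨c, hc0, hc⟩

/-- The special unitary group of the power. -/
abbrev SUp (t : ℕ) : Subgroup (GL (Fin t → Fin k) F) := HermStab.su (hf s (powI π t))

/-- The stabiliser of the decomposition in the special unitary group lies in `H`. -/
def ContainsU (H : Subgroup (GL (Fin t → Fin k) F)) : Prop :=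
  ∀ w ∈ Geo.tensorWreathStandard k t F, w ∈ SUp s π t → w ∈ H

/-- The isometry in one slot. -/
theorem slotU_mem_su {g : GL (Fin k) F} (hg : g ∈ HermStab.su (hf s π)) (i : Fin t) :
    slotU i g ∈ SUp s π t := by
  refine ⟨tensGL_mem_U s π fun j => ?_, det_slotU hg.2⟩
  rcases eq_or_ne j i with rfl | hj
  · rw [Function.update_self]; exact hg.1
  · rw [Function.update_of_ne hj]; exact one_mem _

/-- The root element of a slot. -/
noncomputable def sRoot (i : Fin t) (x : Fin k → F) (c : F) : GL (Fin t → Fin k) F :=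
  slotU i (ut (hf s π) x c)

theorem sRoot_coe (i : Fin t) {x : Fin k → F} (hx : hf s π x x = 0) (c : F) :
    (sRoot s π i x c).val = 1 + c • slot i (rk s π x x) := by
  rw [sRoot, slotU_coe, ut_coe s π hx, slot_one_add, slot_smul']

theorem sRoot_mem_wreath (i : Fin t) (x : Fin k → F) (c : F) :
    sRoot s π i x c ∈ Geo.tensorWreathStandard k t F := slotU_mem _ _

theorem sRoot_mem_su (i : Fin t) {x : Fin k → F} (hx : hf s π x x = 0) {c : F} (hc : c + s.σ c = 0) :
    sRoot s π i x c ∈ SUp s π t := slotU_mem_su s π (HermStab.ut_mem_su (isUnitary s π) hx hc) i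

theorem sRoot_mem {H : Subgroup (GL (Fin t → Fin k) F)} (hM : ContainsU s π H) (i : Fin t) {x : Fin k → F}
    (hx : hf s π x x = 0) {c : F} (hc : c + s.σ c = 0) : sRoot s π i x c ∈ H :=
  hM _ (sRoot_mem_wreath s π i x c) (sRoot_mem_su s π i hx hc)

theorem rk_self_ne_zero {x : Fin k → F} (hx : x ≠ 0) : rk s π x x ≠ 0 := fun h => by
  obtain ⟨b, hb⟩ := Function.ne_iff.mp hx
  have := congrFun (congrFun h b) (π.J b)
  simp [rk, cv, vecMulVec_apply, π.inv, hb] at this
  exact hb this

/-- A transvection of an isometry group is given by an isotropic line. -/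
theorem exists_of_rootNil {A : Matrix (Fin k) (Fin k) F} (hA : IsRootNil A) (hsk : adj s π A = -A) :
    ∃ x c, x ≠ 0 ∧ hf s π x x = 0 ∧ c + s.σ c = 0 ∧ c ≠ 0 ∧ A = c • rk s π x x := by
  obtain ⟨v, φ, hv, hφ, hφv, rfl⟩ := hA.exists_vecMulVec
  set y : Fin k → F := fun a => s.σ (φ (π.J a)) with hy
  have e : vecMulVec v φ = rk s π v y := by
    rw [rk]; congr 1; funext a; simp [cv, hy, π.inv, s.inv]
  rw [e, adj_rk] at hsk
  obtain ⟨b, hb⟩ := Function.ne_iff.mp hv
  have hvb : hf s π (Pi.single (π.J b) 1) v ≠ 0 := by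
    rw [hf_single, π.inv]; exact (map_ne_zero s.σ).mpr hb
  have h1 := congrArg (· *ᵥ Pi.single (π.J b) (1 : F)) hsk
  simp only [neg_mulVec, rk_mulVec] at h1
  set d := -(hf s π (Pi.single (π.J b) 1) y) / hf s π (Pi.single (π.J b) 1) v with hd
  have hyd : y = d • v := by
    have h2 := congrArg ((hf s π (Pi.single (π.J b) 1) v)⁻¹ • ·) h1
    simp only [smul_smul, inv_mul_cancel₀ hvb, one_smul, smul_neg] at h2
    rw [h2, hd]; module
  have hd0 : d ≠ 0 := by
    rintro h0
    rw [h0, zero_smul] at hyd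
    exact hφ (funext fun a => by simpa [hy, π.inv, s.inv] using congrArg s.σ (congrFun hyd (π.J a)))
  refine ⟨v, s.σ d, hv, ?_, ?_, (map_ne_zero s.σ).mpr hd0, by rw [e, hyd, rk_smul_right]⟩
  · have h3 : hf s π v y = 0 := by
      rw [← hφv, hf]
      congr 1
      funext a
      simp [cv, hy, π.inv, s.inv]
    rw [hyd, hf_smul_right, mul_eq_zero] at h3
    exact h3.resolve_left ((map_ne_zero s.σ).mpr hd0)
  · rw [hyd, rk_smul_left, rk_smul_right, ← neg_smul] at hsk
    have hne : rk s π v v ≠ 0 := rk_self_ne_zero s π hv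
    have h4 := smul_left_injective F hne hsk
    rw [s.inv]
    linear_combination h4

/-- A slot root inside the unitary group. -/
theorem exists_sRoot {g : GL (Fin t → Fin k) F} (hk : 0 < k) (hg : g ∈ U s (powI π t)) {i : Fin t}
    {A : Matrix (Fin k) (Fin k) F} (hA : IsRootNil A) (he : g.val = 1 + slot i A) :
    ∃ x c, x ≠ 0 ∧ hf s π x x = 0 ∧ c + s.σ c = 0 ∧ c ≠ 0 ∧ g = sRoot s π i x c := by
  have hinv : (g⁻¹).val = 1 - slot i A := by
    refine left_inv_eq_right_inv (Units.inv_mul g) ?_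
    rw [he, add_mul, mul_sub, one_mul, mul_sub, mul_one, ← slot_mul', hA.2, slot_zero']
    simp
  have h1 := inv_eq_adj s (powI π t) hg
  rw [hinv, he, adj_add, adj_one, adj_slot, sub_eq_add_neg, add_left_cancel_iff] at h1
  have hsk : adj s π A = -A := slot_injective hk i (h1.symm.trans (by
    rw [← neg_one_smul F A, slot_smul', neg_one_smul]))
  obtain ⟨x, c, hx0, hx, hc, hc0, rfl⟩ := exists_of_rootNil s π hA hsk
  exact ⟨x, c, hx0, hx, hc, hc0, Units.ext (by rw [he, sRoot_coe s π i hx, slot_smul'])⟩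

theorem isRootNil_rk {x : Fin k → F} (hx0 : x ≠ 0) (hx : hf s π x x = 0) {c : F} (hc : c ≠ 0) :
    IsRootNil (c • rk s π x x) := by
  refine ⟨le_antisymm ?_ ?_, by rw [smul_mul_smul_comm, rk_mul, hx, zero_smul, smul_zero]⟩
  · rw [rk, ← smul_vecMulVec]; exact rank_vecMulVec_le _ _
  · rw [Nat.one_le_iff_ne_zero]
    intro h0
    rw [ClMax99.TensorRank.rank_eq, Submodule.finrank_eq_zero, LinearMap.range_eq_bot] at h0
    exact smul_ne_zero hc (rk_self_ne_zero s π hx0) (Matrix.toLin'.injective (h0.trans (map_zero _).symm))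

theorem isSlotRoot_sRoot (i : Fin t) {x : Fin k → F} (hx0 : x ≠ 0) (hx : hf s π x x = 0) {c : F} (hc : c ≠ 0) :
    IsSlotRoot (sRoot s π i x c) :=
  ⟨i, _, isRootNil_rk s π hx0 hx hc, by rw [sRoot_coe s π i hx, slot_smul']⟩

end Cfsg.Agent.WreathU
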