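import Cfsg.Agent.WreathU.CaseB
import Cfsg.Agent.WreathU.Tensor
import Cfsg.Agent.WreathU.Swap
import Cfsg.Agent.WreathMax.NoFusion

/-!
Without fusion of slot roots, a root is moved out of the tensor wreath stabiliser by every outside
element; for factors of dimension three in characteristic two this needs an argument (helper5).
-/

set_option autoImplicit false
set_option linter.unusedSectionVars false

namespace Cfsg.Agent.WreathU

open Matrix Cfsg.Agent.MaxSub Cfsg.Agent.MaxSub.Asch Cfsg.Agent.FG75.SpinTensor Cfsg.Agent.WreathMax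

variable {F : Type*} [Field F] {k t : ℕ} (s : Conj F)

/-- No slot root is fused to a slot root by an element outside the stabiliser. -/
def NoFusU (π : Invol (Fin k)) (H : Subgroup (GL (Fin t → Fin k) F)) : Prop :=
  ∀ g ∈ H, g ∉ Geo.tensorWreathStandard k t F → ∀ i x c j y d,
    x ≠ 0 → hf s π x x = 0 → c ≠ 0 → c + s.σ c = 0 → y ≠ 0 → hf s π y y = 0 → d ≠ 0 → d + s.σ d = 0 →
    g⁻¹ * sRoot s π i x c * g ≠ sRoot s π j y d

theorem fix_skew (two : (2 : F) = 0) {c : F} (hc : s.σ c = c) : c + s.σ c = 0 := by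
  rw [hc, ← two_mul, two, zero_mul]

theorem mat_add_self (two : (2 : F) = 0) {ι : Type} (A : Matrix ι ι F) : A + A = 0 := by
  rw [← two_smul F A, two, zero_smul]

/-- With more than four elements some element other than zero and one is fixed. -/
theorem exists_fixed (two : (2 : F) = 0) (h4 : Nat.card F ≠ 4) : ∃ ν, s.σ ν = ν ∧ ν ≠ 0 ∧ ν ≠ 1 := by
  classical
  by_contra hc
  push Not at hc
  have hfix : ∀ b, s.σ b = b → b = 0 ∨ b = 1 := fun b hb => or_iff_not_imp_left.mpr (hc b hb)
  have htr : ∀ b, s.σ b ≠ b → b + s.σ b = 1 := fun b hb =>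
    (hfix _ (by rw [map_add, s.inv, add_comm])).resolve_left fun h0 =>
      hb (by linear_combination h0 - b * two)
  obtain ⟨a, ha⟩ := s.exists_moved
  have ha0 : a ≠ 0 := fun h => ha (by rw [h, map_zero])
  have ha1 : a ≠ 1 := fun h => ha (by rw [h, map_one])
  have hall : ∀ b : F, b ∈ ({0, 1, a, a + 1} : Finset F) := fun b => by
    simp only [Finset.mem_insert, Finset.mem_singleton]
    by_cases hb : s.σ b = b
    · rcases hfix b hb with h | h
      · exact Or.inl h
      · exact Or.inr (Or.inl h)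
    · have h1 := htr a ha
      have h2 := htr b hb
      rcases hfix (a + b) (by rw [map_add]; linear_combination h1 + h2 + (-a - b + 1) * two) with h | h
      · exact Or.inr (Or.inr (Or.inl (by linear_combination h - a * two)))
      · exact Or.inr (Or.inr (Or.inr (by linear_combination h - a * two)))
  refine h4 ?_
  rw [show Nat.card F = ({0, 1, a, a + 1} : Finset F).card by
    rw [← Nat.card_eq_finsetCard]; exact Nat.card_congr (Equiv.subtypeUnivEquiv hall).symm]
  have h1 : a + 1 ≠ 0 := fun h => ha1 (by linear_combination h - two)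
  have h2 : a + 1 ≠ 1 := fun h => ha0 (by linear_combination h)
  have h3 : a ≠ a + 1 := fun h => one_ne_zero (by linear_combination -h : (1 : F) = 0)
  rw [Finset.card_insert_of_notMem, Finset.card_insert_of_notMem, Finset.card_pair h3] <;>
    simp [Ne.symm ha0, Ne.symm ha1, Ne.symm h1, Ne.symm h2]

theorem ut_mul_ut (π : Invol (Fin k)) {v : Fin k → F} (hv : hf s π v v = 0) (a b : F) :
    ut (hf s π) v a * ut (hf s π) v b = ut (hf s π) v (a + b) := by
  refine Units.ext ?_
  rw [Units.val_mul, ut_coe s π hv, ut_coe s π hv, ut_coe s π hv, add_mul, one_mul, mul_add, mul_one,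
    smul_mul_smul_comm, rk_mul, hv, zero_smul, smul_zero, add_zero, add_smul]
  abel

theorem ut_zero (π : Invol (Fin k)) {v : Fin k → F} (hv : hf s π v v = 0) : ut (hf s π) v 0 = 1 :=
  Units.ext (by rw [ut_coe s π hv, zero_smul, add_zero, Units.val_one])

theorem slotU_one (i : Fin t) : slotU i (1 : GL (Fin k) F) = 1 :=
  Units.ext (by rw [slotU_coe, Units.val_one, slot_one', Units.val_one])

/-- Moving a slot past an element of the stabiliser. -/
theorem wreath_slot (gs : Fin t → GL (Fin k) F) (σ : Equiv.Perm (Fin t)) (i : Fin t)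
    (A : Matrix (Fin k) (Fin k) F) :
    (tensGL gs * factorPerm σ : GL (Fin t → Fin k) F).val * slot i A =
      slot (σ i) ((gs (σ i)).val * A * ((gs (σ i))⁻¹).val) * (tensGL gs * factorPerm σ : GL (Fin t → Fin k) F).val := by
  rw [Units.val_mul, mul_assoc, factorPerm_mul_slot, ← mul_assoc, ← mul_assoc]
  congr 1
  show tens (fun l => (gs l).val) * slot (σ i) A = slot (σ i) _ * tens (fun l => (gs l).val)
  rw [slot_mul_tens, tens_mul_slot]
  congr 1
  funext l
  rcases eq_or_ne l (σ i) with rfl | hl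
  · simp
  · simp [Function.update_of_ne hl]

theorem scalar_of_slot_eq (hk : 0 < k) {i j : Fin t} (hij : i ≠ j) {U B : Matrix (Fin k) (Fin k) F}
    (h : slot i U = slot j B) : ∃ c : F, U = c • 1 := by
  obtain ⟨c, hc⟩ := Matrix.mem_range_scalar_of_commute_single (M := U) fun a b _ => by
    refine slot_injective hk i ?_
    rw [slot_mul', slot_mul', h, slot_comm hij]
  exact ⟨c, by rw [← hc, Matrix.scalar_apply, ← Matrix.smul_one_eq_diagonal]⟩

theorem tensGL_ratio {p q : Fin t → GL (Fin k) F} (h : (tensGL p : GL (Fin t → Fin k) F) = tensGL q) (i : Fin t) :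
    ∃ c : F, c ≠ 0 ∧ (p i).val = c • (q i).val := by
  have h1 : (tensGL (q⁻¹ * p) : GL (Fin t → Fin k) F) = 1 := by
    rw [← tensGL_mul, h, tensGL_mul, inv_mul_cancel, tensGL_one]
  obtain ⟨c, hc, hi⟩ := tens_eq_one_imp (congrArg Units.val h1) i
  refine ⟨c, hc, ?_⟩
  have h2 : (q i).val * (((q⁻¹ * p) i).val) = (p i).val := by
    rw [← Units.val_mul, Pi.mul_apply, Pi.inv_apply, mul_inv_cancel_left]
  rw [← h2, hi, mul_smul_comm, mul_one]

theorem rank_le_one {M : Matrix (Fin k) (Fin k) F} (h3 : k = 3) (hM : M * M = 0) (h0 : M ≠ 0) : IsRootNil M := by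
  refine ⟨le_antisymm ?_ ?_, hM⟩
  · have := Matrix.rank_add_rank_le_card_of_mul_eq_zero hM
    rw [Fintype.card_fin] at this
    omega
  · rw [Nat.one_le_iff_ne_zero]
    intro h
    rw [ClMax99.TensorRank.rank_eq, Submodule.finrank_eq_zero, LinearMap.range_eq_bot] at h
    exact h0 (Matrix.toLin'.injective (h.trans (map_zero _).symm))

variable (hk : 3 ≤ k)

theorem eo_ne_zero₀ : eo (F := F) hk ≠ 0 := fun h => by
  simpa [eo] using congrFun h (i0 hk)

/-- A similitude whose square is scalar is a scalar multiple of a transvection. -/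
theorem exists_line [Finite F] (two : (2 : F) = 0) (h3 : k = 3) {p : GL (Fin k) F} {e r : F}
    (hpp : p.val * p.val = e • 1) (hr : adj s (sw hk) p.val * p.val = r • 1) :
    ∃ (d c : F) (v : Fin k → F), v ≠ 0 ∧ hf s (sw hk) v v = 0 ∧ p.val = d • (1 + c • rk s (sw hk) v v) := by
  have : CharP F 2 := CharTwo.of_one_ne_zero_of_two_eq_zero one_ne_zero two
  obtain ⟨d, hd⟩ := FiniteField.isSquare_of_char_two (ringChar.eq F 2) e
  have hone : (1 : Matrix (Fin k) (Fin k) F) ≠ 0 := by
    intro h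
    simpa using congrFun (congrFun h (i0 hk)) (i0 hk)
  have hd0 : d ≠ 0 := by
    intro h0
    rw [hd, h0, mul_zero, zero_smul, ← Units.val_mul] at hpp
    exact hone (by rw [← Units.mul_inv (p * p), hpp, zero_mul])
  set q := d⁻¹ • p.val with hq
  have hqq : q * q = 1 := by
    rw [hq, smul_mul_smul_comm, hpp, smul_smul, hd,
      show d⁻¹ * d⁻¹ * (d * d) = 1 by field_simp, one_smul]
  set r' := s.σ d⁻¹ * d⁻¹ * r with hr'
  have hadj : adj s (sw hk) q = r' • q := by
    have h1 : adj s (sw hk) q * q = r' • 1 := by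
      rw [hq, adj_smul, smul_mul_smul_comm, hr, smul_smul, hr']
    have h2 := congrArg (· * q) h1
    simpa [mul_assoc, hqq, smul_mul_assoc] using h2
  set M := q + 1 with hM
  have hqM : q = 1 + M := by rw [hM, add_left_comm, mat_add_self two, add_zero]
  have hMM : M * M = 0 := by
    rw [hM, add_mul, one_mul, mul_add, mul_one, hqq, add_comm q 1, mat_add_self two]
  have hr1 : r' = 1 := by
    have h1 : adj s (sw hk) (M * M) = 0 := by rw [hMM, adj_zero]
    rw [adj_mul, hM, adj_add, adj_one, hadj, add_mul, one_mul, mul_add, mul_one, smul_mul_smul_comm, hqq,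
      show (r' * r') • (1 : Matrix (Fin k) (Fin k) F) + r' • q + (r' • q + 1) =
        (r' * r') • 1 + 1 + (r' • q + r' • q) by abel, mat_add_self two, add_zero] at h1
    have h2 := congrFun (congrFun h1 (i0 hk)) (i0 hk)
    simp at h2
    have h4 : (r' + 1) * (r' + 1) = 0 := by linear_combination h2 + r' * two
    linear_combination (mul_self_eq_zero.mp h4) - two
  rw [hr1, one_smul] at hadj
  have hskew : adj s (sw hk) M = -M := by
    rw [hM, adj_add, hadj, adj_one, eq_neg_iff_add_eq_zero, mat_add_self two]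
  have hpq : p.val = d • q := by rw [hq, smul_smul, mul_inv_cancel₀ hd0, one_smul]
  by_cases hM0 : M = 0
  · exact ⟨d, 0, eo hk, eo_ne_zero₀ hk, eo_iso s hk, by rw [hpq, hqM, hM0, zero_smul]⟩
  obtain ⟨v, c, hv0, hv, -, -, hMv⟩ := exists_of_rootNil s (sw hk) (rank_le_one h3 hMM hM0) hskew
  exact ⟨d, c, v, hv0, hv, by rw [hpq, hqM, hMv]⟩

/-- Orthogonal isotropic vectors are proportional in dimension three. -/
theorem prop_of_orth [Finite F] (h3 : k = 3) {x v : Fin k → F} (hx : hf s (sw hk) x x = 0) (hx0 : x ≠ 0)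
    (hv : hf s (sw hk) v v = 0) (hvx : hf s (sw hk) v x = 0) : ∃ a : F, v = a • x := by
  obtain ⟨g, hg, r, hr, hgx⟩ := exists_map_ew s hk hx hx0
  set v' := (g⁻¹).val *ᵥ v
  have hgv : g.val *ᵥ v' = v := by rw [mulVec_mulVec, Units.mul_inv, one_mulVec]
  have h0 : v' (i0 hk) = 0 := by
    have h1 := mem_isom.mp hg.1 v' (r • ew hk)
    rw [hgv, hgx, hvx, hf_smul_right, f_ew] at h1
    exact (mul_eq_zero.mp h1.symm).resolve_left ((map_ne_zero s.σ).mpr hr)
  have hvv : hf s (sw hk) v' v' = 0 := by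
    rw [← mem_isom.mp hg.1 v' v', hgv, hv]
  obtain ⟨z, hz, hv'⟩ := decomp (hk := hk) v'
  rw [h0, zero_smul, add_zero] at hv'
  let n : Fin k := ⟨2, by omega⟩
  have hn0 : n ≠ i0 hk := by simp [n, i0, Fin.ext_iff]
  have hn1 : n ≠ i1 hk := by simp [n, i1, Fin.ext_iff]
  have hzn : z = z n • Pi.single n (1 : F) := by
    funext j
    by_cases hj : j = n
    · subst hj; simp
    · rcases (show j = i0 hk ∨ j = i1 hk by
        simp [i0, i1, n, Fin.ext_iff] at hj ⊢; omega) with h | h <;> subst h <;> simp [hz.1, hz.2, Ne.symm hn0, Ne.symm hn1]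
  have hzz : z n = 0 := by
    rw [hv'] at hvv
    simp only [hf_add_left, hf_add_right, hf_smul_left, hf_smul_right, ew_iso, hz.ew, hz.ew', mul_zero, zero_add,
      add_zero] at hvv
    rw [hzn, hf_smul_left, hf_smul_right, f_single_single,
      if_pos (show (sw hk).J n = n from Equiv.swap_apply_of_ne_of_ne hn0 hn1), mul_one] at hvv
    rcases mul_eq_zero.mp hvv with h | h
    · exact h
    · exact (map_eq_zero s.σ).mp h
  rw [hzn, hzz, zero_smul, add_zero] at hv'
  refine ⟨v' (i1 hk) / r, ?_⟩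
  conv_lhs => rw [← hgv, hv']
  rw [mulVec_smul, ← hgx, mulVec_smul, smul_smul, div_mul_cancel₀ _ hr]

/-- A similitude commuting with a root, with scalar square, lies in the line of the root. -/
theorem exists_coef [Finite F] (two : (2 : F) = 0) (h3 : k = 3) {x : Fin k → F} (hx : hf s (sw hk) x x = 0)
    (hx0 : x ≠ 0) {p : GL (Fin k) F} {e r : F} (hpp : p.val * p.val = e • 1)
    (hr : adj s (sw hk) p.val * p.val = r • 1) (hcom : p.val * rk s (sw hk) x x = rk s (sw hk) x x * p.val) :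
    ∃ d c : F, p.val = d • (1 + c • rk s (sw hk) x x) := by
  obtain ⟨d, c, v, hv0, hv, hp⟩ := exists_line s hk two h3 hpp hr
  by_cases hc : c = 0
  · exact ⟨d, 0, by rw [hp, hc, zero_smul, zero_smul]⟩
  suffices ∃ a : F, v = a • x by
    obtain ⟨a, rfl⟩ := this
    exact ⟨d, c * (a * s.σ a), by rw [hp, rk_smul_left, rk_smul_right, smul_smul, smul_smul]; ring_nf⟩
  obtain ⟨b, hb⟩ := Function.ne_iff.mp hx0
  set z : Fin k → F := Pi.single ((sw hk).J b) 1
  have hzx : hf s (sw hk) z x ≠ 0 := by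
    rw [hf_single, (sw hk).inv]; exact (map_ne_zero s.σ).mpr hb
  obtain ⟨κ, hκ⟩ : ∃ κ : F, p.val *ᵥ x = κ • x := by
    have h1 := congrArg (· *ᵥ z) hcom
    simp only [← mulVec_mulVec, rk_mulVec, mulVec_smul] at h1
    refine ⟨(hf s (sw hk) z x)⁻¹ * hf s (sw hk) (p.val *ᵥ z) x, ?_⟩
    rw [← smul_smul, ← h1, inv_smul_smul₀ hzx]
  by_cases hxv : hf s (sw hk) x v = 0
  · exact prop_of_orth s hk h3 hx hx0 hv (hswap_zero (isUnitary s _) hxv)
  have hd : d ≠ 0 := fun h0 => by
    rw [h0, zero_smul] at hp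
    have := congrFun (congrFun (Units.mul_inv p) (i0 hk)) (i0 hk)
    simp [hp] at this
  rw [hp, smul_mulVec, add_mulVec, one_mulVec, smul_mulVec, rk_mulVec, smul_smul] at hκ
  refine ⟨(κ - d) / (d * (c * hf s (sw hk) x v)), ?_⟩
  have hne : d * (c * hf s (sw hk) x v) ≠ 0 := mul_ne_zero hd (mul_ne_zero hc hxv)
  rw [div_eq_inv_mul, ← smul_smul, eq_inv_smul_iff₀ hne, sub_smul, ← hκ]
  module

theorem coef_mul {x : Fin k → F} (hx : hf s (sw hk) x x = 0) (α β a b : F) :
    (α • (1 + a • rk s (sw hk) x x)) * (β • (1 + b • rk s (sw hk) x x)) =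
      (α * β) • (1 + (a + b) • rk s (sw hk) x x) := by
  rw [smul_mul_smul_comm, add_mul, one_mul, mul_add, mul_one, smul_mul_smul_comm, rk_mul, hx, zero_smul,
    smul_zero, add_zero, add_smul]
  congr 1
  abel

theorem coef_inj {x : Fin k → F} (hx : hf s (sw hk) x x = 0) (hx0 : x ≠ 0) {α β a b : F} (hα : α ≠ 0)
    (h : α • (1 + a • rk s (sw hk) x x) = β • (1 + b • rk s (sw hk) x x)) : a = b := by
  have h1 := congrArg (· *ᵥ x) h
  simp only [smul_mulVec, add_mulVec, one_mulVec, rk_mulVec, hx, zero_smul, smul_zero, add_zero] at h1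
  have hab : α = β := smul_left_injective F hx0 h1
  rw [← hab] at h
  have h2 := add_left_cancel (smul_right_injective (Matrix (Fin k) (Fin k) F) hα h)
  exact smul_left_injective F (rk_self_ne_zero s (sw hk) hx0) h2

theorem braid_ring {R : Type*} [Ring R] (htwo : ∀ r : R, r + r = 0) {a b : R} (ha : a * a = 0) (hb : b * b = 0)
    (hab : a * b * a = a) (hba : b * a * b = b) :
    (1 + a) * (1 + b) * (1 + a) = (1 + b) * (1 + a) * (1 + b) := by
  have e1 : (1 + a) * (1 + b) * (1 + a) = (1 + a + b + a * b + b * a) + a * a + (a + a * b * a) := by noncomm_ring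
  have e2 : (1 + b) * (1 + a) * (1 + b) = (1 + a + b + a * b + b * a) + b * b + (b + b * a * b) := by noncomm_ring
  rw [e1, e2, ha, hb, hab, hba, htwo, htwo]

theorem ut_braid (two : (2 : F) = 0) {z z' : Fin k → F} (hz : hf s (sw hk) z z = 0) (hz' : hf s (sw hk) z' z' = 0)
    {l m : F} (h : l * m * (hf s (sw hk) z' z * hf s (sw hk) z z') = 1) :
    ut (hf s (sw hk)) z l * ut (hf s (sw hk)) z' m * ut (hf s (sw hk)) z l =
      ut (hf s (sw hk)) z' m * ut (hf s (sw hk)) z l * ut (hf s (sw hk)) z' m := by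
  refine Units.ext ?_
  simp only [Units.val_mul, ut_coe s (sw hk) hz, ut_coe s (sw hk) hz']
  refine braid_ring (mat_add_self two) ?_ ?_ ?_ ?_
  · rw [smul_mul_smul_comm, rk_mul, hz, zero_smul, smul_zero]
  · rw [smul_mul_smul_comm, rk_mul, hz', zero_smul, smul_zero]
  · rw [smul_mul_smul_comm, rk_mul, smul_smul, smul_mul_smul_comm, rk_mul, smul_smul,
      show l * m * hf s (sw hk) z' z * l * hf s (sw hk) z z' = l by linear_combination l * h]
  · rw [smul_mul_smul_comm, rk_mul, smul_smul, smul_mul_smul_comm, rk_mul, smul_smul,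
      show m * l * hf s (sw hk) z z' * m * hf s (sw hk) z' z = m by linear_combination m * h]

section Fusion

variable [Fintype F] {H : Subgroup (GL (Fin t → Fin k) F)}

/-- A root fused into the stabiliser becomes a swap of two slots. -/
theorem root_image (ht : 1 ≤ t) (hH : H ≤ SUp s (sw hk) t) (hM : ContainsU s (sw hk) H)
    (hN : NoFusU s (sw hk) H) {g : GL (Fin t → Fin k) F} (hg : g ∈ H)
    (hgW : g ∉ Geo.tensorWreathStandard k t F) {i : Fin t} {x : Fin k → F} {c : F} (hx0 : x ≠ 0)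
    (hx : hf s (sw hk) x x = 0) (hc0 : c ≠ 0) (hc : c + s.σ c = 0)
    (hW : g⁻¹ * sRoot s (sw hk) i x c * g ∈ Geo.tensorWreathStandard k t F) :
    (2 : F) = 0 ∧ k = 3 ∧ ∃ gs a b, a ≠ b ∧
      g⁻¹ * sRoot s (sw hk) i x c * g = tensGL gs * factorPerm (Equiv.swap a b) := by
  obtain ⟨h2, hr⟩ := sq_zero_conj (g := g) (isSlotRoot_sRoot s (sw hk) i hx0 hx hc0)
  rcases root_class hk ht hW h2 hr.le with h | h | h
  · exfalso
    rw [h, Units.val_one, sub_self, Matrix.rank_zero] at hr
    exact (pow_pos (show 0 < k by omega) (t - 1)).ne hr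
  · exfalso
    obtain ⟨j, A, hA, he⟩ := h
    have hU : g⁻¹ * sRoot s (sw hk) i x c * g ∈ U s (powI (sw hk) t) :=
      (hH (mul_mem (mul_mem (inv_mem hg) (sRoot_mem s (sw hk) hM i hx hc)) hg)).1
    obtain ⟨y, d, hy0, hy, hd, hd0, e⟩ := exists_sRoot s (sw hk) (by omega) hU hA he
    exact hN g hg hgW i x c j y d hx0 hx hc0 hc hy0 hy hd0 hd e
  · exact h

/-- Members commuting with a root lie in the stabiliser. -/
theorem mem_of_commute (hN : NoFusU s (sw hk) H) {i : Fin t} {x : Fin k → F} {c : F} (hx0 : x ≠ 0)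
    (hx : hf s (sw hk) x x = 0) (hc0 : c ≠ 0) (hc : c + s.σ c = 0) {h : GL (Fin t → Fin k) F} (hh : h ∈ H)
    (hu : Commute (sRoot s (sw hk) i x c) h) : h ∈ Geo.tensorWreathStandard k t F := by
  by_contra hW
  refine hN h hh hW i x c i x c hx0 hx hc0 hc hx0 hx hc0 hc ?_
  rw [mul_assoc, hu.eq, inv_mul_cancel_left]

theorem false_of_three (ht : 3 ≤ t) (hH : H ≤ SUp s (sw hk) t) (hM : ContainsU s (sw hk) H)
    (hN : NoFusU s (sw hk) H) (two : (2 : F) = 0) (h3 : k = 3) (h4 : Nat.card F ≠ 4)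
    {g : GL (Fin t → Fin k) F} (hg : g ∈ H) (hgW : g ∉ Geo.tensorWreathStandard k t F)
    {i : Fin t} {x : Fin k → F} {c : F} (hx0 : x ≠ 0) (hx : hf s (sw hk) x x = 0) (hc0 : c ≠ 0)
    (hc : c + s.σ c = 0) {gs : Fin t → GL (Fin k) F} {a b : Fin t}
    (hw : g⁻¹ * sRoot s (sw hk) i x c * g = tensGL gs * factorPerm (Equiv.swap a b)) : False := by
  set u := sRoot s (sw hk) i x c with hu
  set w : GL (Fin t → Fin k) F := tensGL gs * factorPerm (Equiv.swap a b) with hwd
  have huu : u * u = 1 := by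
    rw [hu, sRoot_mul s (sw hk) i hx, ← two_mul, two, zero_mul, sRoot, ut_zero s (sw hk) hx, slotU_one]
  have hww : w * w = 1 := by
    rw [← hw, show g⁻¹ * u * g * (g⁻¹ * u * g) = g⁻¹ * (u * u) * g by group, huu, mul_one, inv_mul_cancel]
  have hwU : w ∈ U s (powI (sw hk) t) := by
    rw [← hw]; exact (hH (mul_mem (mul_mem (inv_mem hg) (sRoot_mem s (sw hk) hM i hx hc)) hg)).1
  obtain ⟨l, hla, hlb⟩ : ∃ l, l ≠ a ∧ l ≠ b := by
    by_contra hcon
    push Not at hcon
    have h0 := hcon ⟨0, by omega⟩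
    have h1 := hcon ⟨1, by omega⟩
    have h2 := hcon ⟨2, by omega⟩
    simp only [ne_eq, Fin.ext_iff] at h0 h1 h2
    omega
  have hsl : Equiv.swap a b l = l := Equiv.swap_apply_of_ne_of_ne hla hlb
  obtain ⟨e, he⟩ : ∃ e : F, (gs l).val * (gs l).val = e • 1 := by
    have h1 : (tensGL (gs * fun j => gs ((Equiv.swap a b).symm j)) : GL (Fin t → Fin k) F) = 1 := by
      have h2 := hww
      rwa [hwd, wreath_mul, Equiv.swap_mul_self, factorPerm_one, mul_one] at h2
    obtain ⟨e, -, he⟩ := tens_eq_one_imp (congrArg Units.val h1) l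
    exact ⟨e, by simpa [Equiv.symm_swap, hsl] using he⟩
  obtain ⟨r, -, hr⟩ := similitude_of_mem s (sw hk) hwU l
  obtain ⟨d, c', v, hv0, hv, hp⟩ := exists_line s hk two h3 he hr
  have hcom : (gs l).val * rk s (sw hk) v v = rk s (sw hk) v v * (gs l).val := by
    rw [hp, smul_mul_assoc, mul_smul_comm, add_mul, mul_add, one_mul, mul_one, smul_mul_assoc, mul_smul_comm]
  have hδ : ∀ m : F, Commute w (sRoot s (sw hk) l v m) := fun m => by
    show w * _ = _ * w
    refine Units.ext ?_
    show w.val * (sRoot s (sw hk) l v m).val = (sRoot s (sw hk) l v m).val * w.val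
    rw [sRoot_coe s (sw hk) l hv, mul_add, add_mul, mul_one, one_mul,
      mul_smul_comm, smul_mul_assoc, hwd, wreath_slot, hsl, hcom, mul_assoc (rk s (sw hk) v v),
      Units.mul_inv, mul_one]
  have hswap : ∀ m : F, s.σ m = m → m ≠ 0 → ∃ ps a' b', a' ≠ b' ∧
      g * sRoot s (sw hk) l v m * g⁻¹ = tensGL ps * factorPerm (Equiv.swap a' b') := by
    intro m hm hm0
    have hin : g * sRoot s (sw hk) l v m * g⁻¹ ∈ H :=
      mul_mem (mul_mem hg (sRoot_mem s (sw hk) hM l hv (fix_skew s two hm))) (inv_mem hg)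
    have hcu : Commute u (g * sRoot s (sw hk) l v m * g⁻¹) := by
      have := (hδ m).map (MulAut.conj g).toMonoidHom
      rw [show u = g * w * g⁻¹ by rw [← hw]; group]
      exact this
    have hW := mem_of_commute s hk hN hx0 hx hc0 hc hin hcu
    have h := root_image s hk (g := g⁻¹) (show 1 ≤ t by omega) hH hM hN (inv_mem hg)
      (fun h => hgW (inv_mem_iff.mp h)) hv0 hv hm0 (fix_skew s two hm) (i := l) (by rwa [inv_inv])
    rw [inv_inv] at h
    exact h.2.2
  obtain ⟨ν, hν, hν0, hν1⟩ := exists_fixed s two h4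
  have hν2 : 1 + ν ≠ 0 := fun h => hν1 (by linear_combination h - two)
  obtain ⟨p1, a1, b1, hab1, e1⟩ := hswap 1 (map_one _) one_ne_zero
  obtain ⟨p2, a2, b2, hab2, e2⟩ := hswap ν hν hν0
  obtain ⟨p3, a3, b3, hab3, e3⟩ := hswap (1 + ν) (by rw [map_add, map_one, hν]) hν2
  have hprod : (tensGL p1 * factorPerm (Equiv.swap a1 b1) : GL (Fin t → Fin k) F) *
      (tensGL p2 * factorPerm (Equiv.swap a2 b2)) = tensGL p3 * factorPerm (Equiv.swap a3 b3) := by
    rw [← e1, ← e2, ← e3, ← sRoot_mul s (sw hk) l hv]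
    group
  rw [wreath_mul] at hprod
  have hs := congrArg Equiv.Perm.sign (perm_unique (show 2 ≤ k by omega) hprod)
  rw [Equiv.Perm.sign_mul, Equiv.Perm.sign_swap hab1, Equiv.Perm.sign_swap hab2, Equiv.Perm.sign_swap hab3] at hs
  exact absurd hs (by decide)

theorem false_of_two (hH : H ≤ SUp s (sw hk) t) (hM : ContainsU s (sw hk) H)
    (hN : NoFusU s (sw hk) H) (two : (2 : F) = 0) (h3 : k = 3) (h4 : Nat.card F ≠ 4)
    {g : GL (Fin t → Fin k) F} (hg : g ∈ H) (hgW : g ∉ Geo.tensorWreathStandard k t F)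
    {i : Fin t} {x : Fin k → F} {c : F} (hx0 : x ≠ 0) (hx : hf s (sw hk) x x = 0) (hc0 : c ≠ 0)
    (hc : c + s.σ c = 0) {gs : Fin t → GL (Fin k) F} {a b : Fin t} (hab : a ≠ b) (ht : t = 2)
    (hw : g⁻¹ * sRoot s (sw hk) i x c * g = tensGL gs * factorPerm (Equiv.swap a b)) : False := by
  set u := sRoot s (sw hk) i x c with hu
  set w : GL (Fin t → Fin k) F := tensGL gs * factorPerm (Equiv.swap a b) with hwd
  have huu : u * u = 1 := by
    rw [hu, sRoot_mul s (sw hk) i hx, ← two_mul, two, zero_mul, sRoot, ut_zero s (sw hk) hx, slotU_one]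
  have hww : w * w = 1 := by
    rw [← hw, show g⁻¹ * u * g * (g⁻¹ * u * g) = g⁻¹ * (u * u) * g by group, huu, mul_one, inv_mul_cancel]
  have hwH : w ∈ H := by
    rw [← hw]; exact mul_mem (mul_mem (inv_mem hg) (sRoot_mem s (sw hk) hM i hx hc)) hg
  have hk0 : 0 < k := by omega
  obtain ⟨j, hji, hj⟩ : ∃ j, j ≠ i ∧ ∀ l, l ≠ i → l = j := by
    by_cases hai : a = i
    · refine ⟨b, fun h => hab (hai.trans h.symm), fun l hl => ?_⟩
      simp only [ne_eq, Fin.ext_iff] at *
      omega
    · refine ⟨a, hai, fun l hl => ?_⟩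
      simp only [ne_eq, Fin.ext_iff] at *
      omega
  have hRb : ∀ A : GL (Fin k) F, w * slotU a A * w = slotU b (gs b * A * (gs b)⁻¹) := fun A => by
    have h1 : w * slotU a A = slotU b (gs b * A * (gs b)⁻¹) * w := Units.ext (by
      show w.val * (slotU a A).val = (slotU b (gs b * A * (gs b)⁻¹)).val * w.val
      rw [slotU_coe, slotU_coe, hwd, wreath_slot, Equiv.swap_apply_left,
        Units.val_mul (gs b * A), Units.val_mul (gs b)])
    rw [h1, mul_assoc, hww, mul_one]
  have hcomm : ∀ A B : GL (Fin k) F, slotU a B * (w * slotU a A * w) = w * slotU a A * w * slotU a B :=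
    fun A B => by
      rw [hRb]
      exact Units.ext (by rw [Units.val_mul, Units.val_mul, slotU_coe, slotU_coe, slot_comm hab])
  let φ : GL (Fin k) F → GL (Fin t → Fin k) F := fun A => slotU a A * (w * slotU a A * w)
  have hφmul : ∀ A B, φ (A * B) = φ A * φ B := fun A B => by
    show slotU a (A * B) * (w * slotU a (A * B) * w) =
      slotU a A * (w * slotU a A * w) * (slotU a B * (w * slotU a B * w))
    rw [slotU_mul]
    calc slotU a A * slotU a B * (w * (slotU a A * slotU a B) * w)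
        = slotU a A * (slotU a B * (w * slotU a A * w)) * (w * slotU a B * w) := by
          simp only [mul_assoc]; rw [← mul_assoc w w, hww, one_mul]
      _ = slotU a A * (w * slotU a A * w * slotU a B) * (w * slotU a B * w) := by rw [hcomm]
      _ = _ := by simp only [mul_assoc]
  have hφ1 : φ 1 = 1 := by
    show slotU a 1 * (w * slotU a 1 * w) = 1
    rw [slotU_one, mul_one, one_mul, hww]
  have hφw : ∀ A, Commute w (φ A) := fun A => by
    show w * (slotU a A * (w * slotU a A * w)) = slotU a A * (w * slotU a A * w) * w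
    conv_rhs => rw [hcomm A A]
    simp only [mul_assoc]
  have hP : ∀ (z : Fin k → F) (m : F), hf s (sw hk) z z = 0 → s.σ m = m →
      ∃ (p : Fin t → GL (Fin k) F) (d c' : F),
      g * φ (ut (hf s (sw hk)) z m) * g⁻¹ = tensGL p ∧ (p i).val = d • (1 + c' • rk s (sw hk) x x) := by
    intro z m hz hm
    set A := ut (hf s (sw hk)) z m with hA
    have hφH : φ A ∈ H := by
      have hR : slotU a A ∈ H := sRoot_mem s (sw hk) hM a hz (fix_skew s two hm)
      exact mul_mem hR (mul_mem (mul_mem hwH hR) hwH)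
    set h := g * φ A * g⁻¹ with hh
    have hhH : h ∈ H := mul_mem (mul_mem hg hφH) (inv_mem hg)
    have hhu : Commute u h := by
      have := (hφw A).map (MulAut.conj g).toMonoidHom
      rw [show u = g * w * g⁻¹ by rw [← hw]; group]
      exact this
    obtain ⟨p, π, hpπ⟩ := exists_wreath_elem (mem_of_commute s hk hN hx0 hx hc0 hc hhH hhu)
    have hN0 : h.val * slot i (rk s (sw hk) x x) = slot i (rk s (sw hk) x x) * h.val := by
      have h1 : (sRoot s (sw hk) i x c).val * h.val = h.val * (sRoot s (sw hk) i x c).val :=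
        congrArg Units.val hhu.eq
      rw [sRoot_coe s (sw hk) i hx, add_mul, mul_add, one_mul, mul_one,
        mul_smul_comm, smul_mul_assoc, add_left_cancel_iff] at h1
      exact (smul_right_injective (Matrix (Fin t → Fin k) (Fin t → Fin k) F) hc0 h1).symm
    rw [hpπ, wreath_slot] at hN0
    have hN1 : slot (π i) ((p (π i)).val * rk s (sw hk) x x * ((p (π i))⁻¹).val) = slot i (rk s (sw hk) x x) :=
      (tensGL p * factorPerm π).isUnit.mul_right_cancel hN0
    have hπi : π i = i := by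
      by_contra hne
      obtain ⟨e, he⟩ := scalar_of_slot_eq hk0 (Ne.symm hne) hN1.symm
      have h1 := congrArg (· *ᵥ x) he
      simp only [rk_mulVec, hx, zero_smul, smul_mulVec, one_mulVec] at h1
      rw [(smul_eq_zero.mp h1.symm).resolve_right hx0, zero_smul] at he
      exact rk_self_ne_zero s (sw hk) hx0 he
    have hπ : π = 1 := by
      refine Equiv.ext fun l => ?_
      by_cases hl : l = i
      · rw [hl]; exact hπi
      · have hl' : π l ≠ i := fun e => hl (π.injective (e.trans hπi.symm))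
        exact (hj _ hl').trans (hj l hl).symm
    rw [hπi] at hN1
    have hN2 : (p i).val * rk s (sw hk) x x = rk s (sw hk) x x * (p i).val := by
      have h1 := congrArg (· * (p i).val) (slot_injective hk0 i hN1)
      simpa [mul_assoc] using h1
    subst hπ
    rw [factorPerm_one, mul_one] at hpπ
    obtain ⟨r, -, hr⟩ := similitude_of_mem s (sw hk) (gs := p) (σ := 1)
      (by rw [factorPerm_one, mul_one, ← hpπ]; exact (hH hhH).1) i
    obtain ⟨e, he⟩ : ∃ e : F, (p i).val * (p i).val = e • 1 := by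
      have h1 : (tensGL (p * p) : GL (Fin t → Fin k) F) = 1 := by
        rw [← tensGL_mul, ← hpπ, hh, show g * φ A * g⁻¹ * (g * φ A * g⁻¹) = g * (φ A * φ A) * g⁻¹ by group,
          ← hφmul, hA, ut_mul_ut s (sw hk) hz, ← two_mul, two, zero_mul, ut_zero s (sw hk) hz, hφ1, mul_one,
          mul_inv_cancel]
      obtain ⟨e, -, he⟩ := tens_eq_one_imp (congrArg Units.val h1) i
      exact ⟨e, he⟩
    obtain ⟨d, c', hd⟩ := exists_coef s hk two h3 hx hx0 he hr hN2
    exact ⟨p, d, c', hpπ, hd⟩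
  have hne : ∀ (p : Fin t → GL (Fin k) F) {d c' : F}, (p i).val = d • (1 + c' • rk s (sw hk) x x) → d ≠ 0 := by
    intro p d c' hp h0
    rw [h0, zero_smul] at hp
    have := congrFun (congrFun (Units.mul_inv (p i)) (i0 hk)) (i0 hk)
    simp [hp] at this
  have hchain : ∀ {A A' : GL (Fin k) F} {p p' : Fin t → GL (Fin k) F} {d c₁ d' c₂ : F},
      A * A' * A = A' * A * A' → g * φ A * g⁻¹ = tensGL p → g * φ A' * g⁻¹ = tensGL p' →
      (p i).val = d • (1 + c₁ • rk s (sw hk) x x) → (p' i).val = d' • (1 + c₂ • rk s (sw hk) x x) → c₁ = c₂ := by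
    intro A A' p p' d c₁ d' c₂ hbr hp hp' hd hd'
    have h1 : (tensGL (p * p' * p) : GL (Fin t → Fin k) F) = tensGL (p' * p * p') := by
      simp only [← tensGL_mul, ← hp, ← hp']
      have hb := congrArg (fun B => g * φ B * g⁻¹) hbr
      simp only [hφmul] at hb
      simpa [mul_assoc] using hb
    obtain ⟨κ, hκ0, hκ⟩ := tensGL_ratio h1 i
    simp only [Pi.mul_apply, Units.val_mul, hd, hd', coef_mul s hk hx, smul_smul] at hκ
    rw [show c₁ + c₂ + c₁ = c₂ by linear_combination c₁ * two,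
      show c₂ + c₁ + c₂ = c₁ by linear_combination c₂ * two] at hκ
    exact (coef_inj s hk hx hx0 (mul_ne_zero (mul_ne_zero (hne p hd) (hne p' hd')) (hne p hd)) hκ).symm
  obtain ⟨ν, hν, hν0, hν1⟩ := exists_fixed s two h4
  set y : Fin k → F := eo hk + ν • ew hk with hy
  have hyy : hf s (sw hk) y y = 0 := by
    simp only [hy, hf_add_left, hf_add_right, hf_smul_left, hf_smul_right, eo_iso, ew_iso, eo_ew, ew_eo, hν]
    linear_combination ν * two
  set μ := (ν * ν)⁻¹ with hμ
  have hμσ : s.σ μ = μ := by rw [hμ, map_inv₀, map_mul, hν]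
  obtain ⟨p1, d1, c1, e1, f1⟩ := hP (eo hk) 1 (eo_iso s hk) (map_one _)
  obtain ⟨p2, d2, c2, e2, f2⟩ := hP (ew hk) 1 (ew_iso s hk) (map_one _)
  obtain ⟨p3, d3, c3, e3, f3⟩ := hP y 1 hyy (map_one _)
  obtain ⟨p4, d4, c4, e4, f4⟩ := hP (eo hk) μ (eo_iso s hk) hμσ
  have h12 : c1 = c2 := hchain (ut_braid s hk two (eo_iso s hk) (ew_iso s hk)
    (by rw [ew_eo, eo_ew]; ring)) e1 e2 f1 f2
  have h23 : c2 = c3 := hchain (ut_braid s hk two (ew_iso s hk) hyy (by
    simp only [hy, hf_add_left, hf_add_right, hf_smul_left, hf_smul_right, ew_iso, eo_ew, ew_eo]; ring)) e2 e3 f2 f3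
  have h34 : c3 = c4 := hchain (ut_braid s hk two hyy (eo_iso s hk) (by
    simp only [hy, hf_add_left, hf_add_right, hf_smul_left, hf_smul_right, eo_iso, eo_ew, ew_eo, hν, hμ]
    field_simp
    ring)) e3 e4 f3 f4
  have hm0 : 1 + μ ≠ 0 := by
    intro h0
    have h1 : μ = 1 := by linear_combination h0 - two
    rw [hμ, inv_eq_one] at h1
    have h2 : (ν - 1) * (ν - 1) = 0 := by linear_combination h1 + (1 - ν) * two
    exact hν1 (sub_eq_zero.mp (mul_self_eq_zero.mp h2))
  set Z := ut (hf s (sw hk)) (eo hk) (1 + μ) with hZ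
  set G := g * φ Z * g⁻¹ with hG
  have hφZ1 : φ Z ≠ 1 := by
    intro h0
    change slotU a Z * (w * slotU a Z * w) = 1 at h0
    rw [hRb] at h0
    have h1 : slotU a Z = slotU b (gs b * Z * (gs b)⁻¹)⁻¹ := by
      rw [eq_inv_of_mul_eq_one_left h0, eq_comm]
      exact eq_inv_of_mul_eq_one_left (by rw [← slotU_mul, inv_mul_cancel, slotU_one])
    have h2 := congrArg Units.val h1
    rw [slotU_coe, slotU_coe] at h2
    obtain ⟨e, he⟩ := scalar_of_slot_eq hk0 hab h2
    rw [hZ, ut_coe s (sw hk) (eo_iso s hk)] at he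
    have h5 := congrArg (· *ᵥ eo (F := F) hk) he
    simp only [add_mulVec, one_mulVec, smul_mulVec, rk_mulVec, eo_iso, zero_smul, smul_zero, add_zero] at h5
    have he1 : (1 : F) = e := smul_left_injective F (eo_ne_zero₀ hk) (by simpa using h5)
    rw [← he1, one_smul, add_eq_left] at he
    exact smul_ne_zero hm0 (rk_self_ne_zero s (sw hk) (eo_ne_zero₀ hk)) he
  have hGv : ∃ B, G.val = slot j B := by
    have h1 : G = tensGL (p1 * p4) := by
      rw [hG, hZ, ← ut_mul_ut s (sw hk) (eo_iso s hk), hφmul, ← tensGL_mul, ← e1, ← e4]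
      group
    have h2 : ((p1 * p4) i).val = (d1 * d4) • (1 : Matrix (Fin k) (Fin k) F) := by
      rw [Pi.mul_apply, Units.val_mul, f1, f4, coef_mul s hk hx, h12, h23, h34,
        show c4 + c4 = 0 by linear_combination c4 * two, zero_smul, add_zero]
    refine ⟨(d1 * d4) • ((p1 * p4) j).val, ?_⟩
    rw [h1, slot_smul', slot]
    show tens _ = _
    rw [show d1 * d4 = ∏ l : Fin t, if l = i then d1 * d4 else 1 from
      (Fintype.prod_ite_eq' i fun _ => d1 * d4).symm, ← tens_smul]
    congr 1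
    funext l
    by_cases hl : l = i
    · subst hl; rw [if_pos rfl, Function.update_of_ne hji.symm, Pi.one_apply]; exact h2
    · rw [hj l hl, if_neg hji, Function.update_self, one_smul]
  obtain ⟨B, hB⟩ := hGv
  have hGG : G * G = 1 := by
    rw [hG, show g * φ Z * g⁻¹ * (g * φ Z * g⁻¹) = g * (φ Z * φ Z) * g⁻¹ by group, ← hφmul, hZ,
      ut_mul_ut s (sw hk) (eo_iso s hk), ← two_mul, two, zero_mul, ut_zero s (sw hk) (eo_iso s hk), hφ1, mul_one,
      mul_inv_cancel]
  have hBB : B * B = 1 := slot_injective hk0 j (by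
    rw [slot_mul', ← hB, ← Units.val_mul, hGG, slot_one', Units.val_one])
  have hG1 : G ≠ 1 := fun h => hφZ1 (conj_eq_one_iff.mp h)
  have hMM : (B + 1) * (B + 1) = 0 := by
    rw [add_mul, one_mul, mul_add, mul_one, hBB, add_comm B 1, mat_add_self two]
  have hB1 : B + 1 ≠ 0 := fun h => hG1 (Units.ext (by
    rw [hB, show B = (B + 1) + 1 by rw [add_assoc, mat_add_self two, add_zero], h, zero_add, slot_one',
      Units.val_one]))
  have hGH : G ∈ H := by
    have hR : slotU a Z ∈ H := sRoot_mem s (sw hk) hM a (eo_iso s hk)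
      (fix_skew s two (by rw [map_add, map_one, hμσ]))
    exact mul_mem (mul_mem hg (mul_mem hR (mul_mem (mul_mem hwH hR) hwH))) (inv_mem hg)
  obtain ⟨z, m, hz0, hz, hm, hm0', hGz⟩ := exists_sRoot s (sw hk) hk0 (hH hGH).1 (i := j)
    (rank_le_one h3 hMM hB1) (by rw [hB, ← slot_one_add, add_left_comm, mat_add_self two, add_zero])
  have hZW : g⁻¹ * G * g = tensGL (Function.update (1 : Fin t → GL (Fin k) F) a Z *
      Function.update (1 : Fin t → GL (Fin k) F) b (gs b * Z * (gs b)⁻¹)) * factorPerm 1 := by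
    rw [hG, show g⁻¹ * (g * φ Z * g⁻¹) * g = φ Z by group, factorPerm_one, mul_one, ← tensGL_mul]
    show slotU a Z * (w * slotU a Z * w) = _
    rw [hRb]
    rfl
  obtain ⟨-, -, ps, a', b', hab', hps⟩ := root_image s hk (show 1 ≤ t by omega) hH hM hN hg hgW hz0 hz hm0' hm
    (by rw [← hGz, hZW]; exact mul_mem (tensGL_mem _) (factorPerm_mem _))
  rw [← hGz, hZW] at hps
  exact hab' (Equiv.swap_eq_one_iff.mp (perm_unique (show 2 ≤ k by omega) hps).symm)

/-- Without fusion, no root is carried into the stabiliser by an element outside it. -/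
theorem noFus_moves (hex : ¬ (Nat.card F = 4 ∧ k = 3)) (ht : 1 ≤ t) (hH : H ≤ SUp s (sw hk) t)
    (hM : ContainsU s (sw hk) H) (hN : NoFusU s (sw hk) H) {g : GL (Fin t → Fin k) F} (hg : g ∈ H)
    (hgW : g ∉ Geo.tensorWreathStandard k t F) {i : Fin t} {x : Fin k → F} {c : F} (hx0 : x ≠ 0)
    (hx : hf s (sw hk) x x = 0) (hc0 : c ≠ 0) (hc : c + s.σ c = 0) :
    g⁻¹ * sRoot s (sw hk) i x c * g ∉ Geo.tensorWreathStandard k t F := by
  intro hW
  obtain ⟨two, h3, gs, a, b, hab, hw⟩ := root_image s hk ht hH hM hN hg hgW hx0 hx hc0 hc hW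
  have h4 : Nat.card F ≠ 4 := fun h => hex ⟨h, h3⟩
  by_cases ht3 : 3 ≤ t
  · exact false_of_three s hk ht3 hH hM hN two h3 h4 hg hgW hx0 hx hc0 hc hw
  · refine false_of_two s hk hH hM hN two h3 h4 hg hgW hx0 hx hc0 hc hab ?_ hw
    have := a.isLt
    have := b.isLt
    have : (a : ℕ) ≠ b := fun h => hab (Fin.ext h)
    omega

end Fusion

end Cfsg.Agent.WreathU
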