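import Cfsg.Agent.WreathU.CenterAll
import Cfsg.Agent.WreathMax.Fusion

/-!
A full centre of the line radical gives every centre (helper56).
-/

set_option autoImplicit false
set_option linter.unusedSectionVars false

namespace Cfsg.Agent.WreathU

open Matrix Cfsg.Agent.MaxSub Cfsg.Agent.MaxSub.Asch Cfsg.Agent.FG75.SpinTensor Cfsg.Agent.WreathMax

variable {F : Type*} [Field F] [Fintype F] {k t : ℕ} (s : Conj F) (hk : 3 ≤ k)

local notation "Jk" => sw hk
local notation "f" => hf s (sw hk)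
local notation "eE" => rk s (sw hk) (WreathU.eo hk) (WreathU.eo hk)

section Rad

variable {ι : Type} [Fintype ι] [DecidableEq ι] (π : Invol ι)

local notation "φ" => hf s π

theorem qe_mul {e p q : ι → F} (he : φ e e = 0) (hp : φ p e = 0) (hq : φ q e = 0) (b d : F) :
    HermStab.qe φ e p b * HermStab.qe φ e q d = HermStab.qe φ e (p + q) (b + d - φ q p) := by
  have hep : φ e p = 0 := hswap_zero (isUnitary s π) hp
  have heq : φ e q = 0 := hswap_zero (isUnitary s π) hq
  refine Units.ext ?_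
  rw [Units.val_mul, qe_coe s π he hp, qe_coe s π he hq, qe_coe s π he (by rw [hf_add_left, hp, hq, add_zero]),
    rk_add_left, rk_add_right]
  simp only [mul_add, mul_sub, add_mul, sub_mul, one_mul, mul_one, smul_mul_assoc, mul_smul_comm, rk_mul, he, hp, hq,
    hep, heq, zero_smul, smul_zero]
  module

theorem qe_zero {e : ι → F} (he : φ e e = 0) : HermStab.qe φ e 0 0 = 1 := by
  refine Units.ext ?_
  rw [qe_coe s π he (hzero_left (isUnitary s π) e)]
  have hcv : cv s π 0 = 0 := by funext a; simp [cv]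
  simp [rk, hcv]

/-- The part of the radical of `e` inside `H`. -/
def radIn (H : Subgroup (GL ι F)) (e : ι → F) (he : φ e e = 0) : AddSubgroup (ι → F) where
  carrier := {p | φ p e = 0 ∧ ∃ b, b + s.σ b = -φ p p ∧ HermStab.qe φ e p b ∈ H}
  zero_mem' := ⟨hzero_left (isUnitary s π) e, 0, by simp [hzero_left (isUnitary s π)],
    by rw [qe_zero s π he]; exact one_mem H⟩
  add_mem' := fun {p q} ⟨hp, b, hb, hbH⟩ ⟨hq, d, hd, hdH⟩ => by
    refine ⟨by rw [hf_add_left, hp, hq, add_zero], b + d - φ q p, ?_,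
      by rw [← qe_mul s π he hp hq]; exact mul_mem hbH hdH⟩
    rw [hf_add_left, hf_add_right, hf_add_right, map_sub, map_add, ← hf_herm s π p q]
    linear_combination hb + hd
  neg_mem' := fun {p} ⟨hp, b, hb, hbH⟩ => by
    have hn : φ (-p) e = 0 := by rw [← neg_one_smul F p, hf_smul_left, hp, mul_zero]
    have hpp : φ (-p) (-p) = φ p p := by
      rw [← neg_one_smul F p, hf_smul_left, hf_smul_right, map_neg, map_one]; ring
    have hinv : (HermStab.qe φ e p b)⁻¹ = HermStab.qe φ e (-p) (s.σ b) := inv_eq_of_mul_eq_one_right (by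
      rw [qe_mul s π he hp hn, add_neg_cancel, ← neg_one_smul F p, hf_smul_left]
      rw [show b + s.σ b - -1 * φ p p = 0 by linear_combination hb, qe_zero s π he])
    exact ⟨hn, s.σ b, by rw [hpp, s.inv]; linear_combination hb, by rw [← hinv]; exact inv_mem hbH⟩

/-- The radical part is stable under the elements of `H` fixing `e`. -/
theorem radIn_map {H : Subgroup (GL ι F)} {e p : ι → F} {he : φ e e = 0} {g : GL ι F} (hg : g ∈ H)
    (hgU : g ∈ U s π) (hge : (g : Matrix ι ι F) *ᵥ e = e) (hp : p ∈ radIn s π H e he) :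
    (g : Matrix ι ι F) *ᵥ p ∈ radIn s π H e he := by
  obtain ⟨hpe, b, hb, hbH⟩ := hp
  have hpe' : φ ((g : Matrix ι ι F) *ᵥ p) e = 0 := by
    conv_lhs => rw [← hge]
    rw [mem_isom.mp hgU]; exact hpe
  refine ⟨hpe', b, by rw [mem_isom.mp hgU]; exact hb, ?_⟩
  have e1 : g * HermStab.qe φ e p b * g⁻¹ = HermStab.qe φ e ((g : Matrix ι ι F) *ᵥ p) b := by
    refine Units.ext ?_
    rw [Units.val_mul, Units.val_mul, qe_coe s π he hpe, qe_coe s π he hpe']
    simp only [mul_add, mul_sub, add_mul, sub_mul, mul_one, Units.mul_inv, mul_smul_comm, smul_mul_assoc,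
      conj_rk s π hgU, hge]
  rw [← e1]
  exact mul_mem (mul_mem hg hbH) (inv_mem hg)

/-- Two centres with a centre for their sum give an element of the radical. -/
theorem mem_radIn_of_centres {H : Subgroup (GL ι F)} {e p : ι → F} (he : φ e e = 0)
    (hce : HermStab.Centre s.σ φ H e) (hcp : HermStab.Centre s.σ φ H p) (hpe : φ p e = 0)
    (hsum : HermStab.Centre s.σ φ H (e + p)) {c : F} (hc : c + s.σ c = 0) : c • p ∈ radIn s π H e he := by
  have hep : φ e p = 0 := hswap_zero (isUnitary s π) hpe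
  have hcpe : φ (c • p) e = 0 := by rw [hf_smul_left, hpe, mul_zero]
  refine ⟨hcpe, 0, by rw [hf_smul_left, hf_smul_right, hcp.1]; simp, ?_⟩
  have hcn : -c + s.σ (-c) = 0 := by rw [map_neg]; linear_combination -hc
  have e1 : HermStab.qe φ e (c • p) 0 = ut φ (e + p) c * ut φ e (-c) * ut φ p (-c) := by
    refine Units.ext ?_
    rw [Units.val_mul, Units.val_mul, qe_coe s π he hcpe, ut_coe s π hsum.1, ut_coe s π he, ut_coe s π hcp.1,
      rk_smul_left, rk_smul_right, show s.σ c = -c from eq_neg_of_add_eq_zero_right hc]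
    simp only [rk_add_left, rk_add_right, mul_add, add_mul, one_mul, mul_one, smul_mul_assoc, mul_smul_comm, rk_mul,
      he, hep, hpe, hcp.1, smul_add, zero_smul, smul_zero, zero_mul]
    module
  rw [e1]
  exact mul_mem (mul_mem (hsum.2 c hc) (hce.2 _ hcn)) (hcp.2 _ hcn)

end Rad

theorem cz_add_left (x y : Fin k → F) (z : (Fin t → Fin k) → F) : cz (x + y) z = cz x z + cz y z := by
  funext a; simp [cz, add_mul]

theorem cz_smul_left (c : F) (x : Fin k → F) (z : (Fin t → Fin k) → F) : cz (c • x) z = c • cz x z := by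
  funext a; simp [cz, mul_assoc]

theorem cz_smul_right (c : F) (x : Fin k → F) (z : (Fin t → Fin k) → F) : cz x (c • z) = c • cz x z := by
  funext a; simp [cz, mul_left_comm]

theorem cz_add_right (x : Fin k → F) (z z' : (Fin t → Fin k) → F) : cz x (z + z') = cz x z + cz x z' := by
  funext a; simp [cz, mul_add]

theorem single_eq_cz (a : Fin (t + 1) → Fin k) :
    (Pi.single a 1 : (Fin (t + 1) → Fin k) → F) = cz (Pi.single (a 0) 1) (Pi.single (Fin.tail a) 1) := by
  funext b
  by_cases hb : b = a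
  · subst hb; simp [cz]
  · rw [Pi.single_eq_of_ne hb, cz]
    by_cases h0 : b 0 = a 0
    · rw [Pi.single_eq_of_ne (show Fin.tail b ≠ Fin.tail a from
          fun h => hb (funext fun i => Fin.cases h0 (fun j => congrFun h j) i)), mul_zero]
    · rw [Pi.single_eq_of_ne h0, zero_mul]

/-- The base point: every slot carries the isotropic line. -/
def base : (Fin t → Fin k) → F := Pi.single (fun _ => i0 hk) 1

theorem hf_base (a : Fin t → Fin k) (ha : a ≠ fun _ => i1 hk) :
    hf s (powI Jk t) (Pi.single a 1) (base hk) = 0 := by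
  rw [hf_single, base, Pi.single_eq_of_ne, map_zero]
  intro h
  refine ha (funext fun i => ?_)
  have := congrArg (Jk).J (congrFun h i)
  rw [powI_apply, (Jk).inv] at this
  rw [this]; exact Equiv.swap_apply_left _ _

theorem base_eq : (base hk : (Fin (t + 1) → Fin k) → F) = cz (WreathU.eo hk) (base hk) := single_eq_cz _

theorem base_iso : hf s (powI Jk (t + 1)) (base hk) (base hk) = 0 :=
  hf_base s hk _ fun h => i0_ne_i1 hk (congrFun h 0)

variable {s hk} {H : Subgroup (GL (Fin (t + 1) → Fin k) F)}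

theorem centre_cz_eo (hfull : ∀ Z, adj s (powI Jk t) Z = -Z → InC s hk H Z) (z : (Fin t → Fin k) → F) :
    HermStab.Centre s.σ (hf s (powI Jk (t + 1))) H (cz (WreathU.eo hk) z) := by
  have h0 : hf s (powI Jk (t + 1)) (cz (WreathU.eo hk) z) (cz (WreathU.eo hk) z) = 0 := by
    rw [hf_cz, eo_iso, zero_mul]
  refine ⟨h0, fun c hc => ?_⟩
  obtain ⟨g, hg, hgv⟩ := hfull (c • rk s (powI Jk t) z z) (by
    rw [adj_smul, adj_rk, ← neg_smul, eq_neg_of_add_eq_zero_right hc])
  have e : ut (hf s (powI Jk (t + 1))) (cz (WreathU.eo hk) z) c = g := Units.ext (by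
    rw [ut_coe s _ h0, hgv, rk_cz, kz_smul_right])
  rw [e]; exact hg

theorem slotU_zero_mulVec (g : GL (Fin k) F) (y : Fin k → F) (z : (Fin t → Fin k) → F) :
    (slotU (0 : Fin (t + 1)) g).val *ᵥ cz y z = cz ((g : Matrix (Fin k) (Fin k) F) *ᵥ y) z := by
  rw [slotU_coe, slot_zero_eq_kz, kz_mulVec_cz, one_mulVec]

theorem centre_cz (hM : ContainsU s Jk H) (hfull : ∀ Z, adj s (powI Jk t) Z = -Z → InC s hk H Z) {y : Fin k → F}
    (hy : f y y = 0) (z : (Fin t → Fin k) → F) :
    HermStab.Centre s.σ (hf s (powI Jk (t + 1))) H (cz y z) := by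
  have hu := isUnitary s (powI Jk (t + 1))
  by_cases hy0 : y = 0
  · rw [hy0, show cz (0 : Fin k → F) z = 0 by funext a; simp [cz]]
    exact HermStab.centre_zero hu
  obtain ⟨g, hg, r, -, hgy⟩ := exists_map_eo s hk hy hy0
  have h := HermStab.centre_map hu (centre_cz_eo hfull (r • z)) (hM _ (slotU_mem 0 g) (slotU_mem_su s Jk hg 0))
    (slotU_mem_su s Jk hg 0).1
  rwa [slotU_zero_mulVec, cz_smul_right, ← cz_smul_left, ← mulVec_smul, hgy] at h

/-- The vectors with the other slots orthogonal to the base point lie in the radical. -/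
theorem cz_mem_radIn (hM : ContainsU s Jk H) (hfull : ∀ Z, adj s (powI Jk t) Z = -Z → InC s hk H Z)
    (y : Fin k → F) {z : (Fin t → Fin k) → F} (hz : hf s (powI Jk t) z (base hk) = 0) :
    cz y z ∈ radIn s (powI Jk (t + 1)) H (base hk) (base_iso s hk) := by
  classical
  set R := radIn s (powI Jk (t + 1)) H (base hk) (base_iso s hk) with hR
  set o := WreathU.eo (F := F) hk
  set w := WreathU.ew (F := F) hk
  have hu := isUnitary s (powI Jk (t + 1))
  have hu0 := isUnitary s (powI Jk t)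
  obtain ⟨c, hc0, hc⟩ := s.exists_skew
  have hw : ∀ z, hf s (powI Jk t) z (base hk) = 0 → cz w z ∈ R := by
    intro z hz
    by_cases hz0 : z = 0
    · rw [hz0, show cz w (0 : (Fin t → Fin k) → F) = 0 by funext a; simp [cz]]
      exact R.zero_mem
    set z' := c⁻¹ • z with hz'
    have hz'0 : z' ≠ 0 := smul_ne_zero (inv_ne_zero hc0) hz0
    have hz'b : hf s (powI Jk t) z' (base hk) = 0 := by rw [hz', hf_smul_left, hz, mul_zero]
    obtain ⟨a, ha⟩ : ∃ a, hf s (powI Jk t) z' a = 1 := by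
      obtain ⟨a, ha⟩ := (hu0.nondegenerate z' hz'0).2
      refine ⟨(s.σ (hf s (powI Jk t) z' a))⁻¹ • a, ?_⟩
      rw [hf_smul_right, map_inv₀, s.inv, inv_mul_cancel₀ ha]
    set X := rk s (powI Jk t) (base hk) a - rk s (powI Jk t) a (base hk) with hX
    obtain ⟨g, hg, hgv⟩ := hfull X (by rw [hX, adj_sub, adj_rk, adj_rk, neg_sub])
    have hce : HermStab.Centre s.σ (hf s (powI Jk (t + 1))) H (base hk) := by
      rw [base_eq]; exact centre_cz_eo hfull _
    have hcp := centre_cz hM hfull (ew_iso s hk) z'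
    have hsum : HermStab.Centre s.σ (hf s (powI Jk (t + 1))) H (base hk + cz w z') := by
      obtain ⟨hgU, -⟩ := (show g ∈ U s (powI Jk (t + 1)) ∧ True from ⟨(mem_U_iff s _).mpr (by
        rw [hgv, adj_add, adj_one, adj_kz, adj_rk, show adj s (powI Jk t) X = -X by rw [hX, adj_sub, adj_rk, adj_rk, neg_sub],
          kz_neg_right]
        simp only [add_mul, mul_add, one_mul, mul_one, neg_mul, kz_mul, eE_sq, kz_zero_left, neg_zero, add_zero]
        abel), trivial⟩)
      have h := HermStab.centre_map hu hcp hg hgU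
      rwa [hgv, add_mulVec, one_mulVec, kz_mulVec_cz, rk_mulVec, ew_eo, one_smul, hX, sub_mulVec, rk_mulVec,
        rk_mulVec, ha, hz'b, zero_smul, sub_zero, one_smul, ← base_eq hk, add_comm (cz _ z')] at h
    have hpe : hf s (powI Jk (t + 1)) (cz w z') (base hk) = 0 := by
      rw [base_eq, hf_cz, hz'b, mul_zero]
    have h := mem_radIn_of_centres s (powI Jk (t + 1)) (base_iso s hk) hce hcp hpe hsum hc
    rwa [← cz_smul_right, hz', smul_inv_smul₀ hc0] at h
  -- the stabiliser of the first line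
  have hqe : ∀ m, IsMid hk m → ∀ β, β + s.σ β = -f m m → ∀ z, hf s (powI Jk t) z (base hk) = 0 →
      cz (m + β • o) z ∈ R := by
    intro m hm β hβ z hz
    have hu1 := isUnitary s (sw hk)
    have hA := HermStab.qe_mem_su hu1 (eo_iso s hk) hm.eo hβ
    have hfix : (slotU (0 : Fin (t + 1)) (HermStab.qe f o m β)).val *ᵥ base hk = base hk := by
      rw [base_eq, slotU_zero_mulVec, HermStab.qe_mulVec hu1 (eo_iso s hk) hm.eo, eo_iso, hm.eo']
      simp
    have h := radIn_map s (powI Jk (t + 1)) (hM _ (slotU_mem 0 _) (slotU_mem_su s Jk hA 0))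
      (slotU_mem_su s Jk hA 0).1 hfix (hw z hz)
    rw [slotU_zero_mulVec, HermStab.qe_mulVec hu1 (eo_iso s hk) hm.eo, ew_eo, hm.ew', one_smul, zero_smul, sub_zero,
      mul_one, add_assoc, cz_add_left] at h
    have := R.sub_mem h (hw z hz)
    rwa [add_sub_cancel_left] at this
  have ho : ∀ z, hf s (powI Jk t) z (base hk) = 0 → cz o z ∈ R := by
    intro z hz
    have h := hqe 0 isMid_zero c (by simpa [hf] using hc) (c⁻¹ • z) (by rw [hf_smul_left, hz, mul_zero])
    rwa [zero_add, cz_smul_left, ← cz_smul_right, smul_inv_smul₀ hc0] at h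
  have hm' : ∀ m, IsMid hk m → ∀ z, hf s (powI Jk t) z (base hk) = 0 → cz m z ∈ R := by
    intro m hm z hz
    obtain ⟨β, hβ⟩ := s.exists_trace (r := -f m m) (by rw [map_neg, ← hf_herm])
    have h := R.sub_mem (hqe m hm β hβ z hz) (ho (β • z) (by rw [hf_smul_left, hz, mul_zero]))
    rwa [cz_add_left, cz_smul_left, cz_smul_right, add_sub_cancel_right] at h
  obtain ⟨m, hm, hy⟩ := decomp (hk := hk) y
  rw [hy, cz_add_left, cz_add_left, cz_smul_left, cz_smul_left, ← cz_smul_right, ← cz_smul_right]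
  exact R.add_mem (R.add_mem (hw _ (by rw [hf_smul_left, hz, mul_zero])) (hm' m hm z hz))
    (ho _ (by rw [hf_smul_left, hz, mul_zero]))

variable (s hk)

/-- A full centre of the line radical gives every centre. -/
theorem centres_of_full (ht : 1 ≤ t) {H : Subgroup (GL (Fin (t + 1) → Fin k) F)}
    (hH : H ≤ SUp s Jk (t + 1)) (hM : ContainsU s Jk H) (hex : ¬ (Nat.card F = 4 ∧ k = 3))
    (hfull : ∀ Z, adj s (powI Jk t) Z = -Z → InC s hk H Z) :
    ∀ v, hf s (powI Jk (t + 1)) v v = 0 → HermStab.Centre s.σ (hf s (powI Jk (t + 1))) H v := by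
  classical
  have hu := isUnitary s (powI Jk (t + 1))
  obtain ⟨t, rfl⟩ : ∃ t', t = t' + 1 := ⟨t - 1, by omega⟩
  set σ : Equiv.Perm (Fin (t + 1 + 1)) := Equiv.swap 0 1 with hσ
  have h10 : (1 : Fin (t + 1 + 1)) = (0 : Fin (t + 1)).succ := rfl
  set τ : GL (Fin (t + 1 + 1) → Fin k) F := factorPerm σ with hτ
  have hττ : τ * τ = 1 := by rw [hτ, factorPerm_mul, hσ, Equiv.swap_mul_self, factorPerm_one]
  have hτi : τ⁻¹ = τ := inv_eq_of_mul_eq_one_right hττ
  have hτU : τ ∈ U s (powI Jk (t + 1 + 1)) := factorPerm_mem_U s Jk _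
  have hsu : ∀ h, h ∈ SUp s Jk (t + 1 + 1) → τ * h * τ⁻¹ ∈ SUp s Jk (t + 1 + 1) := fun h hh =>
    ⟨(U s (powI Jk (t + 1 + 1))).mul_mem ((U s (powI Jk (t + 1 + 1))).mul_mem hτU hh.1)
      ((U s (powI Jk (t + 1 + 1))).inv_mem hτU), MonoidHom.mem_ker.mpr (by
      rw [det_eq_one_iff]; exact MonoidHom.mem_ker.mp hh.2)⟩
  set H₁ := H.comap (MulAut.conj τ).toMonoidHom with hH₁def
  have hmem : ∀ h, h ∈ H₁ ↔ τ * h * τ⁻¹ ∈ H := fun h => Iff.rfl
  have hH₁ : H₁ ≤ SUp s Jk (t + 1 + 1) := fun h hh => by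
    have := hsu _ (hH ((hmem h).mp hh))
    rwa [hτi, show τ * (τ * h * τ) * τ = (τ * τ) * h * (τ * τ) by group, hττ, one_mul, mul_one] at this
  have hM₁ : ContainsU s Jk H₁ := fun w hw hw' => (hmem w).mpr
    (hM _ (mul_mem (mul_mem (factorPerm_mem _) hw) (inv_mem (factorPerm_mem _))) (hsu w hw'))
  have hfull₁ : ∀ Z, adj s (powI Jk (t + 1)) Z = -Z → InC s hk H₁ Z := by
    obtain ⟨c, hc0, hc⟩ := s.exists_skew
    set Z₀ := c • slot (0 : Fin (t + 1)) eE with hZ₀
    have hsk : adj s (powI Jk (t + 1)) Z₀ = -Z₀ := by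
      rw [hZ₀, adj_smul, adj_slot, adj_rk, ← neg_smul, eq_neg_of_add_eq_zero_right hc]
    obtain ⟨g, hg, hgv⟩ := hfull Z₀ hsk
    have hperm : ∀ (i : Fin (t + 1 + 1)) (A : Matrix (Fin k) (Fin k) F),
        conjHom τ (slot i A) = slot (σ i) A := fun i A => by
      rw [conjHom_apply, hτ, factorPerm_mul_slot, mul_assoc, Units.mul_inv, mul_one]
    have h₁ : InC s hk H₁ Z₀ := by
      refine ⟨τ * g * τ⁻¹, (hmem _).mpr ?_, ?_⟩
      · rw [hτi, show τ * (τ * g * τ) * τ = (τ * τ) * g * (τ * τ) by group, hττ, one_mul, mul_one]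
        exact hg
      rw [Units.val_mul, Units.val_mul, hgv, conj_one_add, ← conjHom_apply]
      congr 1
      have e2 : kz eE (slot (0 : Fin (t + 1)) eE) = slot 0 eE * slot 1 eE := by
        conv_rhs => rw [h10, slot_succ_eq_kz, slot_zero_eq_kz, kz_mul, mul_one, one_mul]
      rw [hZ₀, kz_smul_right, map_smul, e2, map_mul, hperm, hperm, hσ, Equiv.swap_apply_left, Equiv.swap_apply_right,
        slot_comm (by simp)]
    refine InC.all hH₁ hM₁ hex h₁ fun e he => ?_
    rw [hZ₀, ← slot_smul', ← slot_smul_one (0 : Fin (t + 1)) e] at he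
    have h2 := congrArg (fun M : Matrix (Fin k) (Fin k) F => M *ᵥ WreathU.eo (F := F) hk)
      (slot_injective (show 0 < k by omega) 0 he)
    simp only [smul_mulVec, rk_mulVec, eo_iso, zero_smul, smul_zero, one_mulVec] at h2
    rw [(smul_eq_zero.mp h2.symm).resolve_right (eo_ne_zero hk)] at he
    rw [zero_smul] at he
    exact smul_ne_zero hc0 (rk_self_ne_zero s Jk (eo_ne_zero hk)) (slot_injective (show 0 < k by omega) 0 he)
  set R := radIn s (powI Jk (t + 1 + 1)) H (base hk) (base_iso s hk) with hR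
  have hτv : ∀ (a : Fin (t + 1 + 1) → Fin k) (r : F),
      τ.val *ᵥ Pi.single a r = Pi.single (a ∘ σ) r := fun a r => by
    funext z
    rw [hτ, factorPerm_mulVec]
    simp only [Pi.single_apply]
    refine if_congr ⟨fun h => ?_, fun h => ?_⟩ rfl rfl
    · funext i; have := congrFun h (σ i); simpa [hσ] using this
    · funext i; simp [h, hσ]
  have hτbase : τ.val *ᵥ base hk = base hk := by rw [base, hτv]; rfl
  have hsingle : ∀ (a : Fin (t + 1 + 1) → Fin k), a ≠ (fun _ => i1 hk) → ∀ r : F, Pi.single a r ∈ R := by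
    intro a ha r
    have e : ∀ a' : Fin (t + 1 + 1) → Fin k,
        (Pi.single a' r : (Fin (t + 1 + 1) → Fin k) → F) = cz (Pi.single (a' 0) 1) (r • Pi.single (Fin.tail a') 1) :=
      fun a' => by rw [cz_smul_right, ← single_eq_cz, ← Pi.single_smul', smul_eq_mul, mul_one]
    by_cases htail : Fin.tail a ≠ fun _ => i1 hk
    · rw [e a]
      exact cz_mem_radIn hM hfull _ (by rw [hf_smul_left, hf_base s hk _ htail, mul_zero])
    simp only [not_not] at htail
    have h0 : a 0 ≠ i1 hk := fun h => ha (by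
      rw [← Fin.cons_self_tail a, h, htail]; funext i; refine Fin.cases ?_ (fun _ => ?_) i <;> simp)
    have htail' : Fin.tail (a ∘ σ) ≠ fun _ => i1 hk := fun h => h0 (by
      have := congrFun h 0
      simpa [Fin.tail, hσ] using this)
    obtain ⟨hp, b, hb, hbH⟩ := cz_mem_radIn (H := H₁) hM₁ hfull₁ (Pi.single ((a ∘ σ) 0) 1)
      (show hf s (powI Jk (t + 1)) (r • Pi.single (Fin.tail (a ∘ σ)) 1) (base hk) = 0 by
        rw [hf_smul_left, hf_base s hk _ htail', mul_zero])
    rw [← e] at hp hb hbH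
    have hv : τ.val *ᵥ Pi.single (a ∘ σ) r = Pi.single a r := by
      rw [hτv]; congr 1; funext i; simp [hσ]
    have hp' := (mem_isom.mp hτU _ _).trans hp
    rw [hv, hτbase] at hp'
    refine ⟨hp', b, ?_, ?_⟩
    · rw [← hv, mem_isom.mp hτU]; exact hb
    have h := (hmem _).mp hbH
    have e1 : τ * HermStab.qe (hf s (powI Jk (t + 1 + 1))) (base hk) (Pi.single (a ∘ σ) r) b * τ⁻¹ =
        HermStab.qe (hf s (powI Jk (t + 1 + 1))) (base hk) (Pi.single a r) b := by
      refine Units.ext ?_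
      rw [Units.val_mul, Units.val_mul, qe_coe s _ (base_iso s hk) hp, qe_coe s _ (base_iso s hk) hp']
      simp only [mul_add, mul_sub, add_mul, sub_mul, mul_one, Units.mul_inv, mul_smul_comm, smul_mul_assoc,
        conj_rk s _ hτU, hτbase, hv]
    rwa [e1] at h
  have hce : HermStab.Centre s.σ (hf s (powI Jk (t + 1 + 1))) H (base hk) := by
    rw [base_eq]; exact centre_cz_eo hfull _
  refine HermStab.centre_of_radical hu ?_ hce (fun v b hv hb => ?_)
    (centre_cz hM hfull (ew_iso s hk) (Pi.single (fun _ => i1 hk) 1)) ?_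
  · rw [Fintype.card_fun, Fintype.card_fin, Fintype.card_fin]
    calc 5 ≤ 3 ^ 2 := by norm_num
      _ ≤ k ^ 2 := Nat.pow_le_pow_left hk 2
      _ ≤ k ^ (t + 1 + 1) := Nat.pow_le_pow_right (by omega) (by omega)
  · have hmemR : v ∈ R := by
      rw [← Finset.univ_sum_single v]
      refine R.sum_mem fun a _ => ?_
      by_cases ha : a = fun _ => i1 hk
      · have hva : v a = 0 := by
          have h1 := hv
          rw [hf_herm, base, hf_single, s.inv] at h1
          have e2 : (powI Jk (t + 1 + 1)).J (fun _ => i0 hk) = a := by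
            rw [ha]; funext i; simp [powI_apply, sw]
          rwa [e2] at h1
        rw [hva, Pi.single_zero]
        exact R.zero_mem
      · exact hsingle a ha _
    obtain ⟨-, b₀, hb₀, hb₀H⟩ := hmemR
    have hd : b - b₀ + s.σ (b - b₀) = 0 := by rw [map_sub]; linear_combination hb - hb₀
    have e : HermStab.qe (hf s (powI Jk (t + 1 + 1))) (base hk) v b =
        HermStab.qe (hf s (powI Jk (t + 1 + 1))) (base hk) v b₀ * ut (hf s (powI Jk (t + 1 + 1))) (base hk) (b - b₀) := by
      refine Units.ext ?_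
      rw [Units.val_mul, qe_coe s _ (base_iso s hk) hv, qe_coe s _ (base_iso s hk) hv, ut_coe s _ (base_iso s hk)]
      simp only [mul_add, mul_one, add_mul, sub_mul, one_mul, mul_smul_comm, smul_mul_assoc, rk_mul,
        base_iso s hk, hswap_zero hu hv, zero_smul, smul_zero, add_zero]
      module
    rw [e]
    exact mul_mem hb₀H (hce.2 _ hd)
  · rw [base_eq, hf_cz, ew_eo, one_mul, base, hf_single]
    have e2 : (powI Jk (t + 1)).J (fun _ => i1 hk) = fun _ => i0 hk := by
      funext i; simp [powI_apply, sw]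
    simp only [e2]
    simp

end Cfsg.Agent.WreathU
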