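import Cfsg.Agent.WreathU.CenterAll

/-!
An element fixing a line of the first slot gives a centre element or an element on the other slots (helper1).
-/

set_option autoImplicit false
set_option linter.unusedSectionVars false

namespace Cfsg.Agent.WreathU

open Matrix Cfsg.Agent.MaxSub Cfsg.Agent.MaxSub.Asch Cfsg.Agent.FG75.SpinTensor Cfsg.Agent.WreathMax

variable {F : Type*} [Field F] [Fintype F] {k t : ℕ} (s : Conj F) (hk : 3 ≤ k)

local notation "Jk" => sw hk
local notation "f" => hf s (sw hk)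
local notation "eE" => rk s (sw hk) (WreathU.eo hk) (WreathU.eo hk)
local notation "oo" => i0 hk
local notation "ww" => i1 hk

/-- The middle coordinates. -/
def mids : Finset (Fin k) := Finset.univ.filter fun c => c ≠ i0 hk ∧ c ≠ i1 hk

theorem mem_mids {c : Fin k} : c ∈ mids hk ↔ c ≠ oo ∧ c ≠ ww := by simp [mids]

theorem J_mid {c : Fin k} (hc : c ∈ mids hk) : (Jk).J c = c :=
  Equiv.swap_apply_of_ne_of_ne ((mem_mids hk).mp hc).1 ((mem_mids hk).mp hc).2

theorem sum_split {M : Type*} [AddCommMonoid M] (φ : Fin k → M) :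
    ∑ c, φ c = φ oo + φ ww + ∑ c ∈ mids hk, φ c := by
  have e : (Finset.univ : Finset (Fin k)) = insert oo (insert ww (mids hk)) := by
    ext c
    by_cases h0 : c = i0 hk <;> by_cases h1 : c = i1 hk <;> simp [mids, h0, h1]
  rw [e, Finset.sum_insert (by simp [mids, i0_ne_i1 hk]), Finset.sum_insert (by simp [mids]), add_assoc]

theorem eE_eq : eE = Matrix.single oo ww (1 : F) := by
  rw [WreathU.eo, rk_single, show (Jk).J oo = ww from Equiv.swap_apply_left _ _]

/-- The matrix fixes the first line. -/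
def Fixes (X : Matrix (Fin (t + 1) → Fin k) (Fin (t + 1) → Fin k) F) : Prop :=
  (∀ a, a ≠ oo → zblk X a oo = 0) ∧ ∀ b, b ≠ ww → zblk X ww b = 0

/-- The matrix lies in the radical of the first line. -/
def Upper (X : Matrix (Fin (t + 1) → Fin k) (Fin (t + 1) → Fin k) F) : Prop :=
  ∀ a b, ¬ (a = oo ∧ b ≠ oo) → ¬ (b = ww ∧ a ≠ ww) → zblk X a b = 0

variable {s hk} {H : Subgroup (GL (Fin (t + 1) → Fin k) F)}

theorem Fixes.adj {X : Matrix (Fin (t + 1) → Fin k) (Fin (t + 1) → Fin k) F} (h : Fixes hk X) :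
    Fixes hk (WreathU.adj s (powI Jk (t + 1)) X) := by
  refine ⟨fun a ha => ?_, fun b hb => ?_⟩
  · rw [zblk_adj, show (Jk).J oo = ww from Equiv.swap_apply_left _ _, h.2 _ (fun e => ha ?_), adj_zero]
    have := congrArg (Jk).J e
    rwa [(Jk).inv, show (Jk).J ww = oo from Equiv.swap_apply_right _ _] at this
  · rw [zblk_adj, show (Jk).J ww = oo from Equiv.swap_apply_right _ _, h.1 _ (fun e => hb ?_), adj_zero]
    have := congrArg (Jk).J e
    rwa [(Jk).inv, show (Jk).J oo = ww from Equiv.swap_apply_left _ _] at this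

theorem fixes_of_comm {X : Matrix (Fin (t + 1) → Fin k) (Fin (t + 1) → Fin k) F} (hX : ∀ Y, X * Y = 0 → Y = 0)
    {r : F} (h : X * kz eE 1 = r • (kz eE 1 * X)) : Fixes hk X := by
  have h1 : ∀ a b, (if b = ww then zblk X a oo else 0) = r • (if a = oo then zblk X ww b else 0) := by
    intro a b
    have e := congrArg (fun Y => zblk Y a b) h
    rw [show zblk (r • (kz eE 1 * X)) a b = r • zblk (kz eE 1 * X) a b from rfl, zblk_mul, zblk_mul] at e
    simp only [zblk_kz, eE_eq, Matrix.single_apply] at e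
    rw [Finset.sum_eq_single oo (fun c _ hc => by simp [Ne.symm hc]) (by simp),
      Finset.sum_eq_single ww (fun c _ hc => by simp [Ne.symm hc]) (by simp)] at e
    convert e using 1
    · by_cases hb : b = ww <;> simp [hb, Ne.symm]
    · by_cases ha : a = oo <;> simp [ha, Ne.symm]
  refine ⟨fun a ha => by simpa [ha] using h1 a ww, fun b hb => ?_⟩
  by_contra hne
  have hr : r = 0 := by simpa [hb, hne, eq_comm] using h1 oo b
  rw [hr, zero_smul] at h
  have h2 := congrArg (fun Y => zblk Y oo ww) (hX _ h)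
  simp only [zblk_kz, eE_eq, Matrix.single_apply_same, one_smul] at h2
  refine hne ?_
  rw [← mul_one (zblk X ww b), show (1 : Matrix (Fin t → Fin k) (Fin t → Fin k) F) = 0 from h2, mul_zero]

theorem kzU_su {A : GL (Fin k) F} (hA : A ∈ HermStab.su (hf s Jk)) {B : GL (Fin t → Fin k) F} (hB : B ∈ SUp s Jk t) :
    kzU A B ∈ SUp s Jk (t + 1) := by
  refine ⟨?_, kzU_det hA.2 hB.2⟩
  show _ ∈ U s (powI Jk (t + 1))
  rw [mem_U_iff, kzU_coe, adj_kz, kz_mul, (mem_U_iff s _).mp hA.1, (mem_U_iff s _).mp hB.1, kz_one]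

theorem middle_element {d : Fin k} (hd : d ∈ mids hk) (l : F) :
    ∃ A ∈ HermStab.su (hf s Jk), ∃ β : F, (A : Matrix (Fin k) (Fin k) F) =
      1 + l • Matrix.single d ww 1 - s.σ l • Matrix.single oo d 1 + β • Matrix.single oo ww 1 := by
  set z : Fin k → F := l • (Pi.single d 1 : Fin k → F)
  have hz : f z (WreathU.eo hk) = 0 :=
    ((isMid_single ((mem_mids hk).mp hd).1 ((mem_mids hk).mp hd).2).smul l).eo
  obtain ⟨β, hβ⟩ := s.exists_trace (r := -f z z) (by rw [map_neg, ← hf_herm])
  refine ⟨_, HermStab.qe_mem_su (isUnitary s _) (eo_iso s hk) hz hβ, β, ?_⟩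
  rw [qe_coe s Jk (eo_iso s hk) hz, rk_smul_left, rk_smul_right, WreathU.eo, rk_single, rk_single, rk_single,
    show (Jk).J oo = ww from Equiv.swap_apply_left _ _, J_mid hk hd]

/-- The middle blocks of a radical element give centre elements. -/
theorem Upper.center (hH : H ≤ SUp s Jk (t + 1)) (hM : ContainsU s Jk H) {h : GL (Fin (t + 1) → Fin k) F}
    (hh : h ∈ H) {N : Matrix (Fin (t + 1) → Fin k) (Fin (t + 1) → Fin k) F} (e : h.val = 1 + N) (hN : Upper hk N)
    {d : Fin k} (hd : d ∈ mids hk) (l : F) :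
    InC s hk H (l • zblk N oo d - s.σ l • WreathU.adj s (powI Jk t) (zblk N oo d)) := by
  obtain ⟨hd0, hd1⟩ := (mem_mids hk).mp hd
  have how : oo ≠ ww := i0_ne_i1 hk
  have hdw : zblk N d ww = -WreathU.adj s (powI Jk t) (zblk N oo d) := by
    have h1 := (mem_U_iff s _).mp (hH hh).1
    rw [e, adj_add, adj_one, add_mul, one_mul, mul_add, mul_one, add_assoc, add_eq_left] at h1
    have h2 := congrArg (fun Y => zblk Y d ww) h1
    rw [show zblk (0 : Matrix (Fin (t + 1) → Fin k) (Fin (t + 1) → Fin k) F) d ww = 0 from rfl, zblk_add, zblk_add,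
      zblk_mul, sum_split hk, zblk_adj, zblk_adj, show (Jk).J ww = oo from Equiv.swap_apply_right _ _,
      J_mid hk hd, show (Jk).J oo = ww from Equiv.swap_apply_left _ _,
      hN ww d (fun h => how h.1.symm) (fun h => hd1 h.1), adj_zero, zero_mul, hN ww ww (fun h => how h.1.symm) (fun h => h.2 rfl),
      mul_zero, zero_add, Finset.sum_eq_zero (fun c hc => ?_), add_zero] at h2
    · exact eq_neg_of_add_eq_zero_left (by simpa using h2)
    · rw [zblk_adj, J_mid hk hd, J_mid hk hc, hN c d (fun h => ((mem_mids hk).mp hc).1 h.1) (fun h => hd1 h.1), adj_zero, zero_mul]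
  obtain ⟨A, hA, β, hAe⟩ := middle_element (s := s) hd l
  set Q : Matrix (Fin k) (Fin k) F := l • Matrix.single d ww 1 - s.σ l • Matrix.single oo d 1 + β • Matrix.single oo ww 1
  set M := kz Q (1 : Matrix (Fin t → Fin k) (Fin t → Fin k) F) with hMd
  set m : GL (Fin (t + 1) → Fin k) F := kzU A 1
  have hm : m.val = 1 + M := by
    rw [kzU_coe, hAe, Units.val_one, hMd, ← kz_one, ← kz_add_left]
    congr 1
    simp only [Q]
    abel
  set Z := l • zblk N oo d - s.σ l • WreathU.adj s (powI Jk t) (zblk N oo d) with hZ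
  set C := kz eE Z with hC
  have hblk : ∀ a b, zblk (N * M - M * N) a b = zblk C a b := by
    intro a b
    have hQ : ∀ x y, zblk M x y = Q x y • (1 : Matrix (Fin t → Fin k) (Fin t → Fin k) F) := fun x y => zblk_kz _ _ _ _
    rw [zblk_sub, zblk_mul, zblk_mul]
    simp only [hQ, mul_smul_comm, mul_one, smul_mul_assoc, one_mul, hC, zblk_kz, eE_eq]
    simp only [Q, Matrix.add_apply, Matrix.sub_apply, Matrix.smul_apply, Matrix.single_apply, smul_eq_mul, mul_ite, mul_one,
      mul_zero, add_smul, sub_smul, ite_smul, zero_smul, one_smul, Finset.sum_add_distrib, Finset.sum_sub_distrib, ite_and,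
      Finset.sum_ite_eq, Finset.mem_univ, if_true]
    have z1 : zblk N a oo = 0 := hN a oo (fun h => h.2 rfl) (fun h => how h.1)
    have z2 : zblk N ww b = 0 := hN ww b (fun h => how h.1.symm) (fun h => h.2 rfl)
    by_cases ha : oo = a <;> by_cases hb : ww = b
    · subst ha hb
      simp [z1, z2, hZ, hdw, hd0, hd1, how, how.symm, Ne.symm hd1, Ne.symm hd0, sub_eq_add_neg, smul_neg]
    · subst ha
      have z3 : zblk N d b = 0 := hN d b (fun h => hd0 h.1) (fun h => hb h.1.symm)
      simp [z1, z2, z3, hb, hd0, hd1, how, Ne.symm hd0]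
    · subst hb
      have z3 : zblk N a d = 0 := hN a d (fun h => ha h.1.symm) (fun h => hd1 h.1)
      simp [z1, z2, z3, ha, hd1, how, Ne.symm hd1]
    · simp [z1, z2, ha, hb]
  have hNM : N * M - M * N = C := zblk_ext hblk
  have hkill : ∀ X : Matrix (Fin (t + 1) → Fin k) (Fin (t + 1) → Fin k) F, (∀ b, zblk X ww b = 0) → C * X = 0 := by
    intro X hX
    refine zblk_ext fun a b => ?_
    rw [zblk_mul]
    refine Finset.sum_eq_zero fun c _ => ?_
    rw [hC, zblk_kz, eE_eq, Matrix.single_apply]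
    by_cases hc : oo = a ∧ ww = c
    · rw [← hc.2, hX b, mul_zero]
    · rw [if_neg hc, zero_smul, zero_mul]
  have hC1 : C * N = 0 := hkill N fun b => hN ww b (fun h => how h.1.symm) (fun h => h.2 rfl)
  have hC2 : C * M = 0 := hkill M fun b => by
    rw [hMd, zblk_kz]
    simp [Q, Matrix.single_apply, hd1, how]
  refine ⟨h * m * (m * h)⁻¹, mul_mem (mul_mem hh ?_) (inv_mem (mul_mem ?_ hh)), ?_⟩
  · exact kzU_mem_H hM hA (one_mem _) (one_mem _)
  · exact kzU_mem_H hM hA (one_mem _) (one_mem _)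
  have e1 : (1 + C) * ((1 + M) * (1 + N)) = (1 + N) * (1 + M) := by
    rw [← mul_assoc, add_mul (1 : Matrix (Fin (t + 1) → Fin k) (Fin (t + 1) → Fin k) F) C, one_mul, mul_add C, mul_one,
      hC2, add_zero, add_mul, mul_add C, mul_one, hC1, add_zero, ← hNM]
    noncomm_ring
  show _ = 1 + C
  rw [Units.val_mul, Units.val_mul, e, hm, ← e1, ← hm, ← e, ← Units.val_mul m h, mul_assoc, Units.mul_inv, mul_one]

theorem scalar_of_center (hns : ∀ Z, InC s hk H Z → ∃ c : F, Z = c • 1)
    {P : Matrix (Fin t → Fin k) (Fin t → Fin k) F}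
    (h : ∀ l, InC s hk H (l • P - s.σ l • WreathU.adj s (powI Jk t) P)) : ∃ c : F, P = c • 1 := by
  obtain ⟨w, hw⟩ := s.exists_moved
  obtain ⟨c, hc⟩ := hns _ (h 1)
  obtain ⟨d, hd⟩ := hns _ (h w)
  rw [map_one, one_smul, one_smul] at hc
  refine ⟨(w - s.σ w)⁻¹ * (d - s.σ w * c), ?_⟩
  have e : (w - s.σ w) • P = (d - s.σ w * c) • (1 : Matrix (Fin t → Fin k) (Fin t → Fin k) F) := by
    rw [sub_smul, sub_smul, mul_smul, ← hd, ← hc]; module
  rw [mul_smul, ← e, smul_smul, inv_mul_cancel₀ (sub_ne_zero.mpr (Ne.symm hw)), one_smul]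

/-- The middle blocks of an element fixing the line. -/
theorem mid_scalar (hH : H ≤ SUp s Jk (t + 1)) (hM : ContainsU s Jk H)
    (hns : ∀ Z, InC s hk H Z → ∃ c : F, Z = c • 1) {g : GL (Fin (t + 1) → Fin k) F}
    (hgU : g ∈ U s (powI Jk (t + 1))) (hfix : Fixes hk g.val)
    (hconj : ∀ w ∈ Geo.tensorWreathStandard k (t + 1) F, w ∈ SUp s Jk (t + 1) → g * w * g⁻¹ ∈ H) :
    zblk g.val oo oo * zblk (g⁻¹).val oo oo = 1 ∧ zblk (g⁻¹).val oo oo * zblk g.val oo oo = 1 ∧
      Fixes hk (g⁻¹).val ∧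
      ∀ c ∈ mids hk, ∀ d ∈ mids hk, ∃ α : F, zblk (g⁻¹).val c d = α • zblk (g⁻¹).val oo oo := by
  classical
  have how : oo ≠ ww := i0_ne_i1 hk
  have hfix' : Fixes hk (g⁻¹).val := by rw [inv_eq_adj s _ hgU]; exact hfix.adj
  set A := zblk g.val oo oo
  set A' := zblk (g⁻¹).val oo oo
  have hAA : A * A' = 1 ∧ A' * A = 1 := by
    constructor
    · have h := congrArg (fun Y => zblk Y oo oo) (Units.mul_inv g)
      rw [zblk_mul, Finset.sum_eq_single oo (fun c _ hc => by rw [hfix'.1 c hc, mul_zero]) (by simp), zblk_one,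
        if_pos rfl] at h
      exact h
    · have h := congrArg (fun Y => zblk Y oo oo) (Units.inv_mul g)
      rw [zblk_mul, Finset.sum_eq_single oo (fun c _ hc => by rw [hfix.1 c hc, mul_zero]) (by simp), zblk_one,
        if_pos rfl] at h
      exact h
  refine ⟨hAA.1, hAA.2, hfix', fun c hc d hd => ?_⟩
  obtain ⟨hc0, hc1⟩ := (mem_mids hk).mp hc
  obtain ⟨hd0, hd1⟩ := (mem_mids hk).mp hd
  obtain ⟨B, hB, β, hBe⟩ := middle_element (s := s) hc 1
  rw [map_one, one_smul, one_smul] at hBe
  set Q : Matrix (Fin k) (Fin k) F := Matrix.single c ww 1 - Matrix.single oo c 1 + β • Matrix.single oo ww 1 with hQd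
  set N := g.val * kz Q 1 * (g⁻¹).val with hN
  have hblk : ∀ a b, zblk N a b = zblk g.val a c * zblk (g⁻¹).val ww b - zblk g.val a oo * zblk (g⁻¹).val c b +
      β • (zblk g.val a oo * zblk (g⁻¹).val ww b) := by
    intro a b
    have hQ : ∀ x y, zblk (kz Q (1 : Matrix (Fin t → Fin k) (Fin t → Fin k) F)) x y = Q x y • 1 :=
      fun x y => zblk_kz _ _ _ _
    rw [hN, mul_assoc, zblk_mul]
    simp only [zblk_mul, hQ, smul_mul_assoc, one_mul, Finset.mul_sum, mul_smul_comm]
    simp only [hQd, Matrix.add_apply, Matrix.sub_apply, Matrix.smul_apply, Matrix.single_apply, smul_eq_mul, mul_ite,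
      mul_one, mul_zero, add_smul, sub_smul, ite_smul, zero_smul, one_smul, Finset.sum_add_distrib,
      Finset.sum_sub_distrib, ite_and, Finset.sum_ite_irrel, Finset.sum_const_zero, Finset.sum_ite_eq,
      Finset.mem_univ, if_true]
  have hUp : Upper hk N := by
    intro a b h1 h2
    rw [hblk]
    by_cases hb : b = ww
    · have ha : a = ww := by
        by_contra ha; exact h2 ⟨hb, ha⟩
      subst ha
      rw [hfix.2 c hc1, hfix.2 oo how, zero_mul, zero_mul, smul_zero, sub_zero, add_zero]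
    · rw [hfix'.2 b hb, mul_zero, mul_zero, smul_zero, add_zero, zero_sub, neg_eq_zero]
      by_cases ha : a = oo
      · have hb0 : b = oo := by
          by_contra hb0; exact h1 ⟨ha, hb0⟩
        rw [hb0, hfix'.1 c hc0, mul_zero]
      · rw [hfix.1 a ha, zero_mul]
  have hh : g * kzU B 1 * g⁻¹ ∈ H := hconj _ (kzU_mem B (one_mem _)) (kzU_su hB (one_mem _))
  have he : (g * kzU B (1 : GL (Fin t → Fin k) F) * g⁻¹).val = 1 + N := by
    rw [Units.val_mul, Units.val_mul, kzU_coe, hBe, Units.val_one, hN,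
      show (1 : Matrix (Fin k) (Fin k) F) + Matrix.single c ww 1 - Matrix.single oo c 1 + β • Matrix.single oo ww 1 = 1 + Q by
        rw [hQd]; abel,
      kz_add_left, kz_one, mul_add, add_mul, mul_one, Units.mul_inv]
  obtain ⟨α, hα⟩ := scalar_of_center hns fun l => Upper.center hH hM hh he hUp hd l
  refine ⟨-α, ?_⟩
  have h1 : zblk N oo d = -(A * zblk (g⁻¹).val c d) := by
    rw [hblk, hfix'.2 d hd1]; simp [A]
  rw [h1] at hα
  have h2 := congrArg (A' * ·) hα
  simp only [mul_neg, ← mul_assoc, hAA.2, one_mul, mul_smul_comm, mul_one] at h2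
  rw [neg_smul, ← h2, neg_neg]

/-- The torus element of the first slot. -/
theorem exists_torus {a : F} (ha : a ≠ 0) (hs : s.σ a = a) :
    ∃ T ∈ HermStab.su (hf s Jk), (T : Matrix (Fin k) (Fin k) F) =
      Matrix.diagonal (fun x => if x = oo then a else if x = ww then a⁻¹ else 1) := by
  classical
  let v : Fin k → Fˣ := Pi.mulSingle oo (Units.mk0 a ha) * Pi.mulSingle ww (Units.mk0 a⁻¹ (inv_ne_zero ha))
  have how : oo ≠ ww := i0_ne_i1 hk
  have hv : ∀ x, (v x : F) = if x = oo then a else if x = ww then a⁻¹ else 1 := fun x => by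
    by_cases h0 : x = oo
    · subst h0; simp [v, how]
    · by_cases h1 : x = ww
      · subst h1; simp [v, how, h0]
      · simp [v, h0, h1]
  let D : GL (Fin k) F :=
    ⟨Matrix.diagonal fun x => (v x : F), Matrix.diagonal fun x => ((v x)⁻¹ : Fˣ),
      by rw [Matrix.diagonal_mul_diagonal]; simp, by rw [Matrix.diagonal_mul_diagonal]; simp⟩
  have hDv : (D : Matrix (Fin k) (Fin k) F) = Matrix.diagonal fun x => (v x : F) := rfl
  refine ⟨D, ⟨(mem_U_iff s Jk).mpr ?_, MonoidHom.mem_ker.mpr (Units.ext ?_)⟩, hDv.trans (by simp only [hv])⟩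
  · have hadj : WreathU.adj s Jk (D : Matrix (Fin k) (Fin k) F) = Matrix.diagonal fun x => s.σ (v ((Jk).J x) : F) := by
      ext p q
      by_cases hpq : p = q
      · subst hpq; simp [WreathU.adj, D]
      · simp [WreathU.adj, D, hpq, (Jk).J.injective.ne (Ne.symm hpq)]
    rw [hadj, hDv, Matrix.diagonal_mul_diagonal, ← Matrix.diagonal_one]
    congr 1
    funext p
    rw [hv, hv]
    by_cases h0 : p = oo
    · subst h0
      rw [show (Jk).J oo = ww from Equiv.swap_apply_left _ _]
      simp [how.symm, hs, ha]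
    by_cases h1 : p = ww
    · subst h1
      rw [show (Jk).J ww = oo from Equiv.swap_apply_right _ _]
      simp [how.symm, hs, ha]
    rw [show (Jk).J p = p from Equiv.swap_apply_of_ne_of_ne h0 h1]
    simp [h0, h1]
  · rw [Matrix.GeneralLinearGroup.val_det_apply, hDv, Matrix.det_diagonal, ← Units.coe_prod]
    simp only [v, Pi.mul_apply, Finset.prod_mul_distrib]
    rw [Fintype.prod_pi_mulSingle' oo, Fintype.prod_pi_mulSingle' ww]
    simp [ha]

/-- A torus element with a prescribed eigenvalue on the line. -/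
theorem exists_torus_eo {a : F} (ha0 : a ≠ 0) :
    ∃ T ∈ HermStab.su (hf s Jk), (T : Matrix (Fin k) (Fin k) F) *ᵥ WreathU.eo hk = a • WreathU.eo hk := by
  classical
  have hsa0 : s.σ a ≠ 0 := (map_ne_zero s.σ).mpr ha0
  let c : Fin k := ⟨2, by omega⟩
  have hc0 : c ≠ oo := by simp [c, i0, Fin.ext_iff]
  have hc1 : c ≠ ww := by simp [c, i1, Fin.ext_iff]
  have how : oo ≠ ww := i0_ne_i1 hk
  let v : Fin k → Fˣ := Pi.mulSingle oo (Units.mk0 a ha0) * Pi.mulSingle ww (Units.mk0 _ (inv_ne_zero hsa0)) *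
    Pi.mulSingle c (Units.mk0 (s.σ a / a) (div_ne_zero hsa0 ha0))
  let D : GL (Fin k) F :=
    ⟨Matrix.diagonal fun x => (v x : F), Matrix.diagonal fun x => ((v x)⁻¹ : Fˣ),
      by rw [Matrix.diagonal_mul_diagonal]; simp, by rw [Matrix.diagonal_mul_diagonal]; simp⟩
  have hDv : (D : Matrix (Fin k) (Fin k) F) = Matrix.diagonal fun x => (v x : F) := rfl
  refine ⟨D, ⟨(mem_U_iff s Jk).mpr ?_, MonoidHom.mem_ker.mpr (Units.ext ?_)⟩, ?_⟩
  · have hadj : WreathU.adj s Jk (D : Matrix (Fin k) (Fin k) F) = Matrix.diagonal fun x => s.σ (v ((Jk).J x) : F) := by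
      ext p q
      by_cases hpq : p = q
      · subst hpq; simp [WreathU.adj, D]
      · simp [WreathU.adj, D, hpq, (Jk).J.injective.ne (Ne.symm hpq)]
    rw [hadj, hDv, Matrix.diagonal_mul_diagonal, ← Matrix.diagonal_one]
    congr 1
    funext p
    by_cases hp0 : p = oo
    · subst hp0
      rw [show (Jk).J oo = ww from Equiv.swap_apply_left _ _]
      simp [v, how, how.symm, hc0.symm, hc1.symm, s.inv, ha0]
    by_cases hp1 : p = ww
    · subst hp1
      rw [show (Jk).J ww = oo from Equiv.swap_apply_right _ _]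
      simp [v, how, how.symm, hc0.symm, hc1.symm, hsa0]
    rw [show (Jk).J p = p from Equiv.swap_apply_of_ne_of_ne hp0 hp1]
    by_cases hpc : p = c
    · subst hpc
      simp [v, hc0, hc1, s.inv]
      field_simp
    · simp [v, hp0, hp1, hpc]
  · have e : ∏ x, v x = 1 := by
      simp only [v, Pi.mul_apply, Finset.prod_mul_distrib]
      rw [Fintype.prod_pi_mulSingle' oo, Fintype.prod_pi_mulSingle' ww, Fintype.prod_pi_mulSingle' c]
      refine Units.ext ?_
      simp only [Units.val_mul, Units.val_mk0, Units.val_one]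
      field_simp
    rw [Matrix.GeneralLinearGroup.val_det_apply, hDv, Matrix.det_diagonal, ← Units.coe_prod, e, Units.val_one]
  · rw [hDv]
    funext p
    rw [Matrix.mulVec_diagonal]
    by_cases hp : p = oo
    · subst hp; simp [WreathU.eo, v, how, hc0.symm]
    · simp [WreathU.eo, hp]

theorem exists_iso_mid {c d : Fin k} (hc : c ∈ mids hk) (hd : d ∈ mids hk) (hcd : c ≠ d) {a : F}
    (ha : s.σ a * a = -1) : IsMid hk ((Pi.single c 1 : Fin k → F) + a • Pi.single d 1) ∧
      f ((Pi.single c 1 : Fin k → F) + a • Pi.single d 1) ((Pi.single c 1 : Fin k → F) + a • Pi.single d 1) = 0 := by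
  obtain ⟨hc0, hc1⟩ := (mem_mids hk).mp hc
  obtain ⟨hd0, hd1⟩ := (mem_mids hk).mp hd
  refine ⟨(isMid_single hc0 hc1).add ((isMid_single hd0 hd1).smul a), ?_⟩
  simp only [hf_add_left, hf_add_right, hf_smul_left, hf_smul_right, f_single_single, J_mid hk hc, J_mid hk hd,
    if_neg hcd, if_neg (Ne.symm hcd), if_true]
  linear_combination ha

/-- The main dichotomy for an element fixing the first line. -/
theorem line_dichotomy (hex : ¬ (Nat.card F = 4 ∧ k = 3)) (ht : 1 ≤ t) (hH : H ≤ SUp s Jk (t + 1))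
    (hM : ContainsU s Jk H) {g : GL (Fin (t + 1) → Fin k) F} (hgU : g ∈ U s (powI Jk (t + 1)))
    (hgW : g ∉ Geo.tensorWreathStandard k (t + 1) F)
    (hconj : ∀ w ∈ Geo.tensorWreathStandard k (t + 1) F, w ∈ SUp s Jk (t + 1) → g * w * g⁻¹ ∈ H)
    {r : F} (hcomm : g.val * kz eE 1 = r • (kz eE 1 * g.val)) :
    (∃ Z, InC s hk H Z ∧ ∀ c : F, Z ≠ c • 1) ∨
      ∃ g₀ : GL (Fin t → Fin k) F, g₀ ∈ U s (powI Jk t) ∧ g₀ ∉ Geo.tensorWreathStandard k t F ∧
        ∀ v ∈ Geo.tensorWreathStandard k t F, v ∈ SUp s Jk t → kzU 1 (g₀ * v * g₀⁻¹) ∈ H := by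
  classical
  by_cases hZ : ∃ Z, InC s hk H Z ∧ ∀ c : F, Z ≠ c • 1
  · exact Or.inl hZ
  push Not at hZ
  refine Or.inr ?_
  have how : oo ≠ ww := i0_ne_i1 hk
  have hJo : (Jk).J oo = ww := Equiv.swap_apply_left _ _
  have hJw : (Jk).J ww = oo := Equiv.swap_apply_right _ _
  have hfix : Fixes hk g.val := fixes_of_comm (fun Y hY => by
    rw [← one_mul Y, ← Units.inv_mul g, mul_assoc, hY, mul_zero]) hcomm
  obtain ⟨hAA', hA'A, hfix', hmid⟩ := mid_scalar hH hM hZ hgU hfix hconj
  have hadj := inv_eq_adj s _ hgU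
  set A := zblk g.val oo oo with hA
  set A' := zblk (g⁻¹).val oo oo with hA'
  have hblk' : ∀ a b, zblk g.val a b = WreathU.adj s (powI Jk t) (zblk (g⁻¹).val ((Jk).J b) ((Jk).J a)) := by
    intro a b; rw [hadj, zblk_adj, (Jk).inv, (Jk).inv, adj_adj]
  choose α hα using hmid
  let al : Fin k → Fin k → F := fun c d => if h : c ∈ mids hk ∧ d ∈ mids hk then α c h.1 d h.2 else 0
  have hal : ∀ c ∈ mids hk, ∀ d ∈ mids hk, zblk (g⁻¹).val c d = al c d • A' := fun c hc d hd => by
    simp only [al, dif_pos (And.intro hc hd)]; exact hα c hc d hd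
  have hgmid : ∀ c ∈ mids hk, ∀ d ∈ mids hk,
      zblk g.val c d = s.σ (al d c) • WreathU.adj s (powI Jk t) A' := fun c hc d hd => by
    rw [hblk', J_mid hk hc, J_mid hk hd, hal d hd c hc, adj_smul]
  have hprod : ∀ c ∈ mids hk, ∀ d ∈ mids hk,
      (∑ e ∈ mids hk, al c e * s.σ (al d e)) • WreathU.adj s (powI Jk t) A' = if c = d then A else 0 := by
    intro c hc d hd
    have h := congrArg (fun Y => A * zblk Y c d) (Units.inv_mul g)
    simp only [zblk_mul, zblk_one] at h
    rw [sum_split hk, hfix'.1 c ((mem_mids hk).mp hc).1, zero_mul, zero_add, hfix.2 d ((mem_mids hk).mp hd).2,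
      mul_zero, zero_add, mul_ite, mul_one, mul_zero, Finset.mul_sum] at h
    rw [← h, Finset.sum_smul]
    refine Finset.sum_congr rfl fun e he => ?_
    rw [hal c hc e he, hgmid e he d hd, smul_mul_smul_comm, mul_smul_comm, ← mul_assoc, hAA', one_mul]
  let c2 : Fin k := ⟨2, by omega⟩
  have hc2 : c2 ∈ mids hk := (mem_mids hk).mpr ⟨by simp [c2, i0, Fin.ext_iff], by simp [c2, i1, Fin.ext_iff]⟩
  have hA0 : A ≠ 0 := by
    intro h0
    rw [h0, zero_mul] at hAA'
    haveI : Nonempty (Fin k) := ⟨c2⟩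
    exact zero_ne_one hAA'
  set ρ := ∑ e ∈ mids hk, al c2 e * s.σ (al c2 e) with hρdef
  have hρA : ρ • WreathU.adj s (powI Jk t) A' = A := by
    have := hprod c2 hc2 c2 hc2
    rwa [if_pos rfl] at this
  have hρ0 : ρ ≠ 0 := fun h0 => hA0 (by rw [← hρA, h0, zero_smul])
  have hρs : s.σ ρ = ρ := by
    rw [hρdef, map_sum]; exact Finset.sum_congr rfl fun e _ => by rw [map_mul, s.inv, mul_comm]
  have hadjA' : WreathU.adj s (powI Jk t) A' = ρ⁻¹ • A := by
    rw [← hρA, smul_smul, inv_mul_cancel₀ hρ0, one_smul]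
  have hadjA : WreathU.adj s (powI Jk t) A = ρ • A' := by
    rw [← hρA, adj_smul, adj_adj, hρs]
  have horth : ∀ c ∈ mids hk, ∀ d ∈ mids hk, ∑ e ∈ mids hk, al c e * s.σ (al d e) = if c = d then ρ else 0 := by
    intro c hc d hd
    have h := hprod c hc d hd
    rw [hadjA', smul_smul] at h
    split_ifs at h ⊢ with hcd
    · have h2 : (∑ e ∈ mids hk, al c e * s.σ (al d e)) * ρ⁻¹ = 1 :=
        smul_left_injective F hA0 (h.trans (one_smul F A).symm)
      rw [mul_inv_eq_one₀ hρ0] at h2
      exact h2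
    · exact ((smul_eq_zero.mp h).resolve_right hA0 |> mul_eq_zero.mp).resolve_right (inv_ne_zero hρ0)
  -- the first row
  have hrow : ∀ c ∈ mids hk, ∃ γ : F, zblk g.val oo c = γ • A := by
    suffices key : ∀ c ∈ mids hk, ∃ γ : F, zblk g.val oo c * A' = γ • 1 by
      intro c hc
      obtain ⟨γ, hγ⟩ := key c hc
      refine ⟨γ, ?_⟩
      have h := congrArg (· * A) hγ
      rwa [smul_mul_assoc, one_mul, mul_assoc, hA'A, mul_one] at h
    by_cases h4 : Nat.card F = 4
    · have hk4 : 4 ≤ k := by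
        rcases Nat.lt_or_ge k 4 with h | h
        · exact absurd ⟨h4, by omega⟩ hex
        · exact h
      obtain ⟨c₀, hc₀, hc₀s⟩ := s.exists_skew
      have hy : ∀ y : Fin k → F, IsMid hk y → f y y = 0 → y ≠ 0 →
          ∃ γ : F, (∑ i ∈ mids hk, y i • zblk g.val oo i) * A' = γ • 1 := by
        intro y hym hyy hy0
        let y' : Fin k → F := fun b => if b ∈ mids hk then ∑ i ∈ mids hk, s.σ (al i b) * y i else 0
        have hfy : ∀ u v : Fin k → F, (∀ b, b ∉ mids hk → v b = 0) → f u v = ∑ b ∈ mids hk, s.σ (v b) * u b := by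
          intro u v hv
          rw [hf, dotProduct, sum_split hk]
          simp only [cv, hJo, hJw, hv ww (by simp [mids]), hv oo (by simp [mids]), map_zero, zero_mul, zero_add]
          exact Finset.sum_congr rfl fun b hb => by rw [J_mid hk hb]
        have hym' : ∀ b, b ∉ mids hk → y b = 0 := fun b hb => by
          rw [mem_mids, not_and_or, not_not, not_not] at hb
          rcases hb with rfl | rfl
          exacts [hym.1, hym.2]
        have hy'm : ∀ b, b ∉ mids hk → y' b = 0 := fun b hb => by simp [y', hb]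
        have hy'y' : f y' y' = 0 := by
          rw [hfy _ _ hy'm, show (0 : F) = ρ * f y y by rw [hyy, mul_zero], hfy _ _ hym', Finset.mul_sum]
          calc ∑ b ∈ mids hk, s.σ (y' b) * y' b
              = ∑ b ∈ mids hk, ∑ i ∈ mids hk, ∑ j ∈ mids hk, (s.σ (y i) * y j) * (al i b * s.σ (al j b)) :=
                Finset.sum_congr rfl fun b hb => by
                  simp only [y', if_pos hb, map_sum, map_mul, s.inv, Finset.sum_mul, Finset.mul_sum]
                  rw [Finset.sum_comm]
                  exact Finset.sum_congr rfl fun i _ => Finset.sum_congr rfl fun j _ => by ring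
            _ = ∑ i ∈ mids hk, ∑ j ∈ mids hk, (s.σ (y i) * y j) * ∑ b ∈ mids hk, al i b * s.σ (al j b) := by
                rw [Finset.sum_comm]
                refine Finset.sum_congr rfl fun i _ => ?_
                rw [Finset.sum_comm]
                exact Finset.sum_congr rfl fun j _ => (Finset.mul_sum _ _ _).symm
            _ = ∑ i ∈ mids hk, ρ * (s.σ (y i) * y i) := Finset.sum_congr rfl fun i hi => by
                rw [Finset.sum_congr rfl fun j hj => by rw [horth i hi j hj], Finset.sum_eq_single i]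
                · rw [if_pos rfl, mul_comm]
                · intro j _ hji; rw [if_neg (Ne.symm hji), mul_zero]
                · exact fun h => absurd hi h
        set R := ut (hf s Jk) y c₀
        have hR := HermStab.ut_mem_su (isUnitary s Jk) hyy hc₀s
        set c' := c₀ * ρ⁻¹
        have hc' : c' + s.σ c' = 0 := by
          rw [map_mul, map_inv₀, hρs, ← add_mul, hc₀s, zero_mul]
        set R' := ut (hf s Jk) y' (-c')
        have hR' := HermStab.ut_mem_su (isUnitary s Jk) hy'y' (c := -c') (by rw [map_neg]; linear_combination -hc')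
        set N₁ := g.val * kz (c₀ • rk s Jk y y) 1 * (g⁻¹).val with hN₁
        set N₂ := kz (c' • rk s Jk y' y') (1 : Matrix (Fin t → Fin k) (Fin t → Fin k) F) with hN₂
        have e : (g * kzU R (1 : GL (Fin t → Fin k) F) * g⁻¹ * kzU R' (1 : GL (Fin t → Fin k) F)).val =
            1 + (N₁ - N₂ - N₁ * N₂) := by
          rw [Units.val_mul, Units.val_mul, Units.val_mul, kzU_coe, kzU_coe, ut_coe s Jk hyy, ut_coe s Jk hy'y',
            Units.val_one, kz_add_left, kz_add_left, kz_one, mul_add g.val, mul_one, add_mul, Units.mul_inv, ← hN₁,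
            show kz ((-c') • rk s Jk y' y') (1 : Matrix (Fin t → Fin k) (Fin t → Fin k) F) = -N₂ by
              rw [hN₂, kz_smul_left, kz_smul_left, neg_smul]]
          noncomm_ring
        set Uv : Fin k → Matrix (Fin t → Fin k) (Fin t → Fin k) F :=
          fun x => ∑ i ∈ mids hk, y i • zblk g.val x i with hUvd
        set Vv : Fin k → Matrix (Fin t → Fin k) (Fin t → Fin k) F :=
          fun x => ∑ j ∈ mids hk, s.σ (y j) • zblk (g⁻¹).val j x with hVvd
        have hsum : ∀ Φ : Fin k → Matrix (Fin t → Fin k) (Fin t → Fin k) F,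
            ∑ i, y i • Φ i = ∑ i ∈ mids hk, y i • Φ i := fun Φ => by
          rw [sum_split hk, hym.1, hym.2, zero_smul, zero_smul, zero_add, zero_add]
        have hsum' : ∀ Φ : Fin k → Matrix (Fin t → Fin k) (Fin t → Fin k) F,
            ∑ j, s.σ (y ((Jk).J j)) • Φ j = ∑ j ∈ mids hk, s.σ (y j) • Φ j := fun Φ => by
          rw [sum_split hk, hJo, hJw, hym.1, hym.2, map_zero, zero_smul, zero_smul, zero_add, zero_add]
          exact Finset.sum_congr rfl fun j hj => by rw [J_mid hk hj]
        have hb1 : ∀ x z, zblk N₁ x z = c₀ • (Uv x * Vv z) := fun x z => by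
          rw [hN₁, kz_smul_left, mul_smul_comm, smul_mul_assoc,
            show ∀ (Y : Matrix (Fin (t + 1) → Fin k) (Fin (t + 1) → Fin k) F), zblk (c₀ • Y) x z = c₀ • zblk Y x z from
              fun Y => rfl, zblk_mul]
          congr 1
          calc ∑ c, zblk (g.val * kz (rk s Jk y y) 1) x c * zblk (g⁻¹).val c z
              = ∑ c, (∑ i, y i • zblk g.val x i) * (s.σ (y ((Jk).J c)) • zblk (g⁻¹).val c z) :=
                Finset.sum_congr rfl fun c _ => by
                  rw [zblk_mul, Finset.sum_mul, Finset.sum_mul]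
                  refine Finset.sum_congr rfl fun i _ => ?_
                  rw [zblk_kz, rk, vecMulVec_apply, cv, mul_smul_comm, mul_one, smul_mul_assoc, smul_mul_smul_comm]
            _ = Uv x * Vv z := by rw [← Finset.mul_sum, hsum, hsum']
        have hb2 : ∀ x z, zblk N₂ x z = (c' * (y' x * s.σ (y' ((Jk).J z)))) • 1 := fun x z => by
          rw [hN₂, zblk_kz, Matrix.smul_apply, rk, vecMulVec_apply, cv, smul_eq_mul]
        have hU0 : ∀ x ∈ mids hk, Uv x = (ρ⁻¹ * y' x) • A := fun x hx => by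
          simp only [hUvd, y', if_pos hx, Finset.mul_sum, Finset.sum_smul]
          refine Finset.sum_congr rfl fun i hi => ?_
          rw [hgmid x hx i hi, hadjA', smul_smul, smul_smul]
          congr 1; ring
        have hV0 : ∀ x ∈ mids hk, Vv x = s.σ (y' x) • A' := fun x hx => by
          simp only [hVvd, y', if_pos hx, map_sum, map_mul, s.inv, Finset.sum_smul]
          refine Finset.sum_congr rfl fun i hi => ?_
          rw [hal i hi x hx, smul_smul, mul_comm]
        have hVo : Vv oo = 0 := Finset.sum_eq_zero fun j hj => by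
          rw [hfix'.1 j ((mem_mids hk).mp hj).1, smul_zero]
        have hUw : Uv ww = 0 := Finset.sum_eq_zero fun j hj => by
          rw [hfix.2 j ((mem_mids hk).mp hj).2, smul_zero]
        have h12 : N₁ * N₂ = 0 := by
          refine zblk_ext fun x z => ?_
          rw [zblk_mul, show zblk (0 : Matrix (Fin (t + 1) → Fin k) (Fin (t + 1) → Fin k) F) x z = 0 from rfl,
            Finset.sum_congr rfl fun e _ => show zblk N₁ x e * zblk N₂ e z =
              (c' * s.σ (y' ((Jk).J z))) • (c₀ • (Uv x * (y' e • Vv e))) by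
                rw [hb1, hb2, mul_smul_comm, mul_one, mul_smul_comm, smul_smul, smul_smul, smul_smul]
                congr 1; ring,
            ← Finset.smul_sum, ← Finset.smul_sum, ← Finset.mul_sum]
          have h0 : ∑ e, y' e • Vv e = 0 := by
            rw [sum_split hk, hy'm oo (by simp [mids]), hy'm ww (by simp [mids]), zero_smul, zero_smul, zero_add, zero_add,
              Finset.sum_congr rfl fun e he => by rw [hV0 e he, smul_smul], ← Finset.sum_smul,
              Finset.sum_congr rfl fun e _ => mul_comm (y' e) (s.σ (y' e)), ← hfy _ _ hy'm, hy'y', zero_smul]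
          rw [h0, mul_zero, smul_zero, smul_zero]
        rw [h12, sub_zero] at e
        have hUp : Upper hk (N₁ - N₂) := by
          intro x z h1 h2
          rw [zblk_sub, hb1, hb2]
          by_cases hx : x ∈ mids hk
          · by_cases hzm : z ∈ mids hk
            · rw [hU0 x hx, hV0 z hzm, J_mid hk hzm, smul_mul_smul_comm, hAA', smul_smul, sub_eq_zero]
              congr 1
              simp only [c']; ring
            · have hz : z = oo := by
                rw [mem_mids, not_and_or, not_not, not_not] at hzm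
                exact hzm.resolve_right fun hz => h2 ⟨hz, ((mem_mids hk).mp hx).2⟩
              rw [hz, hVo, mul_zero, smul_zero, hJo, hy'm ww (by simp [mids]), map_zero, mul_zero, mul_zero,
                zero_smul, sub_zero]
          · rw [hy'm x hx, zero_mul, mul_zero, zero_smul, sub_zero]
            rw [mem_mids, not_and_or, not_not, not_not] at hx
            rcases hx with rfl | rfl
            · rw [show z = oo by by_contra hz; exact h1 ⟨rfl, hz⟩, hVo, mul_zero, smul_zero]
            · rw [hUw, zero_mul, smul_zero]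
        have hin : g * kzU R (1 : GL (Fin t → Fin k) F) * g⁻¹ * kzU R' (1 : GL (Fin t → Fin k) F) ∈ H :=
          mul_mem (hconj _ (kzU_mem R (one_mem _)) (kzU_su hR (one_mem _))) (kzU_mem_H hM hR' (one_mem _) (one_mem _))
        obtain ⟨d, hd, hyd⟩ : ∃ d ∈ mids hk, y' d ≠ 0 := by
          by_contra hc
          push Not at hc
          refine hy0 (funext fun i => ?_)
          by_cases hi : i ∈ mids hk
          · have e1 : ∑ b ∈ mids hk, al i b * y' b = ρ * y i := by
              rw [Finset.sum_congr rfl fun b hb => by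
                rw [show y' b = ∑ j ∈ mids hk, s.σ (al j b) * y j from if_pos hb, Finset.mul_sum], Finset.sum_comm,
                Finset.sum_congr rfl fun j hj => by
                  rw [Finset.sum_congr rfl fun b _ => (mul_assoc (al i b) (s.σ (al j b)) (y j)).symm, ← Finset.sum_mul,
                    horth i hi j hj]]
              simp [hi]
            rw [Finset.sum_congr rfl fun b hb => by rw [hc b hb, mul_zero], Finset.sum_const_zero] at e1
            exact (mul_eq_zero.mp e1.symm).resolve_left hρ0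
          · exact hym' i hi
        obtain ⟨β, hβ⟩ := scalar_of_center hZ fun l => Upper.center hH hM hin e hUp hd l
        refine ⟨(c₀ * s.σ (y' d))⁻¹ * β, ?_⟩
        rw [zblk_sub, hb1, hb2, hy'm oo (by simp [mids]), zero_mul, mul_zero, zero_smul, sub_zero, hV0 d hd,
          mul_smul_comm, smul_smul] at hβ
        rw [mul_smul, ← hβ, smul_smul, inv_mul_cancel₀ (mul_ne_zero hc₀ ((map_ne_zero s.σ).mpr hyd)), one_smul]
      intro c hc
      obtain ⟨d, hd, hcd⟩ : ∃ d ∈ mids hk, c ≠ d := by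
        let c3 : Fin k := ⟨3, by omega⟩
        by_cases h : c = c2
        · exact ⟨c3, (mem_mids hk).mpr ⟨by simp [c3, i0, Fin.ext_iff], by simp [c3, i1, Fin.ext_iff]⟩,
            by simp [h, c2, c3, Fin.ext_iff]⟩
        · exact ⟨c2, hc2, h⟩
      obtain ⟨a, ha⟩ := s.exists_norm (r := -1) (by rw [map_neg, map_one])
      obtain ⟨μ, -, hμ, -, hμ1, -, -⟩ := s.exists_units_norm
      have ha0 : a ≠ 0 := fun h0 => by simp [h0] at ha
      have hpair : ∀ b, s.σ b * b = -1 → ∃ γ : F, (zblk g.val oo d + b • zblk g.val oo c) * A' = γ • 1 := by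
        intro b hb
        obtain ⟨hm, hiso⟩ := exists_iso_mid hd hc hcd.symm hb
        obtain ⟨γ, hγ⟩ := hy _ hm hiso (fun h0 => by simpa [hcd.symm] using congrFun h0 d)
        refine ⟨γ, ?_⟩
        rw [← hγ]
        congr 1
        simp only [Pi.add_apply, Pi.smul_apply, Pi.single_apply, smul_eq_mul, mul_ite, mul_one, mul_zero, add_smul,
          ite_smul, one_smul, zero_smul, Finset.sum_add_distrib, Finset.sum_ite_eq', hc, hd, if_true]
      obtain ⟨γ₁, h1⟩ := hpair a ha
      obtain ⟨γ₂, h2⟩ := hpair (μ * a) (by rw [map_mul]; linear_combination (s.σ a * a) * hμ + ha)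
      refine ⟨(μ * a - a)⁻¹ * (γ₂ - γ₁), ?_⟩
      have e : (μ * a - a) • (zblk g.val oo c * A') = (γ₂ - γ₁) • (1 : Matrix (Fin t → Fin k) (Fin t → Fin k) F) := by
        rw [sub_smul, sub_smul, ← h1, ← h2, ← smul_mul_assoc, ← smul_mul_assoc]
        noncomm_ring
      have hne : μ * a - a ≠ 0 := by
        rw [sub_ne_zero]; exact fun h => hμ1 ((mul_eq_right₀ ha0).mp h)
      rw [mul_smul, ← e, smul_smul, inv_mul_cancel₀ hne, one_smul]
    · obtain ⟨a, ha0, has, ha1⟩ : ∃ a : F, a ≠ 0 ∧ s.σ a = a ∧ a ≠ 1 := by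
        by_contra hc
        push Not at hc
        exact h4 (card_eq_four s hc)
      obtain ⟨T, hT, hTe⟩ := exists_torus (hk := hk) ha0 has
      obtain ⟨T', hT', hTe'⟩ := exists_torus (hk := hk) (a := a⁻¹) (inv_ne_zero ha0) (by rw [map_inv₀, has])
      set N := g.val * kz (T : Matrix (Fin k) (Fin k) F) 1 * (g⁻¹).val * kz (T' : Matrix (Fin k) (Fin k) F) 1 - 1 with hN
      have heN : (g * kzU T (1 : GL (Fin t → Fin k) F) * g⁻¹ * kzU T' (1 : GL (Fin t → Fin k) F)).val = 1 + N := by
        rw [hN, add_sub_cancel]; rfl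
      have hin : g * kzU T (1 : GL (Fin t → Fin k) F) * g⁻¹ * kzU T' (1 : GL (Fin t → Fin k) F) ∈ H :=
        mul_mem (hconj _ (kzU_mem T (one_mem _)) (kzU_su hT (one_mem _))) (kzU_mem_H hM hT' (one_mem _) (one_mem _))
      let d : Fin k → F := fun x => if x = oo then a else if x = ww then a⁻¹ else 1
      let d' : Fin k → F := fun x => if x = oo then a⁻¹ else if x = ww then a⁻¹⁻¹ else 1
      have hblk : ∀ x y, zblk N x y =
          d' y • (∑ e, d e • (zblk g.val x e * zblk (g⁻¹).val e y)) - if x = y then 1 else 0 := by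
        intro x y
        rw [hN, zblk_sub, zblk_one, zblk_mul]
        congr 1
        rw [Finset.sum_eq_single y ?_ (by simp)]
        · rw [zblk_kz, hTe', Matrix.diagonal_apply_eq, mul_smul_comm, mul_one, zblk_mul]
          congr 1
          refine Finset.sum_congr rfl fun e _ => ?_
          rw [zblk_mul, Finset.sum_eq_single e ?_ (by simp)]
          · rw [zblk_kz, hTe, Matrix.diagonal_apply_eq, mul_smul_comm, mul_one, smul_mul_assoc]
          · intro c _ hc
            rw [zblk_kz, hTe, Matrix.diagonal_apply_ne _ hc, zero_smul, mul_zero]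
        · intro c _ hc
          rw [zblk_kz, hTe', Matrix.diagonal_apply_ne _ hc, zero_smul, mul_zero]
      have hone : ∀ x y, ∑ e, zblk g.val x e * zblk (g⁻¹).val e y = if x = y then 1 else 0 := fun x y => by
        rw [← zblk_mul, Units.mul_inv, zblk_one]
      have dmid : ∀ e ∈ mids hk, d e = 1 ∧ d' e = 1 := fun e he => by
        obtain ⟨h0, h1⟩ := (mem_mids hk).mp he
        simp [d, d', h0, h1]
      have hUp : Upper hk N := by
        intro x y h1 h2
        rw [hblk]
        have hx : x = oo → y = oo := fun hx => by by_contra hy; exact h1 ⟨hx, hy⟩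
        have hy : y = ww → x = ww := fun hy => by by_contra hx; exact h2 ⟨hy, hx⟩
        by_cases hxo : x = oo
        · rw [hx hxo, hxo, sum_split hk, Finset.sum_eq_zero fun e he => by
              rw [hfix'.1 e ((mem_mids hk).mp he).1, mul_zero, smul_zero],
            hfix'.1 ww how.symm, mul_zero, smul_zero, add_zero, add_zero, ← hA, ← hA', hAA', smul_smul, if_pos rfl]
          simp [d, d', ha0]
        by_cases hyw : y = ww
        · have h := hone ww ww
          rw [Finset.sum_eq_single ww (fun e _ he => by rw [hfix.2 e he, zero_mul]) (by simp), if_pos rfl] at h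
          rw [hy hyw, hyw, Finset.sum_eq_single ww (fun e _ he => by rw [hfix.2 e he, zero_mul, smul_zero]) (by simp), h,
            smul_smul, if_pos rfl]
          simp [d, d', how.symm, ha0]
        rw [sum_split hk, hfix.1 x hxo, zero_mul, smul_zero, zero_add, hfix'.2 y hyw, mul_zero, smul_zero, zero_add,
          Finset.sum_congr rfl fun e he => by rw [(dmid e he).1, one_smul]]
        have h := hone x y
        rw [sum_split hk, hfix.1 x hxo, zero_mul, zero_add, hfix'.2 y hyw, mul_zero, zero_add] at h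
        rw [h]
        by_cases hxy : x = y
        · subst hxy
          rw [if_pos rfl, (dmid x ((mem_mids hk).mpr ⟨hxo, hyw⟩)).2, one_smul, sub_self]
        · rw [if_neg hxy, smul_zero, sub_self]
      have key : ∀ e ∈ mids hk, ∃ β : F,
          ∑ i ∈ mids hk, ((1 - a) * al i e) • (zblk g.val oo i * A') = β • 1 := by
        intro e he
        obtain ⟨he0, he1⟩ := (mem_mids hk).mp he
        obtain ⟨β, hβ⟩ := scalar_of_center hZ fun l => Upper.center hH hM hin heN hUp he l
        refine ⟨β, ?_⟩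
        have h := hone oo e
        rw [sum_split hk, hfix'.2 e he1, mul_zero, add_zero, if_neg (Ne.symm he0)] at h
        rw [← hβ, hblk, sum_split hk, hfix'.2 e he1, mul_zero, smul_zero, add_zero, if_neg (Ne.symm he0), sub_zero,
          (dmid e he).2, one_smul, show d oo = a by simp [d], eq_neg_of_add_eq_zero_left h, smul_neg, Finset.smul_sum,
          ← Finset.sum_neg_distrib, ← Finset.sum_add_distrib]
        refine Finset.sum_congr rfl fun i hi => ?_
        rw [(dmid i hi).1, hal i hi e he, mul_smul_comm]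
        module
      intro c hc
      choose β hβ using key
      refine ⟨((1 - a) * ρ)⁻¹ * ∑ e ∈ (mids hk).attach, s.σ (al c e.1) * β e.1 e.2, ?_⟩
      have e : ((1 - a) * ρ) • (zblk g.val oo c * A') =
          (∑ e ∈ (mids hk).attach, s.σ (al c e.1) * β e.1 e.2) • (1 : Matrix (Fin t → Fin k) (Fin t → Fin k) F) := by
        rw [Finset.sum_smul, Finset.sum_congr rfl fun e _ => by rw [mul_smul, ← hβ e.1 e.2, Finset.smul_sum],
          Finset.sum_attach (mids hk) fun e => ∑ i ∈ mids hk, s.σ (al c e) • ((1 - a) * al i e) • (zblk g.val oo i * A'),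
          Finset.sum_comm]
        simp only [smul_smul, ← Finset.sum_smul]
        rw [Finset.sum_eq_single c]
        · congr 1
          rw [← horth c hc c hc |>.trans (if_pos rfl), Finset.mul_sum]
          exact Finset.sum_congr rfl fun e _ => by ring
        · intro i hi hic
          rw [Finset.sum_congr rfl fun e _ => show s.σ (al c e) * ((1 - a) * al i e) = (1 - a) * (al i e * s.σ (al c e)) by ring,
            ← Finset.mul_sum, horth i hi c hc, if_neg hic, mul_zero, zero_smul]
        · exact fun h => absurd hc h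
      have hne : (1 - a) * ρ ≠ 0 := mul_ne_zero (sub_ne_zero.mpr (Ne.symm ha1)) hρ0
      rw [mul_smul, ← e, smul_smul, inv_mul_cancel₀ hne, one_smul]
  choose γr hγr using hrow
  -- the column orthogonality
  have hgg : ∀ x y, ∑ e, zblk (g⁻¹).val x e * zblk g.val e y = if x = y then 1 else 0 := fun x y => by
    rw [← zblk_mul, Units.inv_mul, zblk_one]
  have hgg' : ∀ x y, ∑ e, zblk g.val x e * zblk (g⁻¹).val e y = if x = y then 1 else 0 := fun x y => by
    rw [← zblk_mul, Units.mul_inv, zblk_one]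
  haveI : Nonempty (Fin k) := ⟨c2⟩
  have one_ne : (1 : Matrix (Fin t → Fin k) (Fin t → Fin k) F) ≠ 0 := one_ne_zero
  have hcolo : ∀ d ∈ mids hk, ∀ e ∈ mids hk, ∑ c ∈ mids hk, s.σ (al c d) * al c e = if d = e then ρ else 0 := by
    intro d hd e he
    have h := hgg' d e
    rw [sum_split hk, hfix.1 d ((mem_mids hk).mp hd).1, zero_mul, zero_add, hfix'.2 e ((mem_mids hk).mp he).2,
      mul_zero, zero_add, Finset.sum_congr rfl fun i hi => show zblk g.val d i * zblk (g⁻¹).val i e =
        (s.σ (al i d) * al i e * ρ⁻¹) • (1 : Matrix (Fin t → Fin k) (Fin t → Fin k) F) by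
          rw [hgmid d hd i hi, hal i hi e he, hadjA', smul_smul, smul_mul_smul_comm, hAA']
          congr 1; ring,
      ← Finset.sum_smul, ← Finset.sum_mul] at h
    split_ifs at h ⊢ with hde
    · exact (mul_inv_eq_one₀ hρ0).mp (smul_left_injective F one_ne (h.trans (one_smul F _).symm))
    · exact ((mul_eq_zero.mp ((smul_eq_zero.mp h).resolve_right one_ne))).resolve_right (inv_ne_zero hρ0)
  have hwwA : zblk g.val ww ww = ρ⁻¹ • A := by rw [hblk', hJw, ← hA', hadjA']
  have hcol : ∀ d ∈ mids hk, ∃ β : F, zblk g.val d ww = β • A := by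
    intro d hd
    let γ' : Fin k → F := fun c => if h : c ∈ mids hk then γr c h else 0
    have key : ∀ c ∈ mids hk, ∑ e ∈ mids hk, al c e • (A' * zblk g.val e ww) =
        -(s.σ (γ' c)) • (1 : Matrix (Fin t → Fin k) (Fin t → Fin k) F) := by
      intro c hc
      rw [show γ' c = γr c hc from dif_pos hc]
      have h := hgg c ww
      rw [sum_split hk, hfix'.1 c ((mem_mids hk).mp hc).1, zero_mul, zero_add, if_neg ((mem_mids hk).mp hc).2,
        hwwA, hadj, zblk_adj, hJw, J_mid hk hc, hγr c hc, adj_smul, hadjA, smul_mul_smul_comm, smul_mul_assoc, hA'A,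
        smul_smul, Finset.sum_congr rfl fun e he => by rw [← hadj, hal c hc e he, smul_mul_assoc]] at h
      rw [eq_neg_of_add_eq_zero_right h, neg_smul, show s.σ (γr c hc) * ρ⁻¹ * ρ = s.σ (γr c hc) by field_simp]
    refine ⟨ρ⁻¹ * ∑ c ∈ mids hk, s.σ (al c d) * -(s.σ (γ' c)), ?_⟩
    have e : ρ • (A' * zblk g.val d ww) =
        (∑ c ∈ mids hk, s.σ (al c d) * -(s.σ (γ' c))) • (1 : Matrix (Fin t → Fin k) (Fin t → Fin k) F) := by
      rw [show (∑ c ∈ mids hk, s.σ (al c d) * -(s.σ (γ' c))) • (1 : Matrix (Fin t → Fin k) (Fin t → Fin k) F) =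
          ∑ c ∈ mids hk, (s.σ (al c d) * -(s.σ (γ' c))) • (1 : Matrix (Fin t → Fin k) (Fin t → Fin k) F) from Finset.sum_smul,
        Finset.sum_congr rfl fun c hc => show (s.σ (al c d) * -(s.σ (γ' c))) • (1 : Matrix (Fin t → Fin k) (Fin t → Fin k) F) =
          ∑ e ∈ mids hk, s.σ (al c d) • al c e • (A' * zblk g.val e ww) by rw [mul_smul, ← key c hc, Finset.smul_sum],
        Finset.sum_comm]
      simp only [smul_smul, ← Finset.sum_smul]
      rw [Finset.sum_eq_single d]
      · rw [hcolo d hd d hd, if_pos rfl]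
      · intro i hi hid; rw [hcolo d hd i hi, if_neg (Ne.symm hid), zero_smul]
      · exact fun h => absurd hd h
    have h2 := congrArg (fun Y => ρ⁻¹ • (A * Y)) e
    simp only [mul_smul_comm, mul_one, smul_smul, inv_mul_cancel₀ hρ0, one_smul, ← mul_assoc, hAA', one_mul] at h2
    exact h2
  have hall : ∀ a b, ¬ (a = oo ∧ b = ww) → ∃ β : F, zblk g.val a b = β • A := by
    intro a b hab
    by_cases ha : a = oo
    · subst ha
      by_cases hb : b = oo
      · exact ⟨1, by rw [hb, one_smul]⟩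
      · have hb' : b ∈ mids hk := (mem_mids hk).mpr ⟨hb, fun h => hab ⟨rfl, h⟩⟩
        exact ⟨_, hγr b hb'⟩
    by_cases hb : b = oo
    · exact ⟨0, by rw [hb, hfix.1 a ha, zero_smul]⟩
    by_cases ha' : a = ww
    · subst ha'
      by_cases hb' : b = ww
      · exact ⟨ρ⁻¹, by rw [hb', hwwA]⟩
      · exact ⟨0, by rw [hfix.2 b hb', zero_smul]⟩
    have ham : a ∈ mids hk := (mem_mids hk).mpr ⟨ha, ha'⟩
    by_cases hb' : b = ww
    · rw [hb']; exact hcol a ham
    · exact ⟨_, by rw [hgmid a ham b ((mem_mids hk).mpr ⟨hb, hb'⟩), hadjA', smul_smul]⟩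
  choose Lc hLc using hall
  obtain ⟨s₀, hs₀⟩ := s.exists_norm hρs
  have hs₀0 : s₀ ≠ 0 := fun h => hρ0 (by rw [← hs₀, h, mul_zero])
  let g₀ : GL (Fin t → Fin k) F :=
    ⟨s₀⁻¹ • A, s₀ • A', by rw [smul_mul_smul_comm, inv_mul_cancel₀ hs₀0, hAA', one_smul],
      by rw [smul_mul_smul_comm, mul_inv_cancel₀ hs₀0, hA'A, one_smul]⟩
  have hg₀v : g₀.val = s₀⁻¹ • A := rfl
  have hg₀U : g₀ ∈ U s (powI Jk t) := by
    rw [mem_U_iff, hg₀v, adj_smul, hadjA, smul_smul, smul_mul_smul_comm, hA'A, map_inv₀, ← hs₀]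
    have := (map_ne_zero s.σ).mpr hs₀0
    rw [show (s.σ s₀)⁻¹ * (s.σ s₀ * s₀) * s₀⁻¹ = 1 by field_simp, one_smul]
  let L1 : Matrix (Fin k) (Fin k) F := Matrix.of fun a b => if h : a = oo ∧ b = ww then 0 else s₀ * Lc a b h
  set X := zblk g.val oo ww with hX
  have hgdec : g.val = kz L1 g₀.val + kz eE X := by
    refine zblk_ext fun a b => ?_
    rw [zblk_add, zblk_kz, zblk_kz, eE_eq, Matrix.single_apply, hg₀v, smul_smul]
    by_cases h : a = oo ∧ b = ww
    · obtain ⟨rfl, rfl⟩ := h
      simp [L1, ← hX]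
    · rw [if_neg (fun h' => h ⟨h'.1.symm, h'.2.symm⟩), zero_smul, add_zero, show L1 a b = s₀ * Lc a b h from dif_neg h,
        mul_comm s₀, mul_assoc, mul_inv_cancel₀ hs₀0, mul_one, hLc a b h]
  have hL1o : ∀ a, a ≠ oo → L1 a oo = 0 := fun a ha => by
    have h : ¬ (a = oo ∧ oo = ww) := fun h => ha h.1
    have h1 := hLc a oo h
    rw [hfix.1 a ha, eq_comm, smul_eq_zero] at h1
    simp [L1, ha, h1.resolve_right hA0]
  have hL1w : ∀ b, b ≠ ww → L1 ww b = 0 := fun b hb => by
    have h : ¬ (ww = oo ∧ b = ww) := fun h => hb h.2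
    have h1 := hLc ww b h
    rw [hfix.2 b hb, eq_comm, smul_eq_zero] at h1
    simp [L1, hb, h1.resolve_right hA0]
  set l := L1 ww ww with hl
  have hl0 : l ≠ 0 := by
    have h : ¬ (ww = oo ∧ ww = ww) := fun h => how h.1.symm
    have h1 := (hLc ww ww h).symm.trans hwwA
    rw [hl, show L1 ww ww = s₀ * Lc ww ww h by simp [L1, how.symm],
      smul_left_injective F hA0 h1]
    exact mul_ne_zero hs₀0 (inv_ne_zero hρ0)
  have hEL : eE * L1 = l • eE := by
    ext a b
    rw [eE_eq, Matrix.smul_apply, Matrix.single_apply, Matrix.mul_apply, Finset.sum_eq_single ww]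
    · rw [Matrix.single_apply]
      by_cases ha : oo = a
      · by_cases hb : ww = b
        · subst ha hb; simp [hl]
        · simp [ha, hb, hL1w b (Ne.symm hb)]
      · simp [ha]
    · intro c _ hc; rw [Matrix.single_apply, if_neg (fun h => hc h.2.symm), zero_mul]
    · simp
  have hadjE : WreathU.adj s Jk eE = eE := adj_rk _ _ _ _
  have hLE : WreathU.adj s Jk L1 * eE = s.σ l • eE := by
    have h := congrArg (WreathU.adj s Jk) hEL
    rwa [adj_mul, adj_smul, hadjE] at h
  set D := WreathU.adj s Jk L1 * L1 - 1 with hD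
  have hD0 : ∀ a b, ¬ (a = oo ∧ b = ww) → D a b = 0 := by
    intro a b hab
    have h1 := (mem_U_iff s _).mp hgU
    rw [hgdec, adj_add, adj_kz, adj_kz, hadjE] at h1
    simp only [add_mul, mul_add, kz_mul, eE_sq, kz_zero_left, add_zero, hLE, hEL, (mem_U_iff s _).mp hg₀U] at h1
    have h2 := congrArg (fun Y => zblk Y a b) h1
    simp only [zblk_add, zblk_kz, zblk_one, Matrix.smul_apply, eE_eq, Matrix.single_apply] at h2
    rw [if_neg (fun h' => hab ⟨h'.1.symm, h'.2.symm⟩), smul_zero, smul_zero, zero_smul, zero_smul, add_zero, add_zero] at h2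
    rw [hD, Matrix.sub_apply, Matrix.one_apply]
    refine smul_left_injective F one_ne ?_
    show (_ - _) • (1 : Matrix (Fin t → Fin k) (Fin t → Fin k) F) = (0 : F) • 1
    rw [sub_smul, h2, zero_smul, ite_smul, one_smul, zero_smul, sub_self]
  set e₀ := D oo ww with he₀
  have hDe : D = e₀ • eE := by
    ext a b
    rw [eE_eq, Matrix.smul_apply, Matrix.single_apply]
    by_cases h : a = oo ∧ b = ww
    · obtain ⟨rfl, rfl⟩ := h; simp [he₀]
    · rw [hD0 a b h, if_neg (fun h' => h ⟨h'.1.symm, h'.2.symm⟩), smul_zero]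
  have he₀s : s.σ e₀ = e₀ := by
    have h : WreathU.adj s Jk D = D := by rw [hD, adj_sub, adj_mul, adj_adj, adj_one]
    have h1 := congrFun (congrFun h oo) ww
    simpa [WreathU.adj, hJo, hJw, ← he₀] using h1
  obtain ⟨cc, hcc⟩ := s.exists_trace (r := -e₀) (by rw [map_neg, he₀s])
  set δ := cc / s.σ l with hδ
  set L0 := L1 + δ • eE with hL0
  have hL0u : WreathU.adj s Jk L0 * L0 = 1 := by
    have hsl : s.σ l ≠ 0 := (map_ne_zero s.σ).mpr hl0
    rw [hL0, adj_add, adj_smul, hadjE]
    simp only [add_mul, mul_add, smul_mul_assoc, mul_smul_comm, eE_sq, hLE, hEL, smul_smul, mul_zero, smul_zero, add_zero]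
    rw [show WreathU.adj s Jk L1 * L1 = 1 + e₀ • eE by rw [← hDe, hD, add_sub_cancel], add_assoc, add_assoc, ← add_smul,
      ← add_smul]
    rw [show e₀ + (s.σ δ * l + δ * s.σ l) = 0 by
      rw [hδ, map_div₀, s.inv, div_mul_cancel₀ _ hl0, div_mul_cancel₀ _ hsl]; linear_combination hcc]
    rw [zero_smul, add_zero]
  let Lu : GL (Fin k) F := ⟨L0, WreathU.adj s Jk L0, mul_eq_one_comm.mp hL0u, hL0u⟩
  have hLuv : (Lu : Matrix (Fin k) (Fin k) F) = L0 := rfl
  have hLuU : Lu ∈ U s Jk := (mem_U_iff s Jk).mpr hL0u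
  have hEL0 : eE * L0 = l • eE := by rw [hL0, mul_add, mul_smul_comm, eE_sq, smul_zero, add_zero, hEL]
  set Xc := l⁻¹ • ((X - δ • g₀.val) * (g₀⁻¹).val) with hXc
  have hgc : g.val = (1 + kz eE Xc) * kz L0 g₀.val := by
    have hXg : Xc * g₀.val = l⁻¹ • (X - δ • g₀.val) := by
      rw [hXc, smul_mul_assoc, mul_assoc, Units.inv_mul, mul_one]
    rw [add_mul, one_mul, kz_mul, hEL0, hXg, kz_smul_left, ← kz_smul_right, smul_smul, mul_inv_cancel₀ hl0, one_smul,
      hL0, kz_add_left, kz_smul_left, ← kz_smul_right, hgdec, add_assoc, ← kz_add_right, add_sub_cancel]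
  clear_value Xc
  set c := g * (kzU Lu g₀)⁻¹ with hc
  have hcv : c.val = 1 + kz eE Xc := by
    rw [hc, Units.val_mul, hgc, mul_assoc, show kz L0 g₀.val = (kzU Lu g₀).val from rfl, Units.mul_inv, mul_one]
  have hcinv : (c⁻¹).val = 1 - kz eE Xc := by
    refine left_inv_eq_right_inv (Units.inv_mul c) ?_
    rw [hcv, add_mul, one_mul, mul_sub, mul_one, kz_mul, eE_sq, kz_zero_left]
    abel
  have hgcc : g = c * kzU Lu g₀ := by rw [hc, inv_mul_cancel_right]
  have hcH : ∀ T' : GL (Fin k) F, T' ∈ HermStab.su (hf s Jk) →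
      c * kzU T' (1 : GL (Fin t → Fin k) F) * c⁻¹ ∈ H := by
    intro T' hT'
    have hT : Lu⁻¹ * T' * Lu ∈ HermStab.su (hf s Jk) := by
      refine ⟨(U s Jk).mul_mem ((U s Jk).mul_mem ((U s Jk).inv_mem hLuU) hT'.1) hLuU, MonoidHom.mem_ker.mpr ?_⟩
      rw [map_mul, map_mul, MonoidHom.mem_ker.mp hT'.2, mul_one, ← map_mul, inv_mul_cancel, map_one]
    have h := hconj _ (kzU_mem (Lu⁻¹ * T' * Lu) (one_mem _)) (kzU_su hT (one_mem _))
    have e : kzU Lu g₀ * kzU (Lu⁻¹ * T' * Lu) (1 : GL (Fin t → Fin k) F) = kzU T' 1 * kzU Lu g₀ := by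
      rw [kzU_mul, kzU_mul, mul_one, one_mul, ← mul_assoc, ← mul_assoc, mul_inv_cancel, one_mul]
    have e2 : g * kzU (Lu⁻¹ * T' * Lu) (1 : GL (Fin t → Fin k) F) * g⁻¹ = c * kzU T' 1 * c⁻¹ := by
      rw [mul_inv_eq_iff_eq_mul, hgcc, mul_assoc c, e]
      group
    rwa [e2] at h
  have hcom : ∀ T' : GL (Fin k) F, T' ∈ HermStab.su (hf s Jk) →
      ∃ h ∈ H, h.val = (1 + kz eE Xc) *
        (1 - kz (rk s Jk ((T' : Matrix (Fin k) (Fin k) F) *ᵥ WreathU.eo hk) ((T' : Matrix (Fin k) (Fin k) F) *ᵥ WreathU.eo hk)) Xc) := by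
    intro T' hT'
    refine ⟨c * kzU T' (1 : GL (Fin t → Fin k) F) * c⁻¹ * (kzU T' 1)⁻¹,
      mul_mem (hcH T' hT') (inv_mem (kzU_mem_H hM hT' (one_mem _) (one_mem _))), ?_⟩
    rw [mul_assoc c, mul_assoc c, Units.val_mul c, hcv, Units.val_mul, Units.val_mul, hcinv]
    congr 1
    rw [mul_sub, mul_one, sub_mul, Units.mul_inv]
    congr 1
    show kz _ _ * kz eE Xc * kz _ _ = _
    rw [kz_mul, kz_mul, Units.val_one, one_mul, conj_rk s Jk hT'.1]
    congr 1
    show Xc * ((1 : GL (Fin t → Fin k) F)⁻¹).val = Xc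
    rw [inv_one, Units.val_one, mul_one]
  have hLo : L0 *ᵥ WreathU.eo hk = L0 oo oo • WreathU.eo hk := by
    funext a
    rw [WreathU.eo, Matrix.mulVec_single_one]
    by_cases ha : a = oo
    · subst ha; simp
    · simp [ha, hL0, hL1o a ha, eE_eq, Matrix.single_apply, how.symm]
  obtain ⟨ξ, hξ⟩ : ∃ ξ : F, Xc = ξ • 1 := by
    by_cases h4 : Nat.card F = 4
    · have hk4 : 4 ≤ k := by
        rcases Nat.lt_or_ge k 4 with h | h
        · exact absurd ⟨h4, by omega⟩ hex
        · exact h
      let c3 : Fin k := ⟨3, by omega⟩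
      have hc3 : c3 ∈ mids hk := (mem_mids hk).mpr ⟨by simp [c3, i0, Fin.ext_iff], by simp [c3, i1, Fin.ext_iff]⟩
      have h23 : c2 ≠ c3 := by simp [c2, c3, Fin.ext_iff]
      obtain ⟨a, ha⟩ := s.exists_norm (r := -1) (by rw [map_neg, map_one])
      obtain ⟨hym, hyy⟩ := exists_iso_mid hc2 hc3 h23 ha
      set y := (Pi.single c2 1 : Fin k → F) + a • Pi.single c3 1
      have hu := isUnitary s (sw hk)
      have hwy : f (WreathU.ew hk) y = 0 := hym.ew'
      have hT' := HermStab.qe_mem_su hu (u := y) (z := WreathU.ew hk) hyy hwy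
        (b := 0) (by rw [map_zero, add_zero, ew_iso, neg_zero])
      set T' := HermStab.qe (hf s Jk) y (WreathU.ew hk) 0
      set x := (T' : Matrix (Fin k) (Fin k) F) *ᵥ WreathU.eo hk with hx
      have hxe : x = WreathU.eo hk - y := by
        rw [hx, HermStab.qe_mulVec hu hyy hwy, hym.eo', eo_ew]
        simp
      obtain ⟨h, hh, hhv⟩ := hcom T' hT'
      rw [← hx] at hhv
      set K := eE - rk s Jk x x with hK
      have fxx : f x x = 0 := (mem_isom.mp hT'.1 _ _).trans (eo_iso s hk)
      have fxo : f x (WreathU.eo hk) = 0 := by rw [hxe, hsub_left hu, eo_iso, hym.eo, sub_zero]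
      have fox : f (WreathU.eo hk) x = 0 := hswap_zero hu fxo
      have hE2 : eE * rk s Jk x x = 0 := by rw [rk_mul, fxo, zero_smul]
      have hE3 : rk s Jk x x * eE = 0 := by rw [rk_mul, fox, zero_smul]
      have hv : h.val = 1 + kz K Xc := by
        rw [hhv, mul_sub, mul_one, add_mul, one_mul, kz_mul, hE2, kz_zero_left, add_zero, hK, sub_eq_add_neg eE,
          kz_add_left, ← neg_one_smul F (rk s Jk x x), kz_smul_left, neg_one_smul, sub_eq_add_neg, add_assoc]
      have hK2 : K * K = 0 := by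
        rw [hK, mul_sub, sub_mul, sub_mul, eE_sq, hE2, hE3, rk_mul, fxx, zero_smul]; simp
      have hKE : K * eE = 0 := by rw [hK, sub_mul, eE_sq, hE3, sub_zero]
      have hEK : eE * K = 0 := by rw [hK, mul_sub, eE_sq, hE2, sub_zero]
      have hfix2 : Fixes hk h.val := fixes_of_comm (r := 1) (fun Y hY => by
          rw [← one_mul Y, ← Units.inv_mul h, mul_assoc, hY, mul_zero]) (by
        rw [one_smul, hv, add_mul, mul_add, one_mul, mul_one, kz_mul, kz_mul, hKE, hEK, kz_zero_left, kz_zero_left])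
      obtain ⟨-, -, -, hm⟩ := mid_scalar hH hM hZ (hH hh).1 hfix2
        (fun w hw hws => mul_mem (mul_mem hh (hM w hw hws)) (inv_mem hh))
      obtain ⟨β, hβ⟩ := hm c2 hc2 c2 hc2
      have hinv : (h⁻¹).val = 1 - kz K Xc := by
        refine left_inv_eq_right_inv (Units.inv_mul h) ?_
        rw [hv, add_mul, one_mul, mul_sub, mul_one, kz_mul, hK2, kz_zero_left]
        abel
      have hxo : x oo = 1 ∧ x ww = 0 ∧ x c2 = -1 := by
        refine ⟨?_, ?_, ?_⟩
        · rw [hxe, Pi.sub_apply, hym.1]; simp [WreathU.eo]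
        · rw [hxe, Pi.sub_apply, hym.2]; simp [WreathU.eo, how.symm]
        · rw [hxe]; simp [y, WreathU.eo, ((mem_mids hk).mp hc2).1, h23]
      have hKoo : K oo oo = 0 := by
        rw [hK, Matrix.sub_apply, eE_eq, Matrix.single_apply, if_neg (fun h => how h.2.symm), rk, vecMulVec_apply, cv,
          hJo, hxo.2.1, map_zero, mul_zero, sub_zero]
      have hKcc : K c2 c2 = -1 := by
        rw [hK, Matrix.sub_apply, eE_eq, Matrix.single_apply, if_neg (fun h => ((mem_mids hk).mp hc2).1 h.1.symm), rk,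
          vecMulVec_apply, cv, J_mid hk hc2, hxo.2.2]
        simp
      rw [hinv, zblk_sub, zblk_sub, zblk_one, zblk_one, zblk_kz, zblk_kz, if_pos rfl, if_pos rfl, hKoo, hKcc,
        zero_smul, sub_zero, neg_one_smul, sub_neg_eq_add] at hβ
      exact ⟨β - 1, by rw [sub_smul, one_smul, ← hβ, add_sub_cancel_left]⟩
    · obtain ⟨a, ha0, has, ha1⟩ : ∃ a : F, a ≠ 0 ∧ s.σ a = a ∧ a ≠ 1 := by
        by_contra hc
        push Not at hc
        exact h4 (card_eq_four s hc)
      obtain ⟨b, hb⟩ := s.exists_norm has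
      have hb0 : b ≠ 0 := fun h0 => ha0 (by rw [← hb, h0, mul_zero])
      obtain ⟨T, hT, hTo⟩ := exists_torus_eo (hk := hk) (s := s) hb0
      have hT' : Lu * T * Lu⁻¹ ∈ HermStab.su (hf s Jk) := by
        refine ⟨(U s Jk).mul_mem ((U s Jk).mul_mem hLuU hT.1) ((U s Jk).inv_mem hLuU), MonoidHom.mem_ker.mpr ?_⟩
        rw [map_mul, map_mul, MonoidHom.mem_ker.mp hT.2, mul_one, ← map_mul, mul_inv_cancel, map_one]
      obtain ⟨h, hh, hhv⟩ := hcom _ hT'
      have hLne : L0 oo oo ≠ 0 := by
        intro h0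
        rw [h0, zero_smul] at hLo
        have h1 := inv_mulVec_mulVec Lu (WreathU.eo hk)
        rw [hLuv, hLo, mulVec_zero] at h1
        exact eo_ne_zero hk h1.symm
      have hLinv : ((Lu⁻¹ : GL (Fin k) F) : Matrix (Fin k) (Fin k) F) *ᵥ WreathU.eo hk =
          (L0 oo oo)⁻¹ • WreathU.eo hk := by
        have h1 := inv_mulVec_mulVec Lu (WreathU.eo hk)
        rw [hLuv, hLo, mulVec_smul] at h1
        conv_rhs => rw [← h1, smul_smul, inv_mul_cancel₀ hLne, one_smul]
      have hTe' : ((Lu * T * Lu⁻¹ : GL (Fin k) F) : Matrix (Fin k) (Fin k) F) *ᵥ WreathU.eo hk = b • WreathU.eo hk := by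
        rw [Units.val_mul, Units.val_mul, ← mulVec_mulVec, ← mulVec_mulVec, hLinv, mulVec_smul, hTo, mulVec_smul,
          mulVec_smul, hLuv, hLo, smul_smul, smul_smul]
        congr 1
        field_simp
      rw [hTe', rk_smul_left, rk_smul_right, smul_smul, mul_comm b, hb, add_mul, one_mul, mul_sub, mul_one, kz_mul,
        mul_smul_comm, eE_sq, smul_zero, kz_zero_left, sub_zero] at hhv
      obtain ⟨q, hq⟩ := hZ ((1 - a) • Xc) ⟨h, hh, by
        rw [hhv, kz_smul_right, kz_smul_left, sub_smul, one_smul]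
        abel⟩
      exact ⟨(1 - a)⁻¹ * q, by rw [mul_smul, ← hq, smul_smul, inv_mul_cancel₀ (sub_ne_zero.mpr (Ne.symm ha1)), one_smul]⟩
  -- the element on the other slots
  let Cu : GL (Fin k) F :=
    ⟨1 + ξ • eE, 1 - ξ • eE,
      by simp only [mul_sub, add_mul, mul_one, one_mul, smul_mul_smul_comm, eE_sq, smul_zero]; abel,
      by simp only [mul_add, sub_mul, mul_one, one_mul, smul_mul_smul_comm, eE_sq, smul_zero]; abel⟩
  have hgk : g = kzU (Cu * Lu) g₀ := by
    rw [← one_mul g₀, ← kzU_mul, hgcc]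
    congr 1
    refine Units.ext ?_
    rw [hcv, hξ, kzU_coe, Units.val_one, show (Cu : Matrix (Fin k) (Fin k) F) = 1 + ξ • eE from rfl, kz_add_left,
      kz_one, kz_smul_left, kz_smul_right]
  refine ⟨g₀, hg₀U, fun hW => hgW ?_, fun v hv hvs => ?_⟩
  · rw [hgk]; exact kzU_mem _ hW
  · have h := hconj _ (kzU_mem (1 : GL (Fin k) F) hv) (kzU_su (one_mem _) hvs)
    have e : g * kzU (1 : GL (Fin k) F) v * g⁻¹ = kzU 1 (g₀ * v * g₀⁻¹) := by
      rw [mul_inv_eq_iff_eq_mul, hgk, kzU_mul, kzU_mul, one_mul, mul_one, inv_mul_cancel_right]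
    rwa [e] at h

end Cfsg.Agent.WreathU
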