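import Cfsg.Agent.WreathU.CenterAll
import Cfsg.Agent.WreathU.Fusion
import Cfsg.Agent.WreathU.LineStab
import Cfsg.Agent.WreathU.Gen
import Cfsg.Agent.WreathMax.Stab
import Cfsg.Agent.WreathMax.Fusion

/-!
Overgroups of the unitary tensor wreath stabiliser contain every centre (helper56).
-/

set_option autoImplicit false
set_option linter.unusedSectionVars false

namespace Cfsg.Agent.WreathU

open Matrix Cfsg.Agent.MaxSub Cfsg.Agent.MaxSub.Asch Cfsg.Agent.FG75.SpinTensor Cfsg.Agent.WreathMax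

variable {F : Type*} [Field F] [Fintype F] {k t : ℕ} (s : Conj F) (hk : 3 ≤ k)

local notation "Jk" => sw hk
local notation "eE" => rk s (sw hk) (WreathU.eo hk) (WreathU.eo hk)

/-- Isometries normalise the special unitary group. -/
theorem su_conj {p h : GL (Fin t → Fin k) F} (hp : p ∈ U s (powI Jk t)) (hh : h ∈ SUp s Jk t) :
    p * h * p⁻¹ ∈ SUp s Jk t :=
  ⟨(U s (powI Jk t)).mul_mem ((U s (powI Jk t)).mul_mem hp hh.1) ((U s (powI Jk t)).inv_mem hp), by
    refine MonoidHom.mem_ker.mpr ?_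
    rw [det_eq_one_iff]
    exact MonoidHom.mem_ker.mp hh.2⟩

theorem ut_conj {p : GL (Fin t → Fin k) F} (hp : p ∈ U s (powI Jk t)) {u : (Fin t → Fin k) → F}
    (hu : hf s (powI Jk t) u u = 0) (c : F) :
    p * ut (hf s (powI Jk t)) u c * p⁻¹ =
      ut (hf s (powI Jk t)) ((p : Matrix (Fin t → Fin k) (Fin t → Fin k) F) *ᵥ u) c := by
  have hu' := (mem_isom.mp hp u u).trans hu
  refine Units.ext ?_
  rw [Units.val_mul, Units.val_mul, ut_coe s _ hu, ut_coe s _ hu', conj_one_add, mul_smul_comm,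
    smul_mul_assoc, conj_rk s _ hp]

/-- A slot isometry followed by the exchange with the first slot carries the first line to a given one. -/
theorem exists_frame (i : Fin (t + 1)) {x : Fin k → F} (hx : hf s Jk x x = 0) (hx0 : x ≠ 0) :
    ∃ p : GL (Fin (t + 1) → Fin k) F, p ∈ Geo.tensorWreathStandard k (t + 1) F ∧ p ∈ U s (powI Jk (t + 1)) ∧
      ∃ a : F, a ≠ 0 ∧ p.val * kz eE 1 = a • (slot i (rk s Jk x x) * p.val) := by
  classical
  obtain ⟨g, hg, r, hr, hgx⟩ := exists_map_eo s hk hx hx0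
  set gs := Function.update (1 : Fin (t + 1) → GL (Fin k) F) i g with hgs
  refine ⟨tensGL gs * factorPerm (Equiv.swap 0 i), mul_mem (tensGL_mem _) (factorPerm_mem _),
    mul_mem (tensGL_mem_U s Jk fun l => ?_) (factorPerm_mem_U s Jk _), (r * s.σ r)⁻¹,
    inv_ne_zero (mul_ne_zero hr ((map_ne_zero s.σ).mpr hr)), ?_⟩
  · by_cases hl : l = i
    · rw [hgs, hl, Function.update_self]; exact hg.1
    · rw [hgs, Function.update_of_ne hl]; exact one_mem _
  rw [← slot_zero_eq_kz, wreath_slot, Equiv.swap_apply_left, hgs, Function.update_self, conj_rk s Jk hg.1,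
    ← smul_mul_assoc, ← slot_smul']
  congr 2
  rw [← hgx, mulVec_smul, rk_smul_left, rk_smul_right, smul_smul, smul_smul,
    mul_assoc, inv_mul_cancel₀ (mul_ne_zero hr ((map_ne_zero s.σ).mpr hr)), one_smul]

/-- An element outside the stabiliser carries some slot root out of it. -/
theorem exists_sRoot_out (hex : ¬ (Nat.card F = 4 ∧ k = 3)) (ht : 1 ≤ t) {K : Subgroup (GL (Fin t → Fin k) F)}
    {g : GL (Fin t → Fin k) F} (hgW : g ∉ Geo.tensorWreathStandard k t F)
    (hconj : ∀ v ∈ Geo.tensorWreathStandard k t F, v ∈ SUp s Jk t → g * v * g⁻¹ ∈ K) :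
    ¬ K ≤ Geo.tensorWreathStandard k t F := by
  classical
  intro hle
  refine hgW (mem_wreath_of_span hk ht g fun l a b hab => ?_)
  let S : Submodule F (Matrix (Fin k) (Fin k) F) :=
    { carrier := {A | ∃ B : Fin t → Matrix (Fin k) (Fin k) F, conjHom g (slot l A) = ∑ j, slot j (B j)}
      zero_mem' := ⟨0, by simp [slot_zero']⟩
      add_mem' := fun {A A'} ⟨B, hB⟩ ⟨B', hB'⟩ =>
        ⟨B + B', by rw [slot_add', map_add, hB, hB', ← Finset.sum_add_distrib]; simp [slot_add']⟩
      smul_mem' := fun c A ⟨B, hB⟩ => ⟨c • B, by rw [slot_smul', map_smul, hB, Finset.smul_sum]; simp [slot_smul']⟩ }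
  refine mem_of_isotropic s hk S (fun x hx => ?_) _ (Matrix.trace_single_eq_of_ne _ _ _ hab)
  by_cases hx0 : x = 0
  · subst hx0
    simp [rk]
  by_contra hxS
  -- every non-trivial element of the root group becomes an exchange of two slots
  have hswap : ∀ c : F, c + s.σ c = 0 → c ≠ 0 → (2 : F) = 0 ∧ k = 3 ∧ ∃ gs p q, p ≠ q ∧
      g * sRoot s Jk l x c * g⁻¹ = tensGL gs * factorPerm (Equiv.swap p q) := by
    intro c hc hc0
    have hW := hle (hconj _ (sRoot_mem_wreath s Jk l x c) (sRoot_mem_su s Jk l hx hc))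
    obtain ⟨h2, hr⟩ := sq_zero_conj (g := g⁻¹) (isSlotRoot_sRoot s Jk l hx0 hx hc0)
    rw [inv_inv] at h2 hr
    rcases root_class hk ht hW h2 hr.le with h | h | h
    · exfalso
      rw [h, Units.val_one, sub_self, Matrix.rank_zero] at hr
      exact (pow_pos (show 0 < k by omega) (t - 1)).ne hr
    · exfalso
      obtain ⟨j, A, -, he⟩ := h
      refine hxS ((S.smul_mem_iff hc0).mp ⟨fun i => if i = j then A else 0, ?_⟩)
      rw [Units.val_mul, Units.val_mul, sRoot_coe s Jk l hx, conj_one_add, add_right_inj, ← slot_smul',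
        ← conjHom_apply] at he
      rw [he, Finset.sum_eq_single j]
      · simp
      · exact fun i _ hi => by simp [hi, slot_zero']
      · simp
    · exact h
  obtain ⟨c₀, hc₀, hc₀s⟩ := s.exists_skew
  obtain ⟨two, h3, -⟩ := hswap c₀ hc₀s hc₀
  obtain ⟨ν, hν, hν0, hν1⟩ := exists_fixed s two fun h4 => hex ⟨h4, h3⟩
  have hν2 : 1 + ν ≠ 0 := fun h => hν1 (by linear_combination h - two)
  obtain ⟨-, -, p1, a1, b1, hab1, e1⟩ := hswap 1 (fix_skew s two (map_one _)) one_ne_zero
  obtain ⟨-, -, p2, a2, b2, hab2, e2⟩ := hswap ν (fix_skew s two hν) hν0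
  obtain ⟨-, -, p3, a3, b3, hab3, e3⟩ := hswap (1 + ν) (fix_skew s two (by rw [map_add, map_one, hν])) hν2
  have hprod : (tensGL p1 * factorPerm (Equiv.swap a1 b1) : GL (Fin t → Fin k) F) *
      (tensGL p2 * factorPerm (Equiv.swap a2 b2)) = tensGL p3 * factorPerm (Equiv.swap a3 b3) := by
    rw [← e1, ← e2, ← e3, ← sRoot_mul s Jk l hx]
    group
  rw [wreath_mul] at hprod
  have hs := congrArg Equiv.Perm.sign (perm_unique (show 2 ≤ k by omega) hprod)
  rw [Equiv.Perm.sign_mul, Equiv.Perm.sign_swap hab1, Equiv.Perm.sign_swap hab2, Equiv.Perm.sign_swap hab3] at hs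
  exact absurd hs (by decide)

/-- A centre of a smaller power gives a centre element which is not scalar. -/
theorem exists_inC (ht : 2 ≤ t) {H : Subgroup (GL (Fin (t + 1) → Fin k) F)} (hM : ContainsU s Jk H)
    {c : F} (hc0 : c ≠ 0)
    (hmem : kzU 1 (ut (hf s (powI Jk t)) (pv fun _ => WreathU.eo hk) c) ∈ H)
    (hv : hf s (powI Jk t) (pv fun _ => WreathU.eo (F := F) hk) (pv fun _ => WreathU.eo hk) = 0) :
    ∃ Z, InC s hk H Z ∧ ∀ e : F, Z ≠ e • 1 := by
  classical
  let i₀ : Fin t := ⟨0, by omega⟩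
  let i₁ : Fin t := ⟨1, by omega⟩
  have hi : i₀ ≠ i₁ := by simp [i₀, i₁, Fin.ext_iff]
  set a : GL (Fin (t + 1) → Fin k) F := factorPerm (Equiv.swap 0 i₀.succ) with ha
  set b : GL (Fin (t + 1) → Fin k) F := factorPerm (Equiv.swap i₀.succ i₁.succ) with hb
  have haa : a * a = 1 := by rw [ha, factorPerm_mul, Equiv.swap_mul_self, factorPerm_one]
  have hbb : b * b = 1 := by rw [hb, factorPerm_mul, Equiv.swap_mul_self, factorPerm_one]
  have hx : a * b * a * b ∈ H := hM _
    (mul_mem (mul_mem (mul_mem (factorPerm_mem _) (factorPerm_mem _)) (factorPerm_mem _)) (factorPerm_mem _))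
    ⟨mul_mem (mul_mem (mul_mem (factorPerm_mem_U s Jk _) (factorPerm_mem_U s Jk _)) (factorPerm_mem_U s Jk _))
      (factorPerm_mem_U s Jk _), MonoidHom.mem_ker.mpr (det_swap_sq a b haa hbb)⟩
  set σ : Equiv.Perm (Fin (t + 1)) :=
    Equiv.swap 0 i₀.succ * Equiv.swap i₀.succ i₁.succ * Equiv.swap 0 i₀.succ * Equiv.swap i₀.succ i₁.succ with hσ
  have hσP : a * b * a * b = factorPerm σ := by rw [ha, hb, factorPerm_mul, factorPerm_mul, factorPerm_mul]
  set Y : Fin (t + 1) → Matrix (Fin k) (Fin k) F := Fin.cons 1 fun _ => eE with hY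
  have hσ0 : σ i₀.succ = 0 := by
    have hne : (i₁.succ : Fin (t + 1)) ≠ i₀.succ := fun e => hi (Fin.succ_injective _ e).symm
    simp only [hσ, Equiv.Perm.mul_apply, Equiv.swap_apply_left]
    rw [Equiv.swap_apply_of_ne_of_ne (Fin.succ_ne_zero _) hne, Equiv.swap_apply_right, Equiv.swap_apply_right]
  set Z : Fin t → Matrix (Fin k) (Fin k) F := fun j => Y (σ.symm j.succ) with hZ
  refine ⟨c • tens Z, ⟨_, mul_mem (mul_mem hx hmem) (inv_mem hx), ?_⟩, fun e he => ?_⟩
  · have h1 : (kzU (1 : GL (Fin k) F) (ut (hf s (powI Jk t)) (pv fun _ => WreathU.eo hk) c)).val =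
        1 + c • tens Y := by
      rw [kzU_coe, ut_coe s _ hv, rk_pv, kz_add_right, Units.val_one, kz_one, kz_smul_right, tens_eq_kz Y]
      simp [hY]
    have h2 : tens (fun j => Y (σ.symm j)) = kz eE (tens Z) := by
      rw [tens_eq_kz, (Equiv.symm_apply_eq σ).mpr hσ0.symm]
      rfl
    rw [Units.val_mul, Units.val_mul, h1, conj_one_add, hσP, mul_smul_comm, smul_mul_assoc, factorPerm_mul_tens,
      mul_assoc, Units.mul_inv, mul_one, h2, kz_smul_right]
  -- not a scalar
  have h01 : σ i₁.succ ≠ 0 := fun h => hi (Fin.succ_injective _ (σ.injective (hσ0.trans h.symm)))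
  obtain ⟨j, hj⟩ := Fin.exists_succ_eq.mpr h01
  have hZj : Z j = eE := by
    show Y (σ.symm j.succ) = _
    rw [hj, Equiv.symm_apply_apply, hY]; rfl
  have hsq : tens Z * tens Z = 0 := by
    rw [tens_mul]
    exact tens_eq_zero (l := j) (by rw [Pi.mul_apply, hZj, eE_sq])
  have : Nonempty (Fin k) := ⟨⟨0, by omega⟩⟩
  have hne : tens Z ≠ 0 := tens_ne_zero fun l => by
    obtain h | ⟨l', h⟩ := Fin.eq_zero_or_eq_succ (σ.symm l.succ)
    · show Y (σ.symm l.succ) ≠ 0
      rw [h, hY, Fin.cons_zero]; exact one_ne_zero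
    · show Y (σ.symm l.succ) ≠ 0
      rw [h, hY, Fin.cons_succ]; exact rk_self_ne_zero s Jk (eo_ne_zero hk)
  have h0 : (e * e) • (1 : Matrix (Fin t → Fin k) (Fin t → Fin k) F) = 0 := by
    have := congrArg (fun X => X * X) he
    simp only [smul_mul_smul_comm, hsq, smul_zero, mul_one] at this
    exact this.symm
  rcases smul_eq_zero.mp h0 with h | h
  · rw [mul_self_eq_zero.mp h, zero_smul, smul_eq_zero] at he
    exact he.elim hc0 hne
  · exact one_ne_zero h

/-- The product of a vector of isotropic factors is isotropic. -/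
theorem pv_eo_iso : hf s (powI Jk (t + 1)) (pv fun _ => WreathU.eo (F := F) hk) (pv fun _ => WreathU.eo hk) = 0 := by
  have e : (fun _ : Fin (t + 1) => WreathU.eo (F := F) hk) = Fin.cons (WreathU.eo hk) fun _ => WreathU.eo hk := by
    funext i
    refine Fin.cases ?_ (fun _ => ?_) i <;> simp
  rw [e, pv_cons, hf_cz, eo_iso, zero_mul]

/-- An overgroup of the stabiliser, not inside it, contains every centre. -/
theorem centres_of_not_le (hex : ¬ (Nat.card F = 4 ∧ k = 3)) (t : ℕ) (ht : 1 ≤ t)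
    (H : Subgroup (GL (Fin t → Fin k) F)) (hH : H ≤ SUp s Jk t) (hM : ContainsU s Jk H)
    (hne : ¬ H ≤ Geo.tensorWreathStandard k t F) :
    ∀ v, hf s (powI Jk t) v v = 0 → HermStab.Centre s.σ (hf s (powI Jk t)) H v := by
  induction t with
  | zero => omega
  | succ T ih =>
    classical
    rcases Nat.eq_zero_or_pos T with rfl | hT
    · exact absurd (fun g _ => mem_wreath_one g) hne
    -- an element fusing two slot roots
    have hfus : ¬ NoFusU s Jk H := fun hN => hne (le_wreath_of_moves s hk hex (by omega) hH hM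
      fun g hg hgW i x c hx0 hx hc0 hc => noFus_moves s hk hex (by omega) hH hM hN hg hgW hx0 hx hc0 hc)
    simp only [NoFusU, not_forall, not_not] at hfus
    obtain ⟨g, hg, hgW, i, x, c, j, y, d, hx0, hx, hc0, hc, hy0, hy, hd0, hd, hxy⟩ := hfus
    obtain ⟨p, hpW, hpU, α, hα, hp⟩ := exists_frame s hk i hx hx0
    obtain ⟨q, hqW, hqU, β, hβ, hq⟩ := exists_frame s hk j hy hy0
    set H' : Subgroup (GL (Fin (T + 1) → Fin k) F) := H.comap (MulAut.conj p).toMonoidHom with hH'def
    have hmem : ∀ h, h ∈ H' ↔ p * h * p⁻¹ ∈ H := fun h => Iff.rfl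
    have hH' : H' ≤ SUp s Jk (T + 1) := fun h hh => by
      have := su_conj s hk (inv_mem hpU) (hH ((hmem h).mp hh))
      simpa [mul_assoc] using this
    have hM' : ContainsU s Jk H' := fun w hw hw' => (hmem w).mpr
      (hM _ (mul_mem (mul_mem hpW hw) (inv_mem hpW)) (su_conj s hk hpU hw'))
    set g' := p⁻¹ * g * q with hg'
    have hg'U : g' ∈ U s (powI Jk (T + 1)) := mul_mem (mul_mem (inv_mem hpU) (hH hg).1) hqU
    have hg'W : g' ∉ Geo.tensorWreathStandard k (T + 1) F := fun h => hgW (by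
      have := mul_mem (mul_mem hpW h) (inv_mem hqW)
      simpa [hg', mul_assoc] using this)
    have hconj : ∀ w ∈ Geo.tensorWreathStandard k (T + 1) F, w ∈ SUp s Jk (T + 1) → g' * w * g'⁻¹ ∈ H' := by
      intro w hw hw'
      refine (hmem _).mpr ?_
      have := mul_mem (mul_mem hg (hM _ (mul_mem (mul_mem hqW hw) (inv_mem hqW)) (su_conj s hk hqU hw'))) (inv_mem hg)
      simpa [hg', mul_assoc] using this
    obtain ⟨r, hcomm⟩ : ∃ r : F, g'.val * kz eE 1 = r • (kz eE 1 * g'.val) := by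
      have h1 : (sRoot s Jk i x c).val * g.val = g.val * (sRoot s Jk j y d).val := by
        rw [← Units.val_mul, ← Units.val_mul, ← hxy]
        congr 1
        group
      rw [sRoot_coe s Jk i hx, sRoot_coe s Jk j hy, add_mul, mul_add, one_mul, mul_one, add_right_inj,
        smul_mul_assoc, mul_smul_comm] at h1
      refine ⟨β * (c / d) / α, ?_⟩
      have h2 : (p⁻¹).val * slot i (rk s Jk x x) = α⁻¹ • (kz eE 1 * (p⁻¹).val) := by
        have h3 := congrArg (fun X => α⁻¹ • ((p⁻¹).val * X * (p⁻¹).val)) hp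
        simp only [mul_smul_comm, smul_mul_assoc, smul_smul, inv_mul_cancel₀ hα, one_smul] at h3
        simpa [mul_assoc] using h3.symm
      have h4 : g.val * slot j (rk s Jk y y) = (c / d) • (slot i (rk s Jk x x) * g.val) := by
        rw [div_eq_inv_mul, ← smul_smul, h1, inv_smul_smul₀ hd0]
      calc g'.val * kz eE 1 = (p⁻¹).val * g.val * (q.val * kz eE 1) := by
            rw [hg', Units.val_mul, Units.val_mul, mul_assoc]
        _ = β • ((p⁻¹).val * (g.val * slot j (rk s Jk y y)) * q.val) := by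
            rw [hq, mul_smul_comm]; simp [mul_assoc]
        _ = (β * (c / d)) • ((p⁻¹).val * slot i (rk s Jk x x) * g.val * q.val) := by
            rw [h4, mul_smul_comm, smul_mul_assoc, smul_smul]; simp [mul_assoc]
        _ = (β * (c / d) / α) • (kz eE 1 * g'.val) := by
            rw [h2, hg', Units.val_mul, Units.val_mul]
            simp only [smul_mul_assoc, smul_smul, mul_assoc, div_eq_mul_inv]
    -- a centre element which is not scalar
    obtain ⟨Z, hZ, hZs⟩ : ∃ Z, InC s hk H' Z ∧ ∀ e : F, Z ≠ e • 1 := by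
      rcases line_dichotomy hex hT hH' hM' hg'U hg'W hconj hcomm with h | ⟨g₀, hg₀U, hg₀W, hg₀⟩
      · exact h
      have hT2 : 2 ≤ T := by
        by_contra h
        obtain rfl : T = 1 := by omega
        exact hg₀W (mem_wreath_one g₀)
      let φ : GL (Fin T → Fin k) F →* GL (Fin (T + 1) → Fin k) F :=
        MonoidHom.mk' (fun B => kzU 1 B) fun B C => by rw [kzU_mul, one_mul]
      let K : Subgroup (GL (Fin T → Fin k) F) := SUp s Jk T ⊓ H'.comap φ
      have hKM : ContainsU s Jk K := fun B hB hB' => ⟨hB', kzU_mem_H hM' (one_mem _) hB' hB⟩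
      have hKW : ¬ K ≤ Geo.tensorWreathStandard k T F :=
        exists_sRoot_out s hk hex (by omega) hg₀W fun v hv hv' => ⟨su_conj s hk hg₀U hv', hg₀ v hv hv'⟩
      obtain ⟨c₁, hc₁, hc₁s⟩ := s.exists_skew
      obtain ⟨T', rfl⟩ : ∃ T', T = T' + 1 := ⟨T - 1, by omega⟩
      have hv := pv_eo_iso s hk (t := T')
      exact exists_inC s hk hT2 hM' hc₁ ((ih (by omega) K inf_le_left hKM hKW _ hv).2 c₁ hc₁s).2 hv
    -- transport back
    have hfull := centres_of_full s hk hT hH' hM' hex fun Z' hZ' => InC.all hH' hM' hex hZ hZs Z' hZ'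
    intro v hv
    refine ⟨hv, fun e he => ?_⟩
    set u := (p⁻¹).val *ᵥ v with hudef
    have hu : hf s (powI Jk (T + 1)) u u = 0 := by
      rw [hudef, mem_isom.mp (inv_mem hpU)]; exact hv
    have h := (hmem _).mp ((hfull u hu).2 e he)
    rwa [ut_conj s hk hpU hu, hudef, mulVec_mulVec, Units.mul_inv, one_mulVec] at h

end Cfsg.Agent.WreathU
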