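import Cfsg.Agent.WreathU.Tensor
import Cfsg.Agent.WreathU.Swap
import Cfsg.Agent.MaxSub.HermStabStd
import Cfsg.Agent.Lib.Forms.Sesq
import Cfsg.Agent.WreathMax.RootClass

/-!
Transport of the standard unitary tensor power to a given decomposition, and maximality (helper56).
-/

set_option autoImplicit false
set_option linter.unusedSectionVars false

namespace Cfsg.Agent.WreathU

open Matrix Cfsg.Agent.MaxSub Cfsg.Agent.MaxSub.Asch Cfsg.Agent.FG75.SpinTensor Cfsg.Agent.WreathMax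

variable {F : Type*} [Field F] {k t : ℕ}

/-- A transvection centred at a basis tensor lies outside the stabiliser of the decomposition. -/
theorem ut_not_mem_wreath [Finite F] (s : Conj F) (hk : 3 ≤ k) (ht : 2 ≤ t) {c : F} (hc : c ≠ 0) :
    hf s (powI (sw hk) t) (Pi.single (fun _ => i0 hk) 1) (Pi.single (fun _ => i0 hk) 1) = 0 ∧
      ut (hf s (powI (sw hk) t)) (Pi.single (fun _ => i0 hk) 1) c ∉ Geo.tensorWreathStandard k t F := by
  classical
  set z₀ : Fin t → Fin k := fun _ => i0 hk with hz₀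
  set z₁ : Fin t → Fin k := fun _ => i1 hk with hz₁
  have hJ : (powI (sw hk) t).J z₀ = z₁ := funext fun i => by simp [powI_apply, z₀, z₁, sw]
  have h01 : z₀ ≠ z₁ := fun h => i0_ne_i1 hk (congrFun h ⟨0, by omega⟩)
  have hv : hf s (powI (sw hk) t) (Pi.single z₀ 1) (Pi.single z₀ 1) = 0 := by
    rw [hf_single, hJ, Pi.single_eq_of_ne h01.symm, map_zero]
  refine ⟨hv, fun hW => ?_⟩
  obtain ⟨gs, σ, hg⟩ := exists_wreath_elem hW
  have hcol : ∀ z : Fin t → Fin k, ∏ i, (gs i : Matrix (Fin k) (Fin k) F) (z i) (i1 hk) =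
      (if z = z₁ then 1 else 0) + if z = z₀ then c else 0 := fun z => by
    have h := wreath_apply gs σ z z₁
    rw [← hg, ut_coe s _ hv, rk_single, hJ] at h
    rw [← h, Matrix.add_apply, Matrix.one_apply, Matrix.smul_apply, Matrix.single_apply, smul_eq_mul,
      mul_ite, mul_one, mul_zero]
    congr 1
    simp [eq_comm]
  have hne : ∀ z, (z = z₀ ∨ z = z₁) → ∀ i, (gs i : Matrix (Fin k) (Fin k) F) (z i) (i1 hk) ≠ 0 := by
    intro z hz i
    have hp : ∏ j, (gs j : Matrix (Fin k) (Fin k) F) (z j) (i1 hk) ≠ 0 := ?_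
    · exact Finset.prod_ne_zero_iff.mp hp i (Finset.mem_univ i)
    rw [hcol]
    rcases hz with rfl | rfl
    · simpa [h01] using hc
    · simp [h01.symm]
  let i₀ : Fin t := ⟨0, by omega⟩
  let j₀ : Fin t := ⟨1, by omega⟩
  have hij : j₀ ≠ i₀ := by simp [i₀, j₀, Fin.ext_iff]
  have h := hcol (Function.update z₁ i₀ (i0 hk))
  have h1 : Function.update z₁ i₀ (i0 hk) ≠ z₁ := fun e => i0_ne_i1 hk (by simpa [z₁] using congrFun e i₀)
  have h0 : Function.update z₁ i₀ (i0 hk) ≠ z₀ := fun e => i0_ne_i1 hk (by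
    simpa [z₁, z₀, Function.update_of_ne hij, eq_comm] using congrFun e j₀)
  rw [if_neg h1, if_neg h0, add_zero, Finset.prod_eq_zero_iff] at h
  obtain ⟨i, -, hi⟩ := h
  rcases eq_or_ne i i₀ with rfl | hii
  · rw [Function.update_self] at hi
    exact hne z₀ (Or.inl rfl) i₀ hi
  · rw [Function.update_of_ne hii] at hi
    exact hne z₁ (Or.inr rfl) i hi

variable [Fintype F]

/-- A basis in which a unitary form exchanges the first two coordinates and is orthonormal on the others. -/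
theorem exists_sw_basis (s : Conj F) (hk : 3 ≤ k) {f₁ : (Fin k → F) → (Fin k → F) → F}
    (hu : Geo.IsUnitaryForm s.σ f₁) :
    ∃ col : Fin k → Fin k → F, ∀ a b, f₁ (col a) (col b) = if (sw hk).J a = b then 1 else 0 := by
  classical
  let σh : F →+* F := s.σ
  let B : (Fin k → F) →ₛₗ[σh] (Fin k → F) →ₗ[F] F :=
    LinearMap.mk₂'ₛₗ σh (RingHom.id F) (fun x y => f₁ y x)
      (fun _ _ _ => hadd_right hu _ _ _) (fun _ _ _ => hsmul_right hu _ _ _)
      (fun _ _ _ => hu.add_left _ _ _) (fun _ _ _ => hu.smul_left _ _ _)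
  have hS : B.IsSymm := ⟨fun x y => (hu.herm x y).symm⟩
  have hnd : ∀ w ∈ (⊤ : Submodule F (Fin k → F)), (∀ v ∈ (⊤ : Submodule F (Fin k → F)), B w v = 0) → w = 0 := by
    intro w _ h
    by_contra hw
    obtain ⟨⟨x, hx⟩, ⟨y, hy⟩⟩ := hu.nondegenerate w hw
    exact hx (h x Submodule.mem_top)
  obtain ⟨b, -, hb⟩ := Forms.exists_orthonormal_family (σ := σh)
    (fun h => s.ne_refl (RingEquiv.ext fun a => RingHom.congr_fun h a)) s.inv B hS k ⊤ hnd (by simp)
  have hb' : ∀ i j, f₁ (b j) (b i) = if i = j then 1 else 0 := hb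
  obtain ⟨ζ, hζ⟩ := s.exists_norm (r := -1) (by simp)
  obtain ⟨θ, hθ⟩ := s.exists_trace_one
  set o := b (i0 hk) + ζ • b (i1 hk) with ho
  set w := θ • b (i0 hk) + ((θ - 1) * ζ) • b (i1 hk) with hw
  have h01 := i0_ne_i1 hk
  have foo : f₁ o o = 0 := by
    simp only [ho, hu.add_left, hadd_right hu, hu.smul_left, hsmul_right hu, hb', h01, h01.symm, ↓reduceIte]
    linear_combination hζ
  have fwo : f₁ w o = 1 := by
    simp only [ho, hw, hu.add_left, hadd_right hu, hu.smul_left, hsmul_right hu, hb', h01, h01.symm, ↓reduceIte]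
    linear_combination (θ - 1) * hζ
  have fow : f₁ o w = 1 := by rw [hu.herm, fwo, map_one]
  have fww : f₁ w w = 0 := by
    simp only [hw, hu.add_left, hadd_right hu, hu.smul_left, hsmul_right hu, hb', h01, h01.symm, ↓reduceIte,
      map_mul, map_sub, map_one]
    linear_combination (θ - 1) * (s.σ θ - 1) * hζ + hθ
  have fb : ∀ a, a ≠ i0 hk → a ≠ i1 hk → f₁ o (b a) = 0 ∧ f₁ w (b a) = 0 ∧ f₁ (b a) o = 0 ∧ f₁ (b a) w = 0 :=
    fun a h0 h1 => by
      simp [ho, hw, hu.add_left, hadd_right hu, hu.smul_left, hsmul_right hu, hb', h0, h1, h0.symm, h1.symm]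
  refine ⟨fun a => if a = i0 hk then o else if a = i1 hk then w else b a, fun a c => ?_⟩
  rcases eq_or_ne a (i0 hk) with rfl | ha0
  · rcases eq_or_ne c (i0 hk) with rfl | hc0
    · simpa [sw, h01, h01.symm] using foo
    rcases eq_or_ne c (i1 hk) with rfl | hc1
    · simpa [sw, h01, h01.symm] using fow
    · simpa [sw, hc0, hc1, hc1.symm] using (fb c hc0 hc1).1
  rcases eq_or_ne a (i1 hk) with rfl | ha1
  · rcases eq_or_ne c (i0 hk) with rfl | hc0
    · simpa [sw, h01, h01.symm] using fwo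
    rcases eq_or_ne c (i1 hk) with rfl | hc1
    · simpa [sw, h01, h01.symm] using fww
    · simpa [sw, h01.symm, hc0, hc0.symm, hc1] using (fb c hc0 hc1).2.1
  have hJa : (sw hk).J a = a := Equiv.swap_apply_of_ne_of_ne ha0 ha1
  rw [hJa]
  rcases eq_or_ne c (i0 hk) with rfl | hc0
  · simpa [ha0, ha1] using (fb a ha0 ha1).2.2.1
  rcases eq_or_ne c (i1 hk) with rfl | hc1
  · simpa [ha0, ha1, h01.symm] using (fb a ha0 ha1).2.2.2
  · simp [ha0, ha1, hc0, hc1, hb', eq_comm]

/-- Maximality, given that every subgroup above the stabiliser has all centres. -/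
theorem maximal_of_core {n q : ℕ} (hF : Fintype.card F = q ^ 2) (hn : 13 ≤ n) (hk : 3 ≤ k) (ht : 2 ≤ t)
    (e : Fin n ≃ (Fin t → Fin k)) (P : GL (Fin n) F) (f₁ : (Fin k → F) → (Fin k → F) → F)
    (hf₁ : Geo.IsUnitaryFormPow q f₁)
    (hT : Geo.IsTensorPowerFormStructure (fun x : F => x ^ q) (hermForm n F q) f₁ e P)
    (hcore : ∀ (s : Conj F) (H : Subgroup (GL (Fin t → Fin k) F)), H ≤ SUp s (sw hk) t → ContainsU s (sw hk) H →
      ¬ H ≤ Geo.tensorWreathStandard k t F → ∀ v, hf s (powI (sw hk) t) v v = 0 →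
      HermStab.Centre s.σ (hf s (powI (sw hk) t)) H v) :
    Geo.IsMaximalIn (GU n F q ⊓ Geo.specialLinear (Fin n) F)
      (Geo.tensorWreathSubgroup k t e P ⊓ (GU n F q ⊓ Geo.specialLinear (Fin n) F)) := by
  classical
  obtain ⟨σ, hσ, hh⟩ := HermStab.exists_setup (n := n) hF
  let s : Conj F := ⟨σ, hh.ne_refl, hh.involutive⟩
  have hu : Geo.IsUnitaryForm s.σ f₁ := ⟨s.ne_refl, s.inv, hf₁.add_left, hf₁.smul_left,
    fun v w => (hf₁.herm v w).trans (hσ _).symm, hf₁.nondegenerate⟩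
  obtain ⟨col, hcolf⟩ := exists_sw_basis s hk hu
  obtain ⟨c₀, hc₀, hT⟩ := hT
  set Γ := Geo.gramMatrix f₁ with hΓdef
  have hΓ : ∀ u v : Fin k → F, f₁ u v = u ⬝ᵥ (Γ *ᵥ (s.σ ∘ v)) := by
    intro u v
    let σh : F →+* F := s.σ
    let L : (Fin k → F) →ₛₗ[σh] (Fin k → F) →ₗ[F] F :=
      LinearMap.mk₂'ₛₗ σh (RingHom.id F) (fun x y => f₁ y x)
        (fun _ _ _ => hadd_right hu _ _ _) (fun _ _ _ => hsmul_right hu _ _ _)
        (fun _ _ _ => hu.add_left _ _ _) (fun _ _ _ => hu.smul_left _ _ _)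
    show L v u = _
    conv_lhs => rw [pi_eq_sum_univ' u, pi_eq_sum_univ' v]
    simp only [map_sum, map_smulₛₗ, LinearMap.sum_apply, LinearMap.smul_apply, RingHom.id_apply, smul_eq_mul,
      dotProduct, Matrix.mulVec, Finset.mul_sum, Function.comp_apply]
    exact Finset.sum_congr rfl fun a _ => Finset.sum_congr rfl fun b _ => by
      simp only [show ∀ x y, L x y = f₁ y x from fun _ _ => rfl, σh, hΓdef, Geo.gramMatrix, RingHom.coe_coe]
      ring
  set R : Matrix (Fin k) (Fin k) F := Matrix.of fun a i => col i a with hR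
  set G : Matrix (Fin k) (Fin k) F := Matrix.of fun a b => if (sw hk).J a = b then (1 : F) else 0 with hG
  have hRG : Rᵀ * Γ * R.map s.σ = G := by
    refine Matrix.ext fun i j => ?_
    rw [hG, Matrix.of_apply, ← hcolf, hΓ, mul_assoc]
    simp only [Matrix.mul_apply, Matrix.mulVec, dotProduct, hR, Matrix.transpose_apply, Matrix.of_apply,
      Matrix.map_apply, Function.comp_apply]
  have hG2 : G * G = 1 := by
    refine Matrix.ext fun i j => ?_
    rw [Matrix.mul_apply, Finset.sum_eq_single ((sw hk).J i)]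
    · simp [hG, Matrix.one_apply, (sw hk).inv]
    · exact fun b _ hb => by simp [hG, Ne.symm hb]
    · simp
  have hRinv : (Γ * R.map s.σ * G)ᵀ * R = 1 := by
    rw [← Matrix.transpose_transpose R, ← Matrix.transpose_mul, Matrix.transpose_transpose,
      show Rᵀ * (Γ * R.map s.σ * G) = Rᵀ * Γ * R.map s.σ * G by simp [mul_assoc], hRG, hG2, Matrix.transpose_one]
  let r : GL (Fin k) F := ⟨R, (Γ * R.map s.σ * G)ᵀ, mul_eq_one_comm.mp hRinv, hRinv⟩
  let T : GL (Fin t → Fin k) F := tensGL fun _ => r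
  let Φ : GL (Fin t → Fin k) F ≃* GL (Fin n) F :=
    (MulAut.conj T).trans ((Geo.glReindex e.symm).trans (MulAut.conj P))
  let L : ((Fin t → Fin k) → F) → (Fin n → F) := fun v =>
    (P : Matrix (Fin n) (Fin n) F) *ᵥ (((T : Matrix (Fin t → Fin k) (Fin t → Fin k) F) *ᵥ v) ∘ e)
  have hL : ∀ (Y : GL (Fin t → Fin k) F) v,
      (Φ Y : Matrix (Fin n) (Fin n) F) *ᵥ L v = L ((Y : Matrix (Fin t → Fin k) (Fin t → Fin k) F) *ᵥ v) := by
    intro Y v
    simp only [L, Φ, MulEquiv.trans_apply, MulAut.conj_apply, Units.val_mul]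
    rw [Matrix.mulVec_mulVec, mul_assoc, mul_assoc, Units.inv_mul, mul_one, ← Matrix.mulVec_mulVec]
    congr 1
    show (Matrix.reindex e.symm e.symm (T.val * Y.val * (T⁻¹ : GL (Fin t → Fin k) F).val)) *ᵥ _ = _
    rw [Matrix.reindex_apply, Matrix.submatrix_mulVec_equiv]
    simp only [Equiv.symm_symm, Function.comp_assoc, Equiv.self_comp_symm, Function.comp_id]
    rw [Matrix.mulVec_mulVec, mul_assoc _ _ T.val, Units.inv_mul, mul_one, Matrix.mulVec_mulVec]
  have hLsurj : ∀ w, ∃ v, L v = w := fun w =>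
    ⟨(T⁻¹ : GL (Fin t → Fin k) F).val *ᵥ (((P⁻¹ : GL (Fin n) F).val *ᵥ w) ∘ e.symm), by
      simp only [L, Matrix.mulVec_mulVec, Units.mul_inv, Matrix.one_mulVec, Function.comp_assoc,
        Equiv.symm_comp_self, Function.comp_id]⟩
  have hLlin : ∀ (a : F) x y, L (x + a • y) = L x + a • L y := fun a x y => by
    show P.val *ᵥ ((T.val *ᵥ (x + a • y)) ∘ e) = P.val *ᵥ ((T.val *ᵥ x) ∘ e) + a • (P.val *ᵥ ((T.val *ᵥ y) ∘ e))
    rw [← Matrix.mulVec_smul P.val, ← Matrix.mulVec_add P.val, Matrix.mulVec_add T.val, Matrix.mulVec_smul T.val]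
    rfl
  set g' := hf s (powI (sw hk) t) with hg'
  have hu' : Geo.IsUnitaryForm s.σ g' := isUnitary s _
  have hform : ∀ x y, hermForm n F q (L x) (L y) = c₀ * g' x y := by
    intro x y
    simp only [L]
    rw [hT]
    congr 1
    have hsum : ∀ X Y : (Fin t → Fin k) → F,
        (∑ a, ∑ b, X a * (∏ i, Γ (a i) (b i)) * (Y b) ^ q) =
          X ⬝ᵥ (tens (fun _ : Fin t => Γ) *ᵥ (s.σ ∘ Y)) := fun X Y => by
      simp [dotProduct, Matrix.mulVec, Finset.mul_sum, tens_apply, mul_assoc, hσ, s]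
    have hmap : s.σ ∘ (T.val *ᵥ y) = (T.val.map s.σ) *ᵥ (s.σ ∘ y) :=
      funext fun a => RingHom.map_mulVec (s.σ : F →+* F) T.val y a
    rw [hsum, hmap, Matrix.mulVec_mulVec, ← Matrix.vecMul_transpose, ← Matrix.dotProduct_mulVec,
      Matrix.mulVec_mulVec, ← mul_assoc]
    have hGt : T.valᵀ * tens (fun _ : Fin t => Γ) * T.val.map s.σ = tens fun _ : Fin t => G := by
      show (tens fun _ : Fin t => R)ᵀ * tens (fun _ => Γ) * (tens (fun _ => R)).map (s.σ : F →+* F) = _
      rw [tens_transpose, tens_map, tens_mul, tens_mul]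
      congr 1
      funext _
      exact hRG
    rw [hGt, hg', hf, dotProduct_comm]
    congr 1
    funext a
    simp only [Matrix.mulVec, dotProduct, tens_apply, hG, Matrix.of_apply, Finset.prod_boole, Function.comp_apply,
      ite_mul, one_mul, zero_mul, cv]
    rw [Finset.sum_eq_single ((powI (sw hk) t).J a)]
    · rw [if_pos fun i _ => (powI_apply (sw hk) a i).symm]
    · exact fun b _ hb => if_neg fun h => hb (funext fun i => (h i (Finset.mem_univ i)).symm)
    · simp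
  have hcr : s.σ c₀ = c₀ := by
    obtain ⟨z, hz⟩ : ∃ z : Fin t → Fin k, True := ⟨fun _ => i0 hk, trivial⟩
    set x : (Fin t → Fin k) → F := Pi.single ((powI (sw hk) t).J z) 1
    set y : (Fin t → Fin k) → F := Pi.single z 1
    have h1 : g' x y = 1 := by simp [hg', x, y, hf_single, (powI (sw hk) t).inv]
    have h2 := hh.herm (L x) (L y)
    rw [hform, hform, map_mul, show σ = s.σ from rfl, ← hu'.herm, h1, mul_one, mul_one] at h2
    exact h2.symm
  have hisom : ∀ Y, Φ Y ∈ GU n F q ↔ Y ∈ isom g' := by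
    intro Y
    rw [mem_isom]
    constructor
    · intro h x y
      have h1 := mem_isom.mp (show Φ Y ∈ isom (hermForm n F q) from h) (L x) (L y)
      rw [hL, hL, hform, hform] at h1
      exact mul_left_cancel₀ hc₀ h1
    · intro h
      refine show Φ Y ∈ isom (hermForm n F q) from mem_isom.mpr fun u v => ?_
      obtain ⟨x, rfl⟩ := hLsurj u
      obtain ⟨y, rfl⟩ := hLsurj v
      rw [hL, hL, hform, hform, h]
  have hdet : ∀ Y, Φ Y ∈ Geo.specialLinear (Fin n) F ↔ Y ∈ Geo.specialLinear (Fin t → Fin k) F := by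
    intro Y
    show Matrix.GeneralLinearGroup.det (P * Geo.glReindex e.symm (T * Y * T⁻¹) * P⁻¹) = 1 ↔
      Matrix.GeneralLinearGroup.det Y = 1
    have hre : ∀ Z : GL (Fin t → Fin k) F,
        Matrix.GeneralLinearGroup.det (Geo.glReindex e.symm Z) = Matrix.GeneralLinearGroup.det Z := fun Z =>
      Units.ext (Matrix.det_reindexAlgEquiv F F e.symm Z.val)
    rw [map_mul, map_mul, map_inv, mul_right_comm, mul_inv_cancel, one_mul, hre, map_mul, map_mul, map_inv,
      mul_right_comm, mul_inv_cancel, one_mul]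
  have hSU : ∀ Y, Φ Y ∈ GU n F q ⊓ Geo.specialLinear (Fin n) F ↔ Y ∈ SUp s (sw hk) t :=
    fun Y => and_congr (hisom Y) (hdet Y)
  have hW : ∀ Y, Φ Y ∈ Geo.tensorWreathSubgroup k t e P ↔ Y ∈ Geo.tensorWreathStandard k t F := by
    intro Y
    have hTm : T ∈ Geo.tensorWreathStandard k t F := tensGL_mem _
    constructor
    · rintro ⟨_, ⟨w, hw, rfl⟩, h⟩
      have h' : Φ (T⁻¹ * w * T) = Φ Y := Eq.trans (by simp [Φ, mul_assoc]) h
      exact Φ.injective h' ▸ mul_mem (mul_mem (inv_mem hTm) hw) hTm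
    · exact fun h => ⟨_, ⟨T * Y * T⁻¹, mul_mem (mul_mem hTm h) (inv_mem hTm), rfl⟩, rfl⟩
  refine ⟨lt_of_le_of_ne inf_le_right fun hEq => ?_, fun M hle hMK => ?_⟩
  · obtain ⟨c, hc0, hc⟩ := s.exists_skew
    obtain ⟨hv, hnW⟩ := ut_not_mem_wreath (F := F) s hk ht hc0
    exact hnW ((hW _).mp (hEq.ge ((hSU _).mpr (HermStab.ut_mem_su hu' hv hc))).1)
  · let H := M.comap Φ.toMonoidHom
    have hH : H ≤ SUp s (sw hk) t := fun Y hY => (hSU Y).mp (hMK hY)
    have hHM : ContainsU s (sw hk) H := fun w hw hw' => hle ⟨(hW w).mpr hw, (hSU w).mpr hw'⟩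
    by_cases hHW : H ≤ Geo.tensorWreathStandard k t F
    · refine Or.inl (le_antisymm (fun g hg => ⟨?_, hMK hg⟩) hle)
      obtain ⟨Y, rfl⟩ := Φ.surjective g
      exact (hW Y).mpr (hHW hg)
    · have hcen := hcore s H hH hHM hHW
      refine Or.inr (le_antisymm hMK (HermStab.le_of_centres hF hσ hh (by omega) fun v hv => ?_))
      obtain ⟨x, rfl⟩ := hLsurj v
      have hx : g' x x = 0 := by simpa [hform, hc₀] using hv
      refine ⟨hv, fun c hc => ?_⟩
      have hd : c * c₀ + s.σ (c * c₀) = 0 := by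
        rw [map_mul, hcr]
        linear_combination c₀ * hc
      have hmem : Φ (ut g' x (c * c₀)) ∈ M := (hcen x hx).2 _ hd
      have heq : Φ (ut g' x (c * c₀)) = ut (hermForm n F q) (L x) c := gl_ext fun u => by
        obtain ⟨y, rfl⟩ := hLsurj u
        rw [hL, ut_mulVec hu' hx, ut_mulVec hh hv, hLlin, hform, mul_assoc c]
      rwa [heq] at hmem

end Cfsg.Agent.WreathU
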