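import Cfsg.Agent.MaxSub.HermStab
import Cfsg.Agent.WreathMax.Basic

/-!
Hermitian forms given by an involution of the index set: adjoints, rank one maps, root elements (helper1).
-/

set_option autoImplicit false
set_option linter.unusedSectionVars false

namespace Cfsg.Agent.WreathU

open Matrix Cfsg.Agent.MaxSub

variable {F : Type*} [Field F]

/-- An involutory field automorphism. -/
structure Conj (F : Type*) [Field F] where
  σ : F ≃+* F
  ne_refl : σ ≠ RingEquiv.refl F
  inv : ∀ a, σ (σ a) = a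

/-- An involution of an index set. -/
structure Invol (ι : Type) where
  J : Equiv.Perm ι
  inv : ∀ a, J (J a) = a

namespace Conj

variable (s : Conj F)

theorem exists_moved : ∃ a, s.σ a ≠ a := by
  by_contra h
  push Not at h
  exact s.ne_refl (RingEquiv.ext h)

theorem exists_skew : ∃ c : F, c ≠ 0 ∧ c + s.σ c = 0 := by
  obtain ⟨a, ha⟩ := s.exists_moved
  exact ⟨a - s.σ a, sub_ne_zero.mpr ha.symm, by rw [map_sub, s.inv]; ring⟩

/-- An element of trace one. -/
theorem exists_trace_one : ∃ θ : F, θ + s.σ θ = 1 := by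
  obtain ⟨a, ha⟩ : ∃ a, a + s.σ a ≠ 0 := by
    by_contra h
    push Not at h
    have h1 := h 1
    rw [map_one] at h1
    obtain ⟨a, ha⟩ := s.exists_moved
    exact ha (by linear_combination h a - a * h1)
  exact ⟨a / (a + s.σ a), by
    rw [map_div₀, map_add, s.inv, add_comm (s.σ a) a, ← add_div, div_self ha]⟩

theorem exists_trace {r : F} (hr : s.σ r = r) : ∃ c, c + s.σ c = r := by
  obtain ⟨θ, hθ⟩ := s.exists_trace_one
  exact ⟨r * θ, by rw [map_mul, hr, ← mul_add, hθ, mul_one]⟩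

theorem exists_norm [Finite F] {r : F} (hr : s.σ r = r) : ∃ a, s.σ a * a = r :=
  Forms.exists_norm_eq (σ := (s.σ : F →+* F))
    (fun h => s.ne_refl (RingEquiv.ext fun a => RingHom.congr_fun h a)) s.inv hr

/-- Three different elements of norm one. -/
theorem exists_units_norm : ∃ μ ν : F, s.σ μ * μ = 1 ∧ s.σ ν * ν = 1 ∧ μ ≠ 1 ∧ ν ≠ 1 ∧ μ ≠ ν := by
  obtain ⟨a, ha⟩ := s.exists_moved
  have h0 : a ≠ 0 := fun h => ha (by rw [h, map_zero])
  have h1 : a + 1 ≠ 0 := fun h => ha (by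
    rw [eq_neg_of_add_eq_zero_left h, map_neg, map_one])
  have hs0 : s.σ a ≠ 0 := (map_ne_zero s.σ).mpr h0
  have hs1 : s.σ a + 1 ≠ 0 := fun h => h1 (by
    have := congrArg s.σ h
    rwa [map_add, s.inv, map_one, map_zero] at this)
  refine ⟨a / s.σ a, (a + 1) / (s.σ a + 1), ?_, ?_, ?_, ?_, ?_⟩
  · rw [map_div₀, s.inv]; field_simp
  · rw [map_div₀, map_add, map_add, s.inv, map_one]; field_simp
  · rw [ne_eq, div_eq_one_iff_eq hs0]; exact ha.symm
  · rw [ne_eq, div_eq_one_iff_eq hs1]; exact fun h => ha (by linear_combination -h)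
  · rw [ne_eq, div_eq_div_iff hs0 hs1]
    exact fun h => ha (by linear_combination -h)

end Conj

variable {ι : Type} [Fintype ι] [DecidableEq ι] (s : Conj F) (Jv : Invol ι)

/-- The covector of a vector. -/
def cv (y : ι → F) : ι → F := fun a => s.σ (y (Jv.J a))

/-- The form. -/
def hf (x y : ι → F) : F := cv s Jv y ⬝ᵥ x

/-- The map `z ↦ f(z, y) x`. -/
def rk (x y : ι → F) : Matrix ι ι F := vecMulVec x (cv s Jv y)

/-- The adjoint. -/
def adj (X : Matrix ι ι F) : Matrix ι ι F := Matrix.of fun a b => s.σ (X (Jv.J b) (Jv.J a))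

theorem cv_add (x y : ι → F) : cv s Jv (x + y) = cv s Jv x + cv s Jv y := by funext a; simp [cv]

theorem cv_smul (c : F) (x : ι → F) : cv s Jv (c • x) = s.σ c • cv s Jv x := by funext a; simp [cv]

theorem hf_add_left (x x' y : ι → F) : hf s Jv (x + x') y = hf s Jv x y + hf s Jv x' y := dotProduct_add _ _ _

theorem hf_smul_left (c : F) (x y : ι → F) : hf s Jv (c • x) y = c * hf s Jv x y := dotProduct_smul c _ _

theorem hf_herm (x y : ι → F) : hf s Jv x y = s.σ (hf s Jv y x) := by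
  simp only [hf, dotProduct, cv, map_sum, map_mul, s.inv]
  rw [← Equiv.sum_comp Jv.J]
  exact Finset.sum_congr rfl fun a _ => by rw [Jv.inv, mul_comm]

theorem hf_single (a : ι) (y : ι → F) : hf s Jv (Pi.single a 1) y = s.σ (y (Jv.J a)) := by
  simp [hf, cv]

theorem isUnitary : Geo.IsUnitaryForm s.σ (hf s Jv) := by
  refine ⟨s.ne_refl, s.inv, hf_add_left s Jv, hf_smul_left s Jv, hf_herm s Jv, fun v hv => ?_⟩
  obtain ⟨a, ha⟩ := Function.ne_iff.mp hv
  have h1 : hf s Jv (Pi.single (Jv.J a) 1) v ≠ 0 := by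
    rw [hf_single, Jv.inv]
    exact (map_ne_zero s.σ).mpr ha
  refine ⟨?_, ?_⟩
  all_goals first
    | exact ⟨Pi.single (Jv.J a) 1, h1⟩
    | exact ⟨Pi.single (Jv.J a) 1, by rw [hf_herm]; exact (map_ne_zero s.σ).mpr h1⟩

theorem hf_add_right (x y y' : ι → F) : hf s Jv x (y + y') = hf s Jv x y + hf s Jv x y' :=
  hadd_right (isUnitary s Jv) x y y'

theorem hf_smul_right (c : F) (x y : ι → F) : hf s Jv x (c • y) = s.σ c * hf s Jv x y :=
  hsmul_right (isUnitary s Jv) c x y

theorem rep_eq (y : ι → F) : rep (hf s Jv) y = cv s Jv y := funext fun a => hf_single s Jv a y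

theorem rk_mulVec (x y z : ι → F) : rk s Jv x y *ᵥ z = hf s Jv z y • x := by
  rw [rk, vecMulVec_mulVec]
  simp [hf]

theorem rk_mul (x y z w : ι → F) : rk s Jv x y * rk s Jv z w = hf s Jv z y • rk s Jv x w := by
  rw [rk, rk, vecMulVec_mul_vecMulVec, rk, hf]
  ext a b
  simp [vecMulVec_apply, mul_comm, mul_assoc, mul_left_comm]

theorem rk_add_left (x x' y : ι → F) : rk s Jv (x + x') y = rk s Jv x y + rk s Jv x' y := add_vecMulVec _ _ _

theorem rk_add_right (x y y' : ι → F) : rk s Jv x (y + y') = rk s Jv x y + rk s Jv x y' := by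
  rw [rk, cv_add, vecMulVec_add]; rfl

theorem rk_smul_left (c : F) (x y : ι → F) : rk s Jv (c • x) y = c • rk s Jv x y := smul_vecMulVec c _ _

theorem rk_smul_right (c : F) (x y : ι → F) : rk s Jv x (c • y) = s.σ c • rk s Jv x y := by
  rw [rk, cv_smul, vecMulVec_smul]; rfl

theorem rk_single (a b : ι) : rk s Jv (Pi.single a 1) (Pi.single b 1) = Matrix.single a (Jv.J b) (1 : F) := by
  ext u v
  have hv : (Jv.J v = b) ↔ (Jv.J b = v) := ⟨fun h => h ▸ Jv.inv v, fun h => h ▸ Jv.inv b⟩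
  simp only [rk, cv, vecMulVec_apply, Pi.single_apply, Matrix.single_apply]
  by_cases h1 : a = u <;> by_cases h2 : Jv.J b = v
  · simp [h1, h2, hv.mpr h2]
  · simp [h2, mt hv.mp h2]
  · simp [h1, Ne.symm h1]
  · simp [h2, mt hv.mp h2]

theorem mul_rk (A : Matrix ι ι F) (x y : ι → F) : A * rk s Jv x y = rk s Jv (A *ᵥ x) y := mul_vecMulVec A x _

theorem adj_mulVec (A : Matrix ι ι F) (x y : ι → F) :
    hf s Jv (A *ᵥ x) y = hf s Jv x (adj s Jv A *ᵥ y) := by
  simp only [hf, cv, dotProduct, Matrix.mulVec, adj, Matrix.of_apply, map_sum, map_mul, s.inv,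
    Finset.mul_sum, Finset.sum_mul, Jv.inv]
  rw [Finset.sum_comm]
  refine Finset.sum_congr rfl fun b _ => ?_
  rw [← Equiv.sum_comp Jv.J]
  refine Finset.sum_congr rfl fun a _ => ?_
  rw [Jv.inv]
  ring

theorem adj_adj (X : Matrix ι ι F) : adj s Jv (adj s Jv X) = X := by
  ext a b; simp [adj, Jv.inv, s.inv]

theorem adj_add (X Y : Matrix ι ι F) : adj s Jv (X + Y) = adj s Jv X + adj s Jv Y := by ext a b; simp [adj]

theorem adj_sub (X Y : Matrix ι ι F) : adj s Jv (X - Y) = adj s Jv X - adj s Jv Y := by ext a b; simp [adj]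

theorem adj_neg (X : Matrix ι ι F) : adj s Jv (-X) = -adj s Jv X := by ext a b; simp [adj]

theorem adj_zero : adj s Jv (0 : Matrix ι ι F) = 0 := by ext a b; simp [adj]

theorem adj_smul (c : F) (X : Matrix ι ι F) : adj s Jv (c • X) = s.σ c • adj s Jv X := by ext a b; simp [adj]

theorem adj_one : adj s Jv (1 : Matrix ι ι F) = 1 := by
  ext a b
  rcases eq_or_ne a b with rfl | h
  · simp [adj]
  · simp [adj, h, Jv.J.injective.ne h.symm]

theorem adj_mul (X Y : Matrix ι ι F) : adj s Jv (X * Y) = adj s Jv Y * adj s Jv X := by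
  ext a b
  simp only [adj, Matrix.mul_apply, Matrix.of_apply, map_sum, map_mul]
  rw [← Equiv.sum_comp Jv.J]
  exact Finset.sum_congr rfl fun c _ => mul_comm _ _

theorem adj_rk (x y : ι → F) : adj s Jv (rk s Jv x y) = rk s Jv y x := by
  ext a b
  simp [adj, rk, cv, vecMulVec_apply, Jv.inv, s.inv, mul_comm]

theorem rk_mul_left (A : Matrix ι ι F) (x y : ι → F) :
    rk s Jv x y * A = rk s Jv x (adj s Jv A *ᵥ y) := by
  have h := congrArg (adj s Jv) (mul_rk s Jv (adj s Jv A) y x)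
  rwa [adj_mul, adj_adj, adj_rk, adj_rk] at h

/-- The unitary group of the form. -/
abbrev U : Subgroup (GL ι F) := isom (hf s Jv)

theorem mem_U_iff {g : GL ι F} : g ∈ U s Jv ↔ adj s Jv (g : Matrix ι ι F) * (g : Matrix ι ι F) = 1 := by
  rw [mem_isom]
  constructor
  · intro h
    refine Matrix.ext_of_mulVec_single fun b => ?_
    rw [← mulVec_mulVec, one_mulVec]
    funext a
    have h1 := h (Pi.single (Jv.J a) 1) (Pi.single b 1)
    rw [adj_mulVec, hf_single, hf_single, Jv.inv] at h1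
    exact s.σ.injective h1
  · intro h u v
    rw [adj_mulVec, mulVec_mulVec, h, one_mulVec]

theorem inv_eq_adj {g : GL ι F} (hg : g ∈ U s Jv) :
    ((g⁻¹ : GL ι F) : Matrix ι ι F) = adj s Jv (g : Matrix ι ι F) := by
  have h := congrArg (· * ((g⁻¹ : GL ι F) : Matrix ι ι F)) ((mem_U_iff s Jv).mp hg)
  simp only [mul_assoc, Units.mul_inv, mul_one, one_mul] at h
  exact h.symm

/-- Conjugating a rank one map by an isometry. -/
theorem conj_rk {g : GL ι F} (hg : g ∈ U s Jv) (x y : ι → F) :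
    (g : Matrix ι ι F) * rk s Jv x y * ((g⁻¹ : GL ι F) : Matrix ι ι F) =
      rk s Jv ((g : Matrix ι ι F) *ᵥ x) ((g : Matrix ι ι F) *ᵥ y) := by
  rw [inv_eq_adj s Jv hg, mul_rk, rk_mul_left, adj_adj]

theorem ut_coe {v : ι → F} (hv : hf s Jv v v = 0) (c : F) :
    (ut (hf s Jv) v c : Matrix ι ι F) = 1 + c • rk s Jv v v := by
  refine Matrix.ext_of_mulVec_single fun b => ?_
  rw [ut_mulVec (isUnitary s Jv) hv, add_mulVec, one_mulVec, smul_mulVec, rk_mulVec, smul_smul]

theorem qe_coe {u z : ι → F} (hu : hf s Jv u u = 0) (hzu : hf s Jv z u = 0) (b : F) :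
    (HermStab.qe (hf s Jv) u z b : Matrix ι ι F) = 1 + rk s Jv z u - rk s Jv u z + b • rk s Jv u u := by
  refine Matrix.ext_of_mulVec_single fun a => ?_
  rw [HermStab.qe_mulVec (isUnitary s Jv) hu hzu, add_mulVec, sub_mulVec, add_mulVec, one_mulVec, smul_mulVec,
    rk_mulVec, rk_mulVec, rk_mulVec, smul_smul]

end Cfsg.Agent.WreathU
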