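import Cfsg.Agent.WreathU.Swap
import Cfsg.Agent.WreathU.Tensor
import Cfsg.Agent.WreathMax.Average

/-!
Overgroups in which the root elements of the slots fix only the base coset (helper1).
-/

set_option autoImplicit false
set_option linter.unusedSectionVars false

namespace Cfsg.Agent.WreathU

open Matrix Cfsg.Agent.MaxSub Cfsg.Agent.MaxSub.Asch Cfsg.Agent.FG75.SpinTensor Cfsg.Agent.WreathMax

variable {F : Type*} [Field F] {k t : ℕ} (s : Conj F) (π : Invol (Fin k))

/-- No root of a slot is conjugated into the stabiliser from outside. -/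
def Moves (H : Subgroup (GL (Fin t → Fin k) F)) : Prop :=
  ∀ g ∈ H, g ∉ Geo.tensorWreathStandard k t F → ∀ i x c, x ≠ 0 → hf s π x x = 0 → c ≠ 0 → c + s.σ c = 0 →
    g⁻¹ * sRoot s π i x c * g ∉ Geo.tensorWreathStandard k t F

theorem sRoot_mul (i : Fin t) {x : Fin k → F} (hx : hf s π x x = 0) (c d : F) :
    sRoot s π i x c * sRoot s π i x d = sRoot s π i x (c + d) := Units.ext (by
  rw [Units.val_mul, sRoot_coe s π i hx, sRoot_coe s π i hx, sRoot_coe s π i hx]
  simp only [mul_add, add_mul, one_mul, mul_one, Matrix.smul_mul, Matrix.mul_smul, ← slot_mul', rk_mul, hx, zero_smul,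
    slot_zero', smul_zero, add_zero, add_smul, add_assoc])

theorem sRoot_zero (i : Fin t) {x : Fin k → F} (hx : hf s π x x = 0) : sRoot s π i x 0 = 1 :=
  Units.ext (by rw [sRoot_coe s π i hx, zero_smul, add_zero, Units.val_one])

theorem conjHom_sRoot (i : Fin t) {x : Fin k → F} (hx : hf s π x x = 0) (c : F)
    (X : Matrix (Fin t → Fin k) (Fin t → Fin k) F) :
    conjHom (sRoot s π i x c) X = X + c • (slot i (rk s π x x) * X - X * slot i (rk s π x x)) -
      (c * c) • (slot i (rk s π x x) * X * slot i (rk s π x x)) := by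
  have hinv : (sRoot s π i x c)⁻¹ = sRoot s π i x (-c) :=
    inv_eq_of_mul_eq_one_right (by rw [sRoot_mul s π i hx, add_neg_cancel, sRoot_zero s π i hx])
  rw [conjHom_apply, hinv, sRoot_coe s π i hx, sRoot_coe s π i hx]
  simp only [add_mul, mul_add, one_mul, mul_one, Matrix.smul_mul, Matrix.mul_smul, neg_smul, mul_neg, smul_sub,
    smul_neg, smul_smul]
  abel

/-- The skew elements. -/
def skews : AddSubgroup F where
  carrier := {c | c + s.σ c = 0}
  zero_mem' := by simp
  add_mem' := fun {a b} (ha : a + s.σ a = 0) (hb : b + s.σ b = 0) => by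
    show a + b + s.σ (a + b) = 0
    rw [map_add]; linear_combination ha + hb
  neg_mem' := fun {a} (ha : a + s.σ a = 0) => by
    show -a + s.σ (-a) = 0
    rw [map_neg]; linear_combination -ha

theorem card_eq_four [Finite F] (h : ∀ μ : F, μ ≠ 0 → s.σ μ = μ → μ = 1) : Nat.card F = 4 := by
  classical
  letI := Fintype.ofFinite F
  have hroot : ∀ a : F, a ≠ 0 → a + 1 ≠ 0 → a * a + a + 1 = 0 := by
    intro a ha ha1
    have h1 : s.σ a * a = 1 := h _ (mul_ne_zero ((map_ne_zero s.σ).mpr ha) ha) (by rw [map_mul, s.inv, mul_comm])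
    have h2 : s.σ (a + 1) * (a + 1) = 1 :=
      h _ (mul_ne_zero ((map_ne_zero s.σ).mpr ha1) ha1) (by rw [map_mul, s.inv, mul_comm])
    rw [map_add, map_one] at h2
    linear_combination a * h2 - (a + 1) * h1
  obtain ⟨w, hw⟩ := s.exists_moved
  have hw0 : w ≠ 0 := fun e => hw (by rw [e, map_zero])
  have hw1 : w + 1 ≠ 0 := fun e => hw (by rw [eq_neg_of_add_eq_zero_left e, map_neg, map_one])
  have hs := hroot w hw0 hw1
  have hsub : (Finset.univ : Finset F) ⊆ {0, -1, w, -1 - w} := fun a _ => by
    by_cases ha : a = 0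
    · simp [ha]
    by_cases ha1 : a + 1 = 0
    · simp [eq_neg_of_add_eq_zero_left ha1]
    have : (a - w) * (a + w + 1) = 0 := by linear_combination hroot a ha ha1 - hs
    rcases mul_eq_zero.mp this with e | e
    · simp [sub_eq_zero.mp e]
    · simp [show a = -1 - w by linear_combination e]
  have hle : Fintype.card F ≤ 4 := (Finset.card_le_card hsub).trans (by
    refine le_trans (Finset.card_insert_le _ _) ?_
    exact Nat.succ_le_succ Finset.card_le_three)
  rw [Nat.card_eq_fintype_card]
  refine le_antisymm hle ?_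
  have hsw0 : s.σ w ≠ 0 := (map_ne_zero s.σ).mpr hw0
  have h1w : (1 : F) ≠ w := fun e => hw (by rw [← e, map_one])
  have h1s : (1 : F) ≠ s.σ w := fun e => hw (by
    rw [← e]; have := congrArg s.σ e; rw [map_one, s.inv] at this; exact this)
  have : ({0, 1, w, s.σ w} : Finset F).card = 4 := by
    simp [hw0.symm, hsw0.symm, h1w, h1s, Ne.symm hw]
  exact this.symm.trans_le (Finset.card_le_univ _)

variable [Fintype F] {H : Subgroup (GL (Fin t → Fin k) F)}

/-- The defect of the averaged projection. -/
noncomputable def defect (H : Subgroup (GL (Fin t → Fin k) F)) :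
    Matrix (Fin t → Fin k) (Fin t → Fin k) F →ₗ[F] Matrix (Fin t → Fin k) (Fin t → Fin k) F := avg H - Phi

theorem defect_equivariant {g : GL (Fin t → Fin k) F} (hg : g ∈ H) (hW : g ∈ Geo.tensorWreathStandard k t F)
    (X : Matrix (Fin t → Fin k) (Fin t → Fin k) F) : defect H (conjHom g X) = conjHom g (defect H X) := by
  simp only [defect, LinearMap.sub_apply, map_sub, avg_equivariant H hg, Phi_equivariant hW]

/-- The defect on the fixed matrices of a root group. -/
theorem defect_form (hM : ContainsU s π H) (hmov : Moves s π H) (i : Fin t) {x : Fin k → F} (hx0 : x ≠ 0)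
    (hx : hf s π x x = 0) {X : Matrix (Fin t → Fin k) (Fin t → Fin k) F}
    (h1 : slot i (rk s π x x) * X = 0) (h2 : X * slot i (rk s π x x) = 0) :
    ∃ Y, ∃ a b : F, (a ≠ 0 → Nat.card F = 4) ∧
      defect H X = a • (slot i (rk s π x x) * Y - Y * slot i (rk s π x x)) +
        b • (slot i (rk s π x x) * Y * slot i (rk s π x x)) := by
  classical
  letI := Fintype.ofFinite (Cosets H)
  set N := slot i (rk s π x x) with hN
  let K := skews s
  letI := Fintype.ofFinite K
  let r : K → H := fun c => ⟨sRoot s π i x c, sRoot_mem s π hM i hx c.2⟩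
  let α : K → Cosets H → Cosets H := fun c q => r c • q
  have hα : ∀ c d q, α c (α d q) = α (c + d) q := fun c d q => by
    show r c • r d • q = r (c + d) • q
    rw [smul_smul]
    congr 1
    exact Subtype.ext (sRoot_mul s π i hx c d)
  have hα0 : ∀ q, α 0 q = q := fun q => by
    show r 0 • q = q
    rw [show r 0 = 1 from Subtype.ext (sRoot_zero s π i hx), one_smul]
  let st : Setoid (Cosets H) :=
    { r := fun q q' => ∃ c, α c q = q'
      iseqv :=
        ⟨fun q => ⟨0, hα0 q⟩, fun {q q'} ⟨v, hv⟩ => ⟨-v, by rw [← hv, hα, neg_add_cancel, hα0]⟩,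
          fun {q q' q''} ⟨v, hv⟩ ⟨w, hw⟩ => ⟨w + v, by rw [← hα, hv, hw]⟩⟩ }
  letI : Fintype (Quotient st) := Fintype.ofFinite _
  set S := Finset.univ.erase (QuotientGroup.mk (1 : H) : Cosets H) with hS
  have hfix : ∀ c q, q ≠ (QuotientGroup.mk 1 : Cosets H) → α c q = q → c = 0 := by
    intro c q hq hcq
    obtain ⟨g, rfl⟩ := QuotientGroup.mk_surjective q
    by_contra hc
    refine hmov g g.2 (fun h => hq ((mk_eq_one_iff H g).mpr h)) i x c hx0 hx (fun h => hc (Subtype.ext h)) c.2 ?_
    change (QuotientGroup.mk (r c * g) : Cosets H) = _ at hcq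
    rw [eq_comm, QuotientGroup.eq, Subgroup.mem_subgroupOf] at hcq
    simpa [mul_assoc, r] using hcq
  have hbase : ∀ c, α c (QuotientGroup.mk 1 : Cosets H) = QuotientGroup.mk 1 := fun c => by
    show (QuotientGroup.mk (r c * 1) : Cosets H) = _
    rw [mul_one]
    exact (mk_eq_one_iff H _).mpr (sRoot_mem_wreath s π i x c)
  have horb : ∀ o : Quotient st, ∃ Y, ∑ q ∈ S.filter (fun q => Quotient.mk st q = o), cosetTwist H q X =
      ∑ c : K, conjHom (sRoot s π i x c) Y := by
    intro o
    by_cases hne : S.filter (fun q => Quotient.mk st q = o) = ∅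
    · exact ⟨0, by rw [hne]; simp⟩
    obtain ⟨q₀, hq₀⟩ := Finset.nonempty_iff_ne_empty.mpr hne
    simp only [S, Finset.mem_filter, Finset.mem_erase, Finset.mem_univ, and_true] at hq₀
    obtain ⟨hq₀, rfl⟩ := hq₀
    refine ⟨cosetTwist H q₀ X, ?_⟩
    have himg : S.filter (fun q => Quotient.mk st q = Quotient.mk st q₀) =
        (Finset.univ : Finset K).image fun c => α c q₀ := by
      ext q
      simp only [S, Finset.mem_filter, Finset.mem_erase, Finset.mem_univ, and_true, Finset.mem_image, true_and]
      constructor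
      · rintro ⟨-, hq⟩
        exact Quotient.exact hq.symm
      · rintro ⟨c, rfl⟩
        refine ⟨fun h => hq₀ ?_, (Quotient.sound (show st q₀ (α c q₀) from ⟨c, rfl⟩)).symm⟩
        have h' := congrArg (α (-c)) h
        rwa [hα, neg_add_cancel, hα0, hbase] at h'
    rw [himg, Finset.sum_image fun c _ d _ (h : α c q₀ = α d q₀) => by
      have h' := congrArg (α (-d)) h
      rw [hα, hα, neg_add_cancel, hα0] at h'
      exact (neg_add_eq_zero.mp (hfix _ _ hq₀ h')).symm]
    refine Finset.sum_congr rfl fun c _ => ?_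
    have hfixX : conjHom (sRoot s π i x c) X = X := by
      rw [conjHom_sRoot s π i hx, h1, h2]
      simp
    have h := cosetTwist_smul H (r c) q₀ X
    rw [hfixX] at h
    exact h
  choose Y hY using horb
  refine ⟨∑ o, Y o, ∑ c : K, (c : F), -∑ c : K, (c : F) * c, fun ha => ?_, ?_⟩
  · have key : ∀ μ : F, μ ≠ 0 → s.σ μ = μ → μ = 1 := by
      intro μ hμ hμs
      let e : K ≃ K :=
        { toFun := fun c => ⟨μ * c, show _ = (0 : F) by rw [map_mul, hμs, ← mul_add, c.2, mul_zero]⟩
          invFun := fun c => ⟨μ⁻¹ * c, show _ = (0 : F) by rw [map_mul, map_inv₀, hμs, ← mul_add, c.2, mul_zero]⟩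
          left_inv := fun c => Subtype.ext (by simp [hμ])
          right_inv := fun c => Subtype.ext (by simp [hμ]) }
      have h := Equiv.sum_comp e (fun c : K => (c : F))
      simp only [e, Equiv.coe_fn_mk, ← Finset.mul_sum] at h
      exact (mul_eq_right₀ ha).mp h
    exact card_eq_four s key
  · have hcard : (Fintype.card K : F) = 0 := by
      obtain ⟨c₀, hc₀, hc₀s⟩ := s.exists_skew
      have h := Equiv.sum_comp (Equiv.addRight (⟨c₀, hc₀s⟩ : K)) (fun c : K => (c : F))
      simp only [Equiv.coe_addRight, AddSubgroup.coe_add, Finset.sum_add_distrib, add_eq_left,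
        Finset.sum_const, Finset.card_univ, nsmul_eq_mul, mul_eq_zero] at h
      exact h.resolve_right hc₀
    have e1 : defect H X = ∑ c : K, conjHom (sRoot s π i x c) (∑ o, Y o) := by
      rw [defect, LinearMap.sub_apply, avg_sub_Phi, ← hS,
        ← Finset.sum_fiberwise S (fun q => Quotient.mk st q) (fun q => cosetTwist H q X),
        Finset.sum_congr rfl fun o _ => hY o, Finset.sum_comm]
      simp [map_sum]
    rw [e1]
    simp only [conjHom_sRoot s π i hx, ← hN, Finset.sum_sub_distrib, Finset.sum_add_distrib, Finset.sum_const,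
      Finset.card_univ, ← Finset.sum_smul, neg_smul, ← sub_eq_add_neg]
    rw [← Nat.cast_smul_eq_nsmul F, hcard, zero_smul, zero_add]

variable (hk : 3 ≤ k)

local notation "Jk" => sw hk
local notation "f" => hf s (sw hk)

/-- A map killed from the left by all rank one maps orthogonal to one of two lines is zero. -/
theorem eq_zero_of_two {i : Fin t} {x x' : Fin k → F} (hxx : f x' x = 1) (hx' : f x' x' = 0)
    {M : Matrix (Fin t → Fin k) (Fin t → Fin k) F}
    (h : ∀ p y, f x y = 0 → slot i (rk s Jk p y) * M = 0)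
    (h' : ∀ p y, f x' y = 0 → slot i (rk s Jk p y) * M = 0) : M = 0 := by
  have hall : ∀ p y, slot i (rk s Jk p y) * M = 0 := fun p y => by
    set α := s.σ (f x y)
    have e : y = (y - α • x') + α • x' := by abel
    rw [e, rk_add_right, slot_add', add_mul]
    have hxx2 : f x x' = 1 := by rw [hf_herm, hxx, map_one]
    rw [h' p (α • x') (by rw [hf_smul_right, hx', mul_zero]), add_zero]
    refine h p _ ?_
    rw [hsub_right (isUnitary s _), hf_smul_right, hxx2, mul_one, s.inv, sub_self]
  have e : (1 : Matrix (Fin k) (Fin k) F) = ∑ b, rk s Jk (Pi.single b 1) (Pi.single ((Jk).J b) 1) := by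
    simp only [rk_single, (Jk).inv]
    exact (Matrix.sum_single_one (α := F)).symm
  rw [← one_mul M, ← slot_one' i, e, slot_sum', Finset.sum_mul]
  exact Finset.sum_eq_zero fun b _ => hall _ _

theorem eo_ne_zero : (WreathU.eo hk : Fin k → F) ≠ 0 := fun h => by
  simpa [WreathU.eo] using congrFun h (i0 hk)

theorem ew_ne_zero : (WreathU.ew hk : Fin k → F) ≠ 0 := fun h => by
  simpa [WreathU.ew] using congrFun h (i1 hk)

theorem defect_base (hM : ContainsU s Jk H) (hmov : Moves s Jk H) (hex : ¬ (Nat.card F = 4 ∧ k = 3))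
    (i : Fin t) {c : Fin k} (hc0 : c ≠ i0 hk) (hc1 : c ≠ i1 hk)
    (A : Fin t → Matrix (Fin k) (Fin k) F) (hA : A i = rk s Jk (Pi.single c 1) (Pi.single c 1)) :
    defect H (tens A) = 0 := by
  classical
  set T := defect H (tens A) with hT
  let o := WreathU.eo (F := F) hk
  let w := WreathU.ew (F := F) hk
  set ec : Fin k → F := Pi.single c 1
  have hec : IsMid hk ec := isMid_single hc0 hc1
  have hu := isUnitary s (sw hk)
  -- an isotropic vector orthogonal to `ec` gives the shape of the defect
  have shape : ∀ x, x ≠ 0 → f x x = 0 → f ec x = 0 →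
      ∃ Y, ∃ a b : F, (a ≠ 0 → Nat.card F = 4) ∧
        T = a • (slot i (rk s Jk x x) * Y - Y * slot i (rk s Jk x x)) +
          b • (slot i (rk s Jk x x) * Y * slot i (rk s Jk x x)) := by
    intro x hx0 hx hcx
    refine defect_form s Jk hM hmov i hx0 hx ?_ ?_
    · rw [slot_mul_tens]
      refine tens_eq_zero (l := i) ?_
      rw [Function.update_self, hA, rk_mul, hcx, zero_smul]
    · rw [tens_mul_slot]
      refine tens_eq_zero (l := i) ?_
      rw [Function.update_self, hA, rk_mul, hswap_zero hu hcx, zero_smul]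
  have kill : ∀ x Z, f x x = 0 → ∀ p y, f x y = 0 → slot i (rk s Jk p y) * (slot i (rk s Jk x x) * Z) = 0 := by
    intro x Z _ p y hy
    rw [← mul_assoc, ← slot_mul', rk_mul, hy, zero_smul, slot_zero', zero_mul]
  by_cases h4 : Nat.card F = 4
  swap
  · have side : ∀ x, x ≠ 0 → f x x = 0 → f ec x = 0 → ∀ p y, f x y = 0 → slot i (rk s Jk p y) * T = 0 := by
      intro x hx0 hx hcx p y hy
      obtain ⟨Y, a, b, ha, hTe⟩ := shape x hx0 hx hcx
      rw [hTe, show a = 0 from by_contra fun h => h4 (ha h), zero_smul, zero_add, mul_smul_comm, mul_assoc (slot i (rk s Jk x x)),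
        kill x _ hx p y hy, smul_zero]
    exact eq_zero_of_two s hk (x := o) (x' := w) (ew_eo s hk) (ew_iso s hk)
      (side o (eo_ne_zero hk) (eo_iso s hk) hec.eo) (side w (ew_ne_zero hk) (ew_iso s hk) hec.ew)
  -- two elements of the fixed field: the vectors of the second slot
  have side2 : ∀ x v, x ≠ 0 → f x x = 0 → f ec x = 0 → f v x = 0 → ∀ p' p y, f x y = 0 →
      slot i (rk s Jk p y) * (T * slot i (rk s Jk v p')) = 0 := by
    intro x v hx0 hx hcx hvx p' p y hy
    obtain ⟨Y, a, b, -, hTe⟩ := shape x hx0 hx hcx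
    have h0 : slot i (rk s Jk x x) * slot i (rk s Jk v p') = 0 := by
      rw [← slot_mul', rk_mul, hvx, zero_smul, slot_zero']
    rw [hTe]
    simp only [add_mul, sub_mul, smul_mul_assoc, mul_assoc, h0, mul_zero, sub_zero, smul_zero, add_zero, mul_smul_comm]
    rw [← mul_assoc, ← slot_mul', rk_mul, hy, zero_smul, slot_zero', zero_mul, smul_zero]
  have killv : ∀ v x x', x ≠ 0 → x' ≠ 0 → f x x = 0 → f x' x' = 0 → f x' x = 1 → f ec x = 0 → f ec x' = 0 →
      f v x = 0 → f v x' = 0 → ∀ p', T * slot i (rk s Jk v p') = 0 := fun v x x' hx0 hx'0 hx hx' h1 hcx hcx' hvx hvx' p' =>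
    eq_zero_of_two s hk (x := x) (x' := x') h1 hx' (side2 x v hx0 hx hcx hvx p') (side2 x' v hx'0 hx' hcx' hvx' p')
  have hmid : ∀ v, IsMid hk v → ∀ p', T * slot i (rk s Jk v p') = 0 := fun v hv =>
    killv v o w (eo_ne_zero hk) (ew_ne_zero hk) (eo_iso s hk) (ew_iso s hk) (ew_eo s hk) hec.eo hec.ew hv.eo hv.ew
  obtain ⟨d, hd0, hd1, hdc⟩ : ∃ d : Fin k, d ≠ i0 hk ∧ d ≠ i1 hk ∧ d ≠ c := by
    by_contra hcon
    push Not at hcon
    have hsub : (Finset.univ : Finset (Fin k)) ⊆ {i0 hk, i1 hk, c} := fun d _ => by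
      by_cases h0 : d = i0 hk
      · simp [h0]
      by_cases h1 : d = i1 hk
      · simp [h1]
      simp [hcon d h0 h1]
    have := (Finset.card_le_card hsub).trans Finset.card_le_three
    rw [Finset.card_univ, Fintype.card_fin] at this
    exact hex ⟨h4, le_antisymm this hk⟩
  set ed : Fin k → F := Pi.single d 1
  have hed : IsMid hk ed := isMid_single hd0 hd1
  have hdd : f ed ed = 1 := by
    rw [f_single_single, if_pos]
    exact Equiv.swap_apply_of_ne_of_ne hd0 hd1
  have hcd : f ec ed = 0 := by
    rw [f_single_single, if_neg]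
    rw [show (Jk).J c = c from Equiv.swap_apply_of_ne_of_ne hc0 hc1]
    exact Ne.symm hdc
  obtain ⟨θ, hθ⟩ := s.exists_trace_one
  have hdc' : f ed ec = 0 := hswap_zero hu hcd
  have hcorner : ∀ u v : Fin k → F, f u u = 0 → f v v = 0 → f u v = 1 → f v u = 1 → f u ed = 0 → f v ed = 0 →
      f ed u = 0 → f ed v = 0 → f ec u = 0 → f ec v = 0 → ∀ p', T * slot i (rk s Jk u p') = 0 := by
    intro u v huu hvv huv hvu hud hvd hdu hdv hcu hcv p'
    have hu0 : u ≠ 0 := fun h => by rw [h, hzero_left hu] at huv; exact zero_ne_one huv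
    set x' := v - ed + (-θ) • u with hx'
    have hx'x' : f x' x' = 0 := by
      simp only [hx', hsub_left hu, hsub_right hu, hf_add_left, hf_add_right, hf_smul_left, hf_smul_right,
        huu, hvv, huv, hvu, hud, hvd, hdu, hdv, hdd, map_neg]
      linear_combination -hθ
    have hx'u : f x' u = 1 := by
      simp only [hx', hsub_left hu, hf_add_left, hf_smul_left, huu, hvu, hdu]
      ring
    have hx'0 : x' ≠ 0 := fun h => by rw [h, hzero_left hu] at hx'u; exact zero_ne_one hx'u
    have h := killv (u + ed) u x' hu0 hx'0 huu hx'x' hx'u hcu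
      (by simp only [hx', hsub_right hu, hf_add_right, hf_smul_right, hcv, hcd, hcu]; ring)
      (by simp only [hf_add_left, huu, hdu]; ring)
      (by simp only [hx', hsub_right hu, hf_add_left, hf_add_right, hf_smul_right, huu, huv, hud, hdv, hdd, hdu]; ring)
      p'
    rw [rk_add_left, slot_add', mul_add, hmid ed hed p', add_zero] at h
    exact h
  have hTo := hcorner o w (eo_iso s hk) (ew_iso s hk) (eo_ew s hk) (ew_eo s hk) hed.eo' hed.ew' hed.eo hed.ew
    hec.eo hec.ew
  have hTw := hcorner w o (ew_iso s hk) (eo_iso s hk) (ew_eo s hk) (eo_ew s hk) hed.ew' hed.eo' hed.ew hed.eo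
    hec.ew hec.eo
  have e : (1 : Matrix (Fin k) (Fin k) F) = ∑ b, rk s Jk (Pi.single b 1) (Pi.single ((Jk).J b) 1) := by
    simp only [rk_single, (Jk).inv]
    exact (Matrix.sum_single_one (α := F)).symm
  rw [← mul_one T, ← slot_one' i, e, slot_sum', Finset.mul_sum]
  refine Finset.sum_eq_zero fun b _ => ?_
  rcases eq_or_ne b (i0 hk) with rfl | hb0
  · exact hTo _
  rcases eq_or_ne b (i1 hk) with rfl | hb1
  · exact hTw _
  exact hmid _ (isMid_single hb0 hb1) _

/-- Without fusion there is nothing outside the stabiliser. -/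
theorem le_wreath_of_moves (hex : ¬ (Nat.card F = 4 ∧ k = 3)) (ht : 1 ≤ t) (hH : H ≤ SUp s Jk t)
    (hM : ContainsU s Jk H) (hmov : Moves s Jk H) : H ≤ Geo.tensorWreathStandard k t F := by
  classical
  let i : Fin t := ⟨0, ht⟩
  let c : Fin k := ⟨2, by omega⟩
  have hc0 : c ≠ i0 hk := by simp [c, i0, Fin.ext_iff]
  have hc1 : c ≠ i1 hk := by simp [c, i1, Fin.ext_iff]
  let S : Submodule F (Matrix (Fin k) (Fin k) F) :=
    { carrier := {B | ∀ A, defect H (tens (Function.update A i B)) = 0}
      zero_mem' := fun A => by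
        rw [tens_eq_zero (l := i) (Function.update_self _ _ _), map_zero]
      add_mem' := fun {B B'} hB hB' A => by
        rw [tens_update_add, map_add, hB A, hB' A, add_zero]
      smul_mem' := fun a B hB A => by
        have e : tens (Function.update A i (a • B)) = a • tens (Function.update A i B) := by
          have h := slot_mul_tens i (a • 1) (Function.update A i B)
          rw [slot_smul_one, Matrix.smul_mul, one_mul, Function.update_idem, Function.update_self,
            Matrix.smul_mul, one_mul] at h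
          exact h.symm
        rw [e, map_smul, hB A, smul_zero] }
  have hu := isUnitary s (sw hk)
  have stable : ∀ g ∈ HermStab.su (hf s Jk), ∀ B ∈ S,
      (g : Matrix (Fin k) (Fin k) F) * B * ((g⁻¹ : GL (Fin k) F) : Matrix (Fin k) (Fin k) F) ∈ S := by
    intro g hg B hB A
    have hgH : slotU i g ∈ H := hM _ (slotU_mem _ _) (slotU_mem_su s Jk hg i)
    have h := congrArg (conjHom (slotU i g)) (hB A)
    rw [map_zero, ← defect_equivariant hgH (slotU_mem _ _),
      show slotU i g = tensGL (Function.update (1 : Fin t → GL (Fin k) F) i g) * factorPerm 1 by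
        rw [factorPerm_one, mul_one]; rfl, conjHom_wreath_tens] at h
    convert h using 3
    congr 1
    funext j
    rcases eq_or_ne j i with rfl | hj
    · simp [show (Equiv.symm (1 : Equiv.Perm (Fin t))) i = i from rfl]
    · simp [Function.update_of_ne hj, show (Equiv.symm (1 : Equiv.Perm (Fin t))) j = j from rfl]
  have hcc : rk s Jk (Pi.single c 1) (Pi.single c 1) ∈ S := fun A =>
    defect_base s hk hM hmov hex i hc0 hc1 _ (Function.update_self _ _ _)
  have hoo : rk s Jk (WreathU.eo hk) (WreathU.eo hk) ∈ S := by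
    set z : Fin k → F := Pi.single c 1 with hz
    have hzm : IsMid hk z := isMid_single hc0 hc1
    have hzz : f z z = 1 := by
      rw [hz, f_single_single, if_pos]
      exact Equiv.swap_apply_of_ne_of_ne hc0 hc1
    obtain ⟨β, hβ⟩ := s.exists_trace (r := -f z z) (by rw [map_neg, ← hf_herm])
    have key : rk s Jk z z + rk s Jk (WreathU.eo hk) (WreathU.eo hk) ∈ S ∧ _ ∧ _ := separate s (S := S)
      (C := rk s Jk z z + rk s Jk (WreathU.eo hk) (WreathU.eo hk))
      (A := -rk s Jk z (WreathU.eo hk)) (B := -rk s Jk (WreathU.eo hk) z) fun μ hμ => by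
      have hμz : f (μ • z) (WreathU.eo hk) = 0 := (hzm.smul μ).eo
      have hb : β + s.σ β = -f (μ • z) (μ • z) := by
        rw [hf_smul_left, hf_smul_right, hzz] at *
        linear_combination hβ + hμ
      have hg := HermStab.qe_mem_su hu (eo_iso s hk) hμz hb
      have h := stable _ hg _ hcc
      rw [conj_rk s Jk hg.1, HermStab.qe_mulVec hu (eo_iso s hk) hμz] at h
      convert h using 1
      rw [hzm.eo, hf_smul_right, hzz, mul_one, mul_zero, zero_smul, zero_smul, add_zero, add_zero]
      simp only [sub_eq_add_neg, ← neg_smul, rk_add_left, rk_add_right, rk_smul_left, rk_smul_right, map_neg,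
        s.inv, smul_smul, smul_add, smul_neg]
      rw [show -μ * -s.σ μ = 1 by linear_combination hμ]
      module
    simpa using S.sub_mem key.1 hcc
  have hiso : ∀ x, f x x = 0 → rk s Jk x x ∈ S := by
    intro x hx
    by_cases hx0 : x = 0
    · rw [hx0]; simp [rk, S.zero_mem]
    obtain ⟨g, hg, r, -, hgx⟩ := exists_map_ew s hk hx hx0
    obtain ⟨g', hg', r', hr', hgo⟩ := exists_map_ew s hk (eo_iso s hk) (eo_ne_zero hk)
    have hww : rk s Jk (WreathU.ew hk) (WreathU.ew hk) ∈ S := by
      have h := stable g'⁻¹ (inv_mem hg') _ hoo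
      rw [conj_rk s Jk (inv_mem hg'.1), ← hgo, inv_mulVec_mulVec, rk_smul_left, rk_smul_right, smul_smul] at h
      have := S.smul_mem (r' * s.σ r')⁻¹ h
      rwa [smul_smul, inv_mul_cancel₀ (mul_ne_zero hr' ((map_ne_zero s.σ).mpr hr')), one_smul] at this
    have h := stable g hg _ (S.smul_mem (r * s.σ r) hww)
    rwa [Matrix.mul_smul, Matrix.smul_mul, conj_rk s Jk hg.1, ← smul_smul, ← rk_smul_right, ← rk_smul_left,
      ← mulVec_smul, hgx] at h
  have hall : ∀ B, B ∈ S := by
    intro B
    set E := rk s Jk (Pi.single c (1 : F)) (Pi.single c 1)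
    have hE : E.trace = 1 := by
      rw [trace_rk, f_single_single, if_pos]
      exact Equiv.swap_apply_of_ne_of_ne hc0 hc1
    have h := mem_of_isotropic s hk S hiso (B - B.trace • E)
      (by rw [Matrix.trace_sub, Matrix.trace_smul, hE, smul_eq_mul, mul_one, sub_self])
    simpa using S.add_mem h (S.smul_mem B.trace hcc)
  have hz : ∀ X, avg H X = Phi X := by
    have : defect H = 0 := linearMap_ext_tens fun A => by
      have h := hall (A i) A
      rw [Function.update_eq_self] at h
      rw [h, LinearMap.zero_apply]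
    exact fun X => sub_eq_zero.mp (LinearMap.congr_fun this X)
  intro g hg
  refine mem_wreath_of_span hk ht g fun j a b hab => ?_
  rw [← Phi_single_slot j hab (i0 hk), ← hz, ← avg_equivariant H hg, hz, Phi_apply]
  exact ⟨_, rfl⟩

end Cfsg.Agent.WreathU
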