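import Cfsg.Agent.WreathU.CaseB

/-!
The centre of the radical of a line of slots inside an overgroup (helper1).
-/

set_option autoImplicit false
set_option linter.unusedSectionVars false

namespace Cfsg.Agent.WreathU

open Matrix Cfsg.Agent.MaxSub Cfsg.Agent.MaxSub.Asch Cfsg.Agent.FG75.SpinTensor Cfsg.Agent.WreathMax

variable {F : Type*} [Field F] [Fintype F] {k t : ℕ} (s : Conj F) (hk : 3 ≤ k)

local notation "Jk" => sw hk
local notation "f" => hf s (sw hk)
local notation "eE" => rk s (sw hk) (WreathU.eo hk) (WreathU.eo hk)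

/-- `1 + Q ⊗ Z` lies in `H`. -/
def InK (H : Subgroup (GL (Fin (t + 1) → Fin k) F)) (Q : Matrix (Fin k) (Fin k) F)
    (Z : Matrix (Fin t → Fin k) (Fin t → Fin k) F) : Prop := ∃ g ∈ H, g.val = 1 + kz Q Z

/-- The elements of the centre of the radical of the first line of the first slot. -/
def InC (H : Subgroup (GL (Fin (t + 1) → Fin k) F)) (Z : Matrix (Fin t → Fin k) (Fin t → Fin k) F) : Prop :=
  InK H eE Z

variable {s hk} {H : Subgroup (GL (Fin (t + 1) → Fin k) F)}

theorem eE_sq : eE * eE = 0 := by rw [rk_mul, eo_iso, zero_smul]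

theorem InK.add_right {Q : Matrix (Fin k) (Fin k) F} (hQ : Q * Q = 0) {Z Z' : Matrix (Fin t → Fin k) (Fin t → Fin k) F}
    (h : InK H Q Z) (h' : InK H Q Z') : InK H Q (Z + Z') := by
  obtain ⟨g, hg, e⟩ := h
  obtain ⟨g', hg', e'⟩ := h'
  refine ⟨g * g', mul_mem hg hg', ?_⟩
  rw [Units.val_mul, e, e']
  simp only [mul_add, add_mul, one_mul, mul_one, kz_mul, hQ, kz_zero_left, add_zero, kz_add_right]
  abel

theorem InK.add_left {Q Q' : Matrix (Fin k) (Fin k) F} {Z : Matrix (Fin t → Fin k) (Fin t → Fin k) F}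
    (hZ : Z * Z = 0) (h : InK H Q Z) (h' : InK H Q' Z) : InK H (Q + Q') Z := by
  obtain ⟨g, hg, e⟩ := h
  obtain ⟨g', hg', e'⟩ := h'
  refine ⟨g * g', mul_mem hg hg', ?_⟩
  rw [Units.val_mul, e, e']
  simp only [mul_add, add_mul, one_mul, mul_one, kz_mul, hZ, kz_zero_right, add_zero, kz_add_left]
  abel

theorem InK.neg {Q : Matrix (Fin k) (Fin k) F} (hQ : Q * Q = 0) {Z : Matrix (Fin t → Fin k) (Fin t → Fin k) F}
    (h : InK H Q Z) : InK H Q (-Z) := by
  obtain ⟨g, hg, e⟩ := h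
  refine ⟨g⁻¹, inv_mem hg, left_inv_eq_right_inv (Units.inv_mul g) ?_⟩
  rw [e]
  simp only [mul_add, add_mul, one_mul, mul_one, kz_mul, hQ, kz_zero_left, kz_neg_right, add_zero,
    mul_neg, add_neg_cancel_right]

theorem InK.zero (Q : Matrix (Fin k) (Fin k) F) : InK H Q 0 :=
  ⟨1, one_mem H, by rw [kz_zero_right, add_zero, Units.val_one]⟩

theorem InC.add {Z Z' : Matrix (Fin t → Fin k) (Fin t → Fin k) F} (h : InC s hk H Z) (h' : InC s hk H Z') :
    InC s hk H (Z + Z') := InK.add_right eE_sq h h'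

theorem InC.neg {Z : Matrix (Fin t → Fin k) (Fin t → Fin k) F} (h : InC s hk H Z) : InC s hk H (-Z) :=
  InK.neg eE_sq h

theorem InC.sub {Z Z' : Matrix (Fin t → Fin k) (Fin t → Fin k) F} (h : InC s hk H Z) (h' : InC s hk H Z') :
    InC s hk H (Z - Z') := by rw [sub_eq_add_neg]; exact h.add h'.neg

theorem InC.zero : InC s hk H (0 : Matrix (Fin t → Fin k) (Fin t → Fin k) F) := InK.zero _

theorem InC.sum {κ : Type*} (S : Finset κ) (Z : κ → Matrix (Fin t → Fin k) (Fin t → Fin k) F)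
    (h : ∀ c ∈ S, InC s hk H (Z c)) : InC s hk H (∑ c ∈ S, Z c) :=
  Finset.sum_induction Z (InC s hk H) (fun _ _ => InC.add) InC.zero h

theorem kzU_mem_H (hM : ContainsU s Jk H) {A : GL (Fin k) F} (hA : A ∈ HermStab.su (hf s Jk))
    {B : GL (Fin t → Fin k) F} (hB : B ∈ SUp s Jk t) (hBW : B ∈ Geo.tensorWreathStandard k t F) :
    kzU A B ∈ H := by
  refine hM _ (kzU_mem A hBW) ⟨?_, kzU_det hA.2 hB.2⟩
  show _ ∈ U s (powI Jk (t + 1))
  rw [mem_U_iff, kzU_coe, adj_kz, kz_mul, (mem_U_iff s _).mp hA.1, (mem_U_iff s _).mp hB.1, kz_one]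

theorem InK.conj (hM : ContainsU s Jk H) {A : GL (Fin k) F} (hA : A ∈ HermStab.su (hf s Jk))
    {B : GL (Fin t → Fin k) F} (hB : B ∈ SUp s Jk t) (hBW : B ∈ Geo.tensorWreathStandard k t F)
    {Q : Matrix (Fin k) (Fin k) F} {Z : Matrix (Fin t → Fin k) (Fin t → Fin k) F} (h : InK H Q Z) :
    InK H ((A : Matrix (Fin k) (Fin k) F) * Q * ((A⁻¹ : GL (Fin k) F) : Matrix (Fin k) (Fin k) F))
      (conjHom B Z) := by
  obtain ⟨g, hg, e⟩ := h
  have hx := kzU_mem_H hM hA hB hBW
  refine ⟨kzU A B * g * (kzU A B)⁻¹, mul_mem (mul_mem hx hg) (inv_mem hx), ?_⟩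
  rw [Units.val_mul, Units.val_mul, e, conj_one_add]
  congr 1
  show kz _ _ * kz Q Z * kz _ _ = _
  rw [kz_mul, kz_mul, conjHom_apply]

theorem InC.conj (hM : ContainsU s Jk H) {B : GL (Fin t → Fin k) F} (hB : B ∈ SUp s Jk t)
    (hBW : B ∈ Geo.tensorWreathStandard k t F) {Z : Matrix (Fin t → Fin k) (Fin t → Fin k) F}
    (h : InC s hk H Z) : InC s hk H (conjHom B Z) := by
  have := InK.conj hM (one_mem _) hB hBW h
  rwa [Units.val_one, one_mul, inv_one, Units.val_one, mul_one] at this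

theorem InC.skew (hH : H ≤ SUp s Jk (t + 1)) {Z : Matrix (Fin t → Fin k) (Fin t → Fin k) F}
    (h : InC s hk H Z) : adj s (powI Jk t) Z = -Z := by
  obtain ⟨g, hg, e⟩ := h
  have h1 := (mem_U_iff s _).mp (hH hg).1
  rw [e, adj_add, adj_one, adj_kz, adj_rk] at h1
  simp only [add_mul, mul_add, one_mul, mul_one, kz_mul, eE_sq, kz_zero_left, add_zero] at h1
  rw [add_assoc, add_eq_left, ← kz_add_right] at h1
  have h2 := congrArg (fun X => zblk X (i0 hk) ((Jk).J (i0 hk))) h1
  simp only [zblk_kz] at h2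
  rw [show eE (i0 hk) ((Jk).J (i0 hk)) = 1 by rw [WreathU.eo, rk_single, Matrix.single_apply_same], one_smul,
    show zblk (0 : Matrix (Fin (t + 1) → Fin k) (Fin (t + 1) → Fin k) F) (i0 hk) ((Jk).J (i0 hk)) = 0 from rfl] at h2
  exact eq_neg_of_add_eq_zero_left h2

/-- The torus of the first slot scales by norms. -/
theorem InC.smul (hM : ContainsU s Jk H) {Z : Matrix (Fin t → Fin k) (Fin t → Fin k) F} (h : InC s hk H Z)
    {r : F} (hr : s.σ r = r) : InC s hk H (r • Z) := by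
  classical
  by_cases hr0 : r = 0
  · rw [hr0, zero_smul]; exact InC.zero
  obtain ⟨a, ha⟩ := s.exists_norm hr
  have ha0 : a ≠ 0 := fun h0 => hr0 (by rw [← ha, h0, mul_zero])
  have hsa0 : s.σ a ≠ 0 := (map_ne_zero s.σ).mpr ha0
  let c : Fin k := ⟨2, by omega⟩
  have hc0 : c ≠ i0 hk := by simp [c, i0, Fin.ext_iff]
  have hc1 : c ≠ i1 hk := by simp [c, i1, Fin.ext_iff]
  let v : Fin k → Fˣ := Pi.mulSingle (i0 hk) (Units.mk0 a ha0) * Pi.mulSingle (i1 hk) (Units.mk0 _ (inv_ne_zero hsa0)) *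
    Pi.mulSingle c (Units.mk0 (s.σ a / a) (div_ne_zero hsa0 ha0))
  let D : GL (Fin k) F :=
    ⟨Matrix.diagonal fun x => (v x : F), Matrix.diagonal fun x => ((v x)⁻¹ : Fˣ),
      by rw [Matrix.diagonal_mul_diagonal]; simp, by rw [Matrix.diagonal_mul_diagonal]; simp⟩
  have hDU : D ∈ U s Jk := by
    rw [mem_U_iff]
    ext p q
    have hadj : adj s Jk (D : Matrix (Fin k) (Fin k) F) = Matrix.diagonal fun x => s.σ (v ((Jk).J x) : F) := by
      ext p q
      by_cases hpq : p = q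
      · subst hpq; simp [adj, D]
      · simp [adj, D, hpq, (Jk).J.injective.ne (Ne.symm hpq)]
    rw [hadj, show (D : Matrix (Fin k) (Fin k) F) = Matrix.diagonal fun x => (v x : F) from rfl,
      Matrix.diagonal_mul_diagonal]
    by_cases hpq : p = q
    swap
    · simp [hpq]
    subst hpq
    rw [Matrix.diagonal_apply_eq, Matrix.one_apply_eq]
    by_cases hp0 : p = i0 hk
    · subst hp0
      rw [show (Jk).J (i0 hk) = i1 hk from Equiv.swap_apply_left _ _]
      simp [v, i0_ne_i1 hk, (i0_ne_i1 hk).symm, hc0.symm, hc1.symm, s.inv, ha0]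
    by_cases hp1 : p = i1 hk
    · subst hp1
      rw [show (Jk).J (i1 hk) = i0 hk from Equiv.swap_apply_right _ _]
      simp [v, i0_ne_i1 hk, (i0_ne_i1 hk).symm, hc0.symm, hc1.symm, hsa0]
    rw [show (Jk).J p = p from Equiv.swap_apply_of_ne_of_ne hp0 hp1]
    by_cases hpc : p = c
    · subst hpc
      simp [v, hc0, hc1, s.inv]
      field_simp
    · simp [v, hp0, hp1, hpc]
  have hDdet : D ∈ Geo.specialLinear (Fin k) F := by
    refine MonoidHom.mem_ker.mpr (Units.ext ?_)
    have e : ∏ x, v x = 1 := by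
      simp only [v, Pi.mul_apply, Finset.prod_mul_distrib]
      rw [Fintype.prod_pi_mulSingle' (i0 hk), Fintype.prod_pi_mulSingle' (i1 hk), Fintype.prod_pi_mulSingle' c]
      refine Units.ext ?_
      simp only [Units.val_mul, Units.val_mk0, Units.val_one]
      field_simp
    rw [Matrix.GeneralLinearGroup.val_det_apply, show (D : Matrix (Fin k) (Fin k) F) = Matrix.diagonal fun x => (v x : F) from rfl,
      Matrix.det_diagonal, ← Units.coe_prod, e, Units.val_one]
  have h1 := InK.conj hM ⟨hDU, hDdet⟩ (one_mem _) (one_mem _) h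
  obtain ⟨g, hg, e⟩ := h1
  refine ⟨g, hg, e.trans ?_⟩
  rw [conj_rk s Jk hDU]
  have hDo : (D : Matrix (Fin k) (Fin k) F) *ᵥ WreathU.eo hk = a • WreathU.eo hk := by
    show Matrix.diagonal (fun x => (v x : F)) *ᵥ _ = _
    funext p
    rw [Matrix.mulVec_diagonal]
    by_cases hp : p = i0 hk
    · subst hp; simp [WreathU.eo, v, i0_ne_i1 hk, hc0.symm]
    · simp [WreathU.eo, hp]
  rw [hDo, rk_smul_left, rk_smul_right, smul_smul, mul_comm a, ha, kz_smul_left, kz_smul_right]
  simp [conjHom_apply]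

/-- A square zero centre element gives all traceless Hermitian shapes. -/
theorem InC.span (hM : ContainsU s Jk H) {Z : Matrix (Fin t → Fin k) (Fin t → Fin k) F} (h : InC s hk H Z)
    (hZ : Z * Z = 0) (Q : Matrix (Fin k) (Fin k) F) (hQ : Q.trace = 0) (θ : F) :
    InK H (θ • Q + s.σ θ • adj s Jk Q) Z := by
  have hline : ∀ x, f x x = 0 → ∀ r, s.σ r = r → InK H (r • rk s Jk x x) Z := by
    intro x hx r hr
    by_cases hx0 : x = 0
    · rw [hx0]
      refine ⟨1, one_mem H, ?_⟩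
      simp [rk, kz_zero_left]
    obtain ⟨g, hg, a, -, hgx⟩ := exists_map_ew s hk hx hx0
    obtain ⟨g', hg', b, hb, hgo⟩ := exists_map_ew s hk (eo_iso s hk) (eo_ne_zero hk)
    have hr' : s.σ (r * (s.σ a * a) / (s.σ b * b)) = r * (s.σ a * a) / (s.σ b * b) := by
      rw [map_div₀, map_mul, map_mul, map_mul, hr, s.inv, s.inv, mul_comm a, mul_comm b]
    have h1 := InK.conj hM (mul_mem hg (inv_mem hg')) (one_mem _) (one_mem _) (h.smul hM hr')
    obtain ⟨y, hy, e⟩ := h1
    refine ⟨y, hy, e.trans ?_⟩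
    have hgg : ((g * g'⁻¹ : GL (Fin k) F) : Matrix (Fin k) (Fin k) F) *ᵥ WreathU.eo hk = (b / a) • x := by
      rw [← hgo, Units.val_mul, ← mulVec_mulVec, inv_mulVec_mulVec, ← hgx, ← mulVec_smul, smul_smul]
      congr 2
      rw [div_mul_cancel₀]
      intro ha
      exact hx0 (by rw [← hgx, ha, zero_smul, mulVec_zero])
    rw [conj_rk s Jk (mul_mem hg.1 (inv_mem hg'.1)), hgg, rk_smul_left, rk_smul_right, smul_smul, kz_smul_left,
      map_smul]
    simp only [conjHom_apply, inv_one, Units.val_one, one_mul, mul_one, kz_smul_right, smul_smul]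
    rw [kz_smul_left]
    congr 2
    have ha : a ≠ 0 := fun ha => hx0 (by rw [← hgx, ha, zero_smul, mulVec_zero])
    have := (map_ne_zero s.σ).mpr ha
    have := (map_ne_zero s.σ).mpr hb
    rw [map_div₀]
    field_simp
  let S : Submodule F (Matrix (Fin k) (Fin k) F) :=
    { carrier := {Q | ∀ θ : F, InK H (θ • Q + s.σ θ • adj s Jk Q) Z}
      zero_mem' := fun θ => by
        refine ⟨1, one_mem H, ?_⟩
        simp [adj_zero, kz_zero_left]
      add_mem' := fun {P P'} hP hP' θ => by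
        have e := InK.add_left hZ (hP θ) (hP' θ)
        convert e using 1
        rw [adj_add]; module
      smul_mem' := fun c P hP θ => by
        have e := hP (θ * c)
        convert e using 1
        rw [adj_smul, map_mul, smul_smul, smul_smul] }
  refine (mem_of_isotropic s hk S (fun x hx θ => ?_) Q hQ) θ
  rw [adj_rk, ← add_smul]
  exact hline x hx _ (by rw [map_add, s.inv, add_comm])

/-- The commutator of two middle elements. -/
theorem InC.product (hH : H ≤ SUp s Jk (t + 1)) (hM : ContainsU s Jk H)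
    {Z Z' : Matrix (Fin t → Fin k) (Fin t → Fin k) F} (h : InC s hk H Z) (h' : InC s hk H Z')
    (hZ : Z * Z = 0) (hZ' : Z' * Z' = 0) (c : F) :
    InC s hk H (c • (Z * Z') - s.σ c • adj s (powI Jk t) (Z * Z')) := by
  let d : Fin k := ⟨2, by omega⟩
  have hd0 : d ≠ i0 hk := by simp [d, i0, Fin.ext_iff]
  have hd1 : d ≠ i1 hk := by simp [d, i1, Fin.ext_iff]
  set e : Fin k → F := Pi.single d 1
  have hem : IsMid hk e := isMid_single hd0 hd1
  have hee : f e e = 1 := by
    rw [f_single_single, if_pos]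
    exact Equiv.swap_apply_of_ne_of_ne hd0 hd1
  set o := WreathU.eo (F := F) hk
  have hoo : f o o = 0 := eo_iso s hk
  have htr : (rk s Jk o e).trace = 0 := by rw [trace_rk]; exact hem.eo'
  have hoe : f o e = 0 := hem.eo'
  have heo : f e o = 0 := hem.eo
  obtain ⟨g, hg, hgv⟩ := h.span hM hZ _ htr c
  obtain ⟨g', hg', hgv'⟩ := h'.span hM hZ' _ htr 1
  rw [adj_rk, map_one, one_smul, one_smul] at hgv'
  rw [adj_rk] at hgv
  refine ⟨g * g' * (g' * g)⁻¹, mul_mem (mul_mem hg hg') (inv_mem (mul_mem hg' hg)), ?_⟩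
  set A := kz (c • rk s Jk o e + s.σ c • rk s Jk e o) Z with hA
  set B := kz (rk s Jk o e + rk s Jk e o) Z' with hB
  set C := kz eE (c • (Z * Z') - s.σ c • adj s (powI Jk t) (Z * Z')) with hC
  have hY : adj s (powI Jk t) (Z * Z') = Z' * Z := by
    rw [adj_mul, h.skew hH, h'.skew hH, neg_mul_neg]
  have hC1 : C * A = 0 := by
    rw [hC, hA, kz_mul, mul_add, mul_smul_comm, mul_smul_comm, rk_mul, rk_mul, hoo, heo]
    simp [kz_zero_left]
  have hC2 : C * B = 0 := by
    rw [hC, hB, kz_mul, mul_add, rk_mul, rk_mul, hoo, heo]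
    simp [kz_zero_left]
  have hAB : C = A * B - B * A := by
    rw [hC, hA, hB, kz_mul, kz_mul, hY]
    simp only [add_mul, mul_add, smul_mul_assoc, mul_smul_comm, rk_mul, hoo, hoe, heo, hee, zero_smul,
      smul_zero, one_smul, zero_add, add_zero, kz_smul_left, sub_eq_add_neg, kz_add_right, kz_smul_right, kz_neg_right]
    rfl
  have e1 : (1 + C) * ((1 + B) * (1 + A)) = (1 + A) * (1 + B) := by
    rw [← mul_assoc, add_mul (1 : Matrix (Fin (t + 1) → Fin k) (Fin (t + 1) → Fin k) F) C, one_mul, mul_add C, mul_one, hC2, add_zero, add_mul,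
      mul_add C, mul_one, hC1, add_zero, hAB]
    noncomm_ring
  rw [Units.val_mul]
  calc ((g * g' : GL _ F) : Matrix _ _ F) * ((g' * g)⁻¹ : GL _ F).val
      = (1 + C) * ((g' * g : GL _ F) : Matrix _ _ F) * ((g' * g)⁻¹ : GL _ F).val := by
        rw [Units.val_mul g, Units.val_mul g', hgv, hgv', e1]
    _ = 1 + C := by rw [mul_assoc, Units.mul_inv, mul_one]

end Cfsg.Agent.WreathU
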