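import Cfsg.Agent.WreathU.Center

/-!
A centre element which is not scalar gives the whole centre (helper1).
-/

set_option autoImplicit false
set_option linter.unusedSectionVars false

namespace Cfsg.Agent.WreathU

open Matrix Cfsg.Agent.MaxSub Cfsg.Agent.MaxSub.Asch Cfsg.Agent.FG75.SpinTensor Cfsg.Agent.WreathMax

variable {F : Type*} [Field F] [Fintype F] {k t : ℕ} (s : Conj F) (hk : 3 ≤ k)

local notation "Jk" => sw hk
local notation "f" => hf s (sw hk)
local notation "eE" => rk s (sw hk) (WreathU.eo hk) (WreathU.eo hk)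

/-- The contraction of one slot between two vectors. -/
noncomputable def contr (l : Fin t) (x y : Fin k → F) (Z : Matrix (Fin t → Fin k) (Fin t → Fin k) F) :
    Matrix (Fin t → Fin k) (Fin t → Fin k) F :=
  ∑ a, slot l (rk s Jk (Pi.single a 1) x) * Z * slot l (rk s Jk y (Pi.single ((Jk).J a) 1))

/-- The rank one matrices as units. -/
theorem single_eq_rk (a b : Fin k) :
    Matrix.single a b (1 : F) = rk s Jk (Pi.single a 1) (Pi.single ((Jk).J b) 1) := by
  rw [rk_single, (Jk).inv]

theorem sandwich (l : Fin t) (p q x y : Fin k → F) (Z : Matrix (Fin t → Fin k) (Fin t → Fin k) F) :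
    slot l (rk s Jk p x) * Z * slot l (rk s Jk y q) = slot l (rk s Jk p q) * contr s hk l x y Z := by
  have hq : q = ∑ a, s.σ (f (Pi.single a 1) q) • (Pi.single ((Jk).J a) 1 : Fin k → F) := by
    funext b
    simp [Finset.sum_apply, Pi.single_apply, hf_single, s.inv]
    rw [Finset.sum_eq_single ((Jk).J b)] <;> simp +contextual [(Jk).inv]
    intro a ha h
    exact absurd (by rw [h, (Jk).inv]) ha
  rw [contr, Finset.mul_sum]
  simp only [← mul_assoc, ← slot_mul', rk_mul, slot_smul', smul_mul_assoc]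
  have e : slot l (rk s Jk y q) = ∑ a, f (Pi.single a 1) q • slot l (rk s Jk y (Pi.single ((Jk).J a) 1)) := by
    conv_lhs => rw [hq]
    let φ : (Fin k → F) →+ Matrix (Fin t → Fin k) (Fin t → Fin k) F :=
      AddMonoidHom.mk' (fun v => slot l (rk s Jk y v)) fun u v => by rw [rk_add_right, slot_add']
    show φ _ = _
    rw [map_sum]
    refine Finset.sum_congr rfl fun a _ => ?_
    show slot l (rk s Jk y _) = _
    rw [rk_smul_right, s.inv, slot_smul']
  rw [e, Finset.mul_sum]
  exact Finset.sum_congr rfl fun a _ => mul_smul_comm _ _ _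

theorem contr_comm (l : Fin t) (x y : Fin k → F) (Z : Matrix (Fin t → Fin k) (Fin t → Fin k) F)
    (A : Matrix (Fin k) (Fin k) F) : Commute (slot l A) (contr s hk l x y Z) := by
  let S : Submodule F (Matrix (Fin k) (Fin k) F) :=
    { carrier := {A | Commute (slot l A) (contr s hk l x y Z)}
      zero_mem' := by show Commute _ _; rw [slot_zero']; exact Commute.zero_left _
      add_mem' := fun {A B} (hA : Commute _ _) (hB : Commute _ _) => by
        show Commute _ _; rw [slot_add']; exact hA.add_left hB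
      smul_mem' := fun c A (hA : Commute _ _) => by
        show Commute _ _; rw [slot_smul']; exact hA.smul_left c }
  suffices A ∈ S from this
  rw [Matrix.matrix_eq_sum_single A]
  refine Submodule.sum_mem _ fun c _ => Submodule.sum_mem _ fun d _ => ?_
  rw [show Matrix.single c d (A c d) = A c d • Matrix.single c d (1 : F) by simp [Matrix.smul_single]]
  refine S.smul_mem _ ?_
  show _ * _ = _ * _
  rw [single_eq_rk s hk, contr, Finset.mul_sum, Finset.sum_mul]
  simp only [← mul_assoc, ← slot_mul', rk_mul, slot_smul', smul_mul_assoc]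
  rw [Finset.sum_eq_single d, Finset.sum_eq_single c]
  · simp only [mul_assoc, ← slot_mul', rk_mul, slot_smul', mul_smul_comm, f_single_single, (Jk).inv,
      if_true, one_smul]
  · intro a _ ha
    simp only [mul_assoc, ← slot_mul', rk_mul, f_single_single, if_neg ((Jk).J.injective.ne (Ne.symm ha)),
      zero_smul, slot_zero', mul_zero]
  · simp
  · intro a _ ha
    rw [f_single_single, if_neg ((Jk).J.injective.ne ha), zero_smul]
  · simp

theorem eq_zero_of_slot_mul (l : Fin t) {X : Matrix (Fin t → Fin k) (Fin t → Fin k) F}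
    (hX : ∀ A, Commute (slot l A) X) (h : slot l eE * X = 0) : X = 0 := by
  have e : (1 : Matrix (Fin k) (Fin k) F) = ∑ c, rk s Jk (Pi.single c 1) (Pi.single ((Jk).J c) 1) := by
    simp only [← single_eq_rk]
    exact (Matrix.sum_single_one (α := F)).symm
  rw [← one_mul X, ← slot_one' l, e, slot_sum', Finset.sum_mul]
  refine Finset.sum_eq_zero fun c _ => ?_
  rw [show rk s Jk (Pi.single c 1) (Pi.single ((Jk).J c) 1) =
      rk s Jk (Pi.single c 1) (WreathU.ew hk) * eE * rk s Jk (WreathU.ew hk) (Pi.single ((Jk).J c) 1) by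
    rw [rk_mul, eo_ew, one_smul, rk_mul, ew_eo, one_smul]]
  rw [slot_mul', slot_mul', mul_assoc, (hX _).eq, ← mul_assoc, mul_assoc (slot l (rk s Jk _ _)), h, mul_zero,
    zero_mul]

/-- A matrix killed by all sandwiches of isotropic lines commutes with the slot. -/
theorem commute_of_sandwich (l : Fin t) {Z : Matrix (Fin t → Fin k) (Fin t → Fin k) F}
    (h : ∀ x, f x x = 0 → ∀ p q, slot l (rk s Jk p x) * Z * slot l (rk s Jk x q) = 0)
    (A : Matrix (Fin k) (Fin k) F) : Commute (slot l A) Z := by
  classical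
  let T : Fin k → Fin k → Matrix (Fin k) (Fin k) F → Matrix (Fin t → Fin k) (Fin t → Fin k) F := fun u v Q =>
    ∑ a, ∑ b, Q a b • (slot l (Matrix.single u b 1) * Z * slot l (Matrix.single a v 1))
  let S : Submodule F (Matrix (Fin k) (Fin k) F) :=
    { carrier := {Q | ∀ u v, T u v Q = 0}
      zero_mem' := fun u v => by simp [T]
      add_mem' := fun {P Q} hP hQ u v => by
        show T u v (P + Q) = 0
        have h1 := hP u v
        have h2 := hQ u v
        simp only [T] at h1 h2
        simp only [T, Matrix.add_apply, add_smul, Finset.sum_add_distrib]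
        rw [h1, h2, add_zero]
      smul_mem' := fun c P hP u v => by
        show T u v (c • P) = 0
        have h1 := hP u v
        simp only [T] at h1
        simp only [T, Matrix.smul_apply, smul_eq_mul, mul_smul, ← Finset.smul_sum]
        rw [h1, smul_zero] }
  have hS : ∀ x, f x x = 0 → rk s Jk x x ∈ S := by
    intro x hx u v
    have e1 : rk s Jk (Pi.single u 1) x = ∑ b, cv s Jk x b • Matrix.single u b (1 : F) := by
      ext p q
      simp only [Matrix.sum_apply, Matrix.smul_apply, Matrix.single_apply, rk, vecMulVec_apply, Pi.single_apply,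
        smul_eq_mul]
      rw [Finset.sum_eq_single q]
      · by_cases hp : u = p <;> simp [hp, Ne.symm] <;> simp [Ne.symm hp]
      · intro b _ hb; simp [hb]
      · simp
    have e2 : rk s Jk x (Pi.single ((Jk).J v) 1) = ∑ a, x a • Matrix.single a v (1 : F) := by
      ext p q
      simp only [Matrix.sum_apply, Matrix.smul_apply, Matrix.single_apply, rk, vecMulVec_apply, cv,
        Pi.single_apply, smul_eq_mul]
      rw [Finset.sum_eq_single p]
      · by_cases hq : v = q
        · simp [hq]
        · simp [hq, (Jk).J.injective.ne (Ne.symm hq)]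
      · intro b _ hb; simp [hb]
      · simp
    have h1 := h x hx (Pi.single u 1) (Pi.single ((Jk).J v) 1)
    rw [e1, e2, slot_sum', slot_sum'] at h1
    simp only [slot_smul', Finset.sum_mul, Finset.mul_sum, smul_mul_assoc, mul_smul_comm, smul_smul] at h1
    show T u v _ = 0
    rw [← h1]
    simp only [T, rk, vecMulVec_apply, Finset.smul_sum, smul_smul]
  have hoff : ∀ u v a b, a ≠ b → slot l (Matrix.single u b 1) * Z * slot l (Matrix.single a v (1 : F)) = 0 := by
    intro u v a b hab
    have := mem_of_isotropic s hk S hS (Matrix.single a b 1) (Matrix.trace_single_eq_of_ne _ _ _ hab) u v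
    simpa [T, Matrix.single_apply, ite_and] using this
  have hdiag : ∀ u v a b, slot l (Matrix.single u a 1) * Z * slot l (Matrix.single a v (1 : F)) =
      slot l (Matrix.single u b 1) * Z * slot l (Matrix.single b v 1) := by
    intro u v a b
    have := mem_of_isotropic s hk S hS (Matrix.single a a 1 - Matrix.single b b 1)
      (by simp [Matrix.trace_sub, Matrix.trace_single_eq_same]) u v
    simpa [T, Matrix.single_apply, ite_and, sub_smul, Finset.sum_sub_distrib, sub_eq_zero] using this
  let R : Submodule F (Matrix (Fin k) (Fin k) F) :=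
    { carrier := {A | Commute (slot l A) Z}
      zero_mem' := by show Commute _ _; rw [slot_zero']; exact Commute.zero_left _
      add_mem' := fun {A B} (hA : Commute _ _) (hB : Commute _ _) => by
        show Commute _ _; rw [slot_add']; exact hA.add_left hB
      smul_mem' := fun c A (hA : Commute _ _) => by
        show Commute _ _; rw [slot_smul']; exact hA.smul_left c }
  suffices A ∈ R from this
  rw [Matrix.matrix_eq_sum_single A]
  refine Submodule.sum_mem _ fun c _ => Submodule.sum_mem _ fun d _ => ?_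
  rw [show Matrix.single c d (A c d) = A c d • Matrix.single c d (1 : F) by simp [Matrix.smul_single]]
  refine R.smul_mem _ ?_
  have one : (1 : Matrix (Fin t → Fin k) (Fin t → Fin k) F) = ∑ a, slot l (Matrix.single a a 1) := by
    rw [← slot_sum', Matrix.sum_single_one, slot_one']
  have hl : slot l (Matrix.single c d (1 : F)) * Z = slot l (Matrix.single c d 1) * Z * slot l (Matrix.single d d 1) := by
    conv_lhs => rw [← mul_one (slot l (Matrix.single c d (1 : F)) * Z), one, Finset.mul_sum]
    exact Finset.sum_eq_single d (fun a _ ha => hoff c a a d ha) (by simp)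
  have hr : Z * slot l (Matrix.single c d (1 : F)) = slot l (Matrix.single c c 1) * Z * slot l (Matrix.single c d 1) := by
    conv_lhs => rw [← one_mul (Z * slot l (Matrix.single c d (1 : F))), one, Finset.sum_mul]
    simp only [← mul_assoc]
    exact Finset.sum_eq_single c (fun a _ ha => hoff a d c a ha.symm) (by simp)
  show _ * _ = _ * _
  rw [hl, hr, hdiag c d d c]

theorem exists_dual_one {x : Fin k → F} (hx : x ≠ 0) : ∃ y, f x y = 1 := by
  obtain ⟨y, hy⟩ : ∃ y, f x y ≠ 0 := by
    obtain ⟨a, ha⟩ := Function.ne_iff.mp hx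
    refine ⟨Pi.single ((Jk).J a) 1, ?_⟩
    rw [hf_herm, hf_single, s.inv, (Jk).inv]
    exact ha
  refine ⟨(s.σ (f x y))⁻¹ • y, ?_⟩
  rw [hf_smul_right, map_inv₀, s.inv, inv_mul_cancel₀ hy]

theorem exists_map_eo {x : Fin k → F} (hx : f x x = 0) (hx0 : x ≠ 0) :
    ∃ g ∈ HermStab.su (hf s Jk), ∃ r : F, r ≠ 0 ∧ (g : Matrix (Fin k) (Fin k) F) *ᵥ (r • WreathU.eo hk) = x := by
  obtain ⟨g, hg, a, ha, hgx⟩ := exists_map_ew s hk hx hx0
  obtain ⟨g', hg', b, hb, hgo⟩ := exists_map_ew s hk (eo_iso s hk) (eo_ne_zero hk)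
  refine ⟨g * g'⁻¹, mul_mem hg (inv_mem hg'), a / b, div_ne_zero ha hb, ?_⟩
  rw [← hgo, mulVec_smul, Units.val_mul, ← mulVec_mulVec, inv_mulVec_mulVec, ← mulVec_smul, smul_smul,
    div_mul_cancel₀ _ hb, hgx]

variable {s hk} {H : Subgroup (GL (Fin (t + 1) → Fin k) F)}

theorem conj_slot {l : Fin t} {g : GL (Fin k) F} (hg : g ∈ U s Jk) (p q : Fin k → F)
    {C : Matrix (Fin t → Fin k) (Fin t → Fin k) F} (hC : ∀ A, Commute (slot l A) C) :
    conjHom (slotU l g) (slot l (rk s Jk p q) * C) =
      slot l (rk s Jk ((g : Matrix (Fin k) (Fin k) F) *ᵥ p) ((g : Matrix (Fin k) (Fin k) F) *ᵥ q)) * C := by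
  have hinv : ((slotU l g)⁻¹ : GL (Fin t → Fin k) F).val = slot l ((g⁻¹ : GL (Fin k) F) : Matrix (Fin k) (Fin k) F) :=
    left_inv_eq_right_inv (Units.inv_mul _) (by rw [slotU_coe, ← slot_mul', Units.mul_inv, slot_one'])
  rw [conjHom_apply, slotU_coe, hinv, mul_assoc, mul_assoc, ← (hC _).eq, ← mul_assoc (slot l (rk s Jk p q)),
    ← mul_assoc, ← slot_mul', ← slot_mul', ← mul_assoc, conj_rk s Jk hg]

/-- One slot of a centre element is made pure. -/
theorem InC.slot_step (hM : ContainsU s Jk H) (hex : ¬ (Nat.card F = 4 ∧ k = 3)) (l : Fin t)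
    {G Z : Matrix (Fin t → Fin k) (Fin t → Fin k) F} (hG : ∀ A, Commute (slot l A) G)
    (hZ : ¬ ∀ A, Commute (slot l A) Z) (h : InC s hk H (G * Z)) :
    ∃ C, C ≠ 0 ∧ (∀ A, Commute (slot l A) C) ∧
      (∀ j, j ≠ l → (∀ A, Commute (slot j A) Z) → ∀ A, Commute (slot j A) C) ∧
      InC s hk H (G * (slot l eE * C)) := by
  classical
  have hu := isUnitary s (sw hk)
  have hconj : ∀ g ∈ HermStab.su (hf s Jk), ∀ X, InC s hk H (G * X) → InC s hk H (G * conjHom (slotU l g) X) := by
    intro g hg X hX
    have h1 := hX.conj hM (slotU_mem_su s Jk hg l) (slotU_mem _ _)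
    have hGfix : conjHom (slotU l g) G = G := by
      rw [conjHom_apply, slotU_coe, (hG _).eq, mul_assoc, ← slotU_coe, Units.mul_inv, mul_one]
    rwa [map_mul, hGfix] at h1
  have hcomm : ∀ x y, ∀ j, j ≠ l → (∀ A, Commute (slot j A) Z) → ∀ A, Commute (slot j A) (contr s hk l x y Z) := by
    intro x y j hj hjZ A
    refine Commute.sum_right _ _ _ fun a _ => ?_
    have hc : ∀ B, Commute (slot j A) (slot l B) := fun B => slot_comm hj A B
    exact ((hc _).mul_right (hjZ A)).mul_right (hc _)
  obtain ⟨c₀, hc₀, hc₀s⟩ := s.exists_skew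
  by_cases hk4 : k = 3
  · obtain ⟨r, hr0, hrs, hr1⟩ : ∃ r : F, r ≠ 0 ∧ s.σ r = r ∧ r ≠ 1 := by
      by_contra hc
      push Not at hc
      exact hex ⟨card_eq_four s hc, hk4⟩
    obtain ⟨x, hx, hne⟩ : ∃ x, f x x = 0 ∧ slot l (rk s Jk x x) * Z * slot l (rk s Jk x x) ≠ 0 := by
      by_contra hc
      push Not at hc
      refine hZ (commute_of_sandwich s hk l fun x hx p q => ?_)
      by_cases hx0 : x = 0
      · subst hx0; simp [rk, slot_zero']
      obtain ⟨y, hy⟩ := exists_dual_one s hk hx0
      have hy' : f y x = 1 := by rw [hf_herm, hy, map_one]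
      rw [show slot l (rk s Jk p x) = slot l (rk s Jk p y) * slot l (rk s Jk x x) by
          rw [← slot_mul', rk_mul, hy, one_smul],
        show slot l (rk s Jk x q) = slot l (rk s Jk x x) * slot l (rk s Jk y q) by
          rw [← slot_mul', rk_mul, hy', one_smul],
        show slot l (rk s Jk p y) * slot l (rk s Jk x x) * Z * (slot l (rk s Jk x x) * slot l (rk s Jk y q)) =
          slot l (rk s Jk p y) * (slot l (rk s Jk x x) * Z * slot l (rk s Jk x x)) * slot l (rk s Jk y q) by
          simp only [mul_assoc], hc x hx, mul_zero, zero_mul]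
    have hx0 : x ≠ 0 := by rintro rfl; simp [rk, slot_zero'] at hne
    set N := slot l (rk s Jk x x) with hN
    have hD : ∀ c, c + s.σ c = 0 → InC s hk H (G * (c • (N * Z - Z * N) - (c * c) • (N * Z * N))) := by
      intro c hc
      have h1 := (hconj _ (HermStab.ut_mem_su hu hx hc) Z h).sub h
      rwa [← mul_sub, show slotU l (ut (hf s Jk) x c) = sRoot s Jk l x c from rfl, conjHom_sRoot s Jk l hx,
        show ∀ P Q R : Matrix (Fin t → Fin k) (Fin t → Fin k) F, P + Q - R - P = Q - R from fun _ _ _ => by abel] at h1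
    have hrc : r * c₀ + s.σ (r * c₀) = 0 := by rw [map_mul, hrs, ← mul_add, hc₀s, mul_zero]
    have h1 := (hD _ hrc).sub ((hD _ hc₀s).smul hM hrs)
    set e := (r - r * r) * (c₀ * c₀) with he
    have h2 : InC s hk H (G * (e • (slot l (rk s Jk x x) * contr s hk l x x Z))) := by
      convert h1 using 1
      rw [← sandwich s hk l x x x x Z, ← hN, he]
      simp only [mul_sub, mul_smul_comm, smul_sub, smul_smul]
      module
    obtain ⟨g, hg, a, ha, hgx⟩ := exists_map_eo s hk hx hx0
    have h3 := hconj _ (inv_mem hg) _ h2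
    have hgi : ((g⁻¹ : GL (Fin k) F) : Matrix (Fin k) (Fin k) F) *ᵥ x = a • WreathU.eo hk := by
      rw [← hgx, inv_mulVec_mulVec]
    rw [map_smul, conj_slot (inv_mem hg.1) x x (contr_comm s hk l x x Z), hgi, rk_smul_left,
      rk_smul_right, smul_smul, slot_smul', smul_mul_assoc, smul_smul] at h3
    rw [← mul_smul_comm (e * (a * s.σ a)) (slot l eE) (contr s hk l x x Z)] at h3
    refine ⟨(e * (a * s.σ a)) • contr s hk l x x Z, ?_, fun A => (contr_comm s hk l x x Z A).smul_right _,
      fun j hj hjZ A => (hcomm x x j hj hjZ A).smul_right _, h3⟩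
    refine smul_ne_zero (mul_ne_zero (mul_ne_zero ?_ (mul_ne_zero hc₀ hc₀))
      (mul_ne_zero ha ((map_ne_zero s.σ).mpr ha))) fun h0 => hne ?_
    · intro h0
      exact hr1 (mul_left_cancel₀ hr0 (by rw [mul_one]; linear_combination -h0))
    · rw [hN, sandwich s hk, h0, mul_zero]
  let i2 : Fin k := ⟨2, by omega⟩
  let i3 : Fin k := ⟨3, by omega⟩
  have h20 : i2 ≠ i0 hk := by simp [i2, i0, Fin.ext_iff]
  have h21 : i2 ≠ i1 hk := by simp [i2, i1, Fin.ext_iff]
  have h30 : i3 ≠ i0 hk := by simp [i3, i0, Fin.ext_iff]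
  have h31 : i3 ≠ i1 hk := by simp [i3, i1, Fin.ext_iff]
  have h23 : i2 ≠ i3 := by simp [i2, i3, Fin.ext_iff]
  set e2 : Fin k → F := Pi.single i2 1 with he2
  set e3 : Fin k → F := Pi.single i3 1 with he3
  have h2m : IsMid hk e2 := isMid_single h20 h21
  have h3m : IsMid hk e3 := isMid_single h30 h31
  have f22 : f e2 e2 = 1 := by rw [he2, f_single_single, if_pos]; exact Equiv.swap_apply_of_ne_of_ne h20 h21
  have f33 : f e3 e3 = 1 := by rw [he3, f_single_single, if_pos]; exact Equiv.swap_apply_of_ne_of_ne h30 h31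
  have f23 : f e2 e3 = 0 := by
    rw [he2, he3, f_single_single, if_neg]
    rw [show (Jk).J i2 = i2 from Equiv.swap_apply_of_ne_of_ne h20 h21]
    exact h23
  have f32 : f e3 e2 = 0 := hswap_zero hu f23
  obtain ⟨a, ha⟩ := s.exists_norm (r := -1) (by rw [map_neg, map_one])
  set y := e2 + a • e3 with hy
  have hym : IsMid hk y := h2m.add (h3m.smul a)
  have hyy : f y y = 0 := by
    simp only [hy, hf_add_left, hf_add_right, hf_smul_left, hf_smul_right, f22, f33, f23, f32]
    linear_combination ha
  have hy2 : f y e2 = 1 := by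
    simp only [hy, hf_add_left, hf_smul_left, f22, f32]
    ring
  set o := WreathU.eo (F := F) hk with ho
  set w := WreathU.ew (F := F) hk with hw
  have foo : f o o = 0 := eo_iso s hk
  have fow : f o w = 1 := eo_ew s hk
  have hshift : ∀ θ : F, ∃ g ∈ HermStab.su (hf s Jk), (g : Matrix (Fin k) (Fin k) F) *ᵥ o = o ∧
      (g : Matrix (Fin k) (Fin k) F) *ᵥ y = y + θ • o := by
    intro θ
    set z := (-s.σ θ) • e2
    have hz : f z o = 0 := (h2m.smul _).eo
    obtain ⟨β, hβ⟩ := s.exists_trace (r := -f z z) (by rw [map_neg, ← hf_herm])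
    refine ⟨_, HermStab.qe_mem_su hu foo hz hβ, ?_, ?_⟩
    · rw [HermStab.qe_mulVec hu foo hz, foo, hswap_zero hu hz]
      simp
    · rw [HermStab.qe_mulVec hu foo hz, hym.eo, hf_smul_right, hy2, map_neg, s.inv]
      simp
  obtain ⟨g, hg, hne⟩ : ∃ g ∈ HermStab.su (hf s Jk),
      slot l (rk s Jk ((g : Matrix (Fin k) (Fin k) F) *ᵥ o) ((g : Matrix (Fin k) (Fin k) F) *ᵥ o)) * Z *
          slot l (rk s Jk ((g : Matrix (Fin k) (Fin k) F) *ᵥ y) ((g : Matrix (Fin k) (Fin k) F) *ᵥ y)) +
        slot l (rk s Jk ((g : Matrix (Fin k) (Fin k) F) *ᵥ y) ((g : Matrix (Fin k) (Fin k) F) *ᵥ y)) * Z *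
          slot l (rk s Jk ((g : Matrix (Fin k) (Fin k) F) *ᵥ o) ((g : Matrix (Fin k) (Fin k) F) *ᵥ o)) ≠ 0 := by
    by_contra hc
    push Not at hc
    have key : ∀ g ∈ HermStab.su (hf s Jk), ∀ p q,
        slot l (rk s Jk p ((g : Matrix (Fin k) (Fin k) F) *ᵥ o)) * Z *
          slot l (rk s Jk ((g : Matrix (Fin k) (Fin k) F) *ᵥ y) q) = 0 := by
      intro g hg p q
      set x' := (g : Matrix (Fin k) (Fin k) F) *ᵥ o
      set y' := (g : Matrix (Fin k) (Fin k) F) *ᵥ y
      have hi := mem_isom.mp hg.1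
      have hl1 : f x' ((g : Matrix (Fin k) (Fin k) F) *ᵥ w) = 1 := (hi o w).trans fow
      have hl2 : f y' ((g : Matrix (Fin k) (Fin k) F) *ᵥ w) = 0 := (hi y w).trans hym.ew
      have hr1 : f ((g : Matrix (Fin k) (Fin k) F) *ᵥ e2) y' = 1 :=
        (hi e2 y).trans (by rw [hf_herm, hy2, map_one])
      have hr2 : f ((g : Matrix (Fin k) (Fin k) F) *ᵥ e2) x' = 0 := (hi e2 o).trans h2m.eo
      have hcg : slot l (rk s Jk x' x') * Z * slot l (rk s Jk y' y') +
          slot l (rk s Jk y' y') * Z * slot l (rk s Jk x' x') = 0 := hc g hg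
      have h0 := congrArg (fun X => slot l (rk s Jk p ((g : Matrix (Fin k) (Fin k) F) *ᵥ w)) * X *
        slot l (rk s Jk ((g : Matrix (Fin k) (Fin k) F) *ᵥ e2) q)) hcg
      simp only [mul_add, add_mul, mul_zero, zero_mul] at h0
      simp only [← mul_assoc, ← slot_mul', rk_mul, hl1, hl2, one_smul, zero_smul, slot_zero', zero_mul, add_zero] at h0
      simpa only [mul_assoc, ← slot_mul', rk_mul, hr1, one_smul] using h0
    refine hZ (commute_of_sandwich s hk l fun x hx p q => ?_)
    by_cases hx0 : x = 0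
    · subst hx0; simp [rk, slot_zero']
    obtain ⟨g, hg, r, -, hgx⟩ := exists_map_eo s hk hx hx0
    obtain ⟨h', hh', hho, hhy⟩ := hshift 1
    have k1 := key g hg p q
    have k2 := key (g * h') (mul_mem hg hh') p q
    rw [Units.val_mul, ← mulVec_mulVec, ← mulVec_mulVec, hho, hhy, one_smul, mulVec_add, rk_add_left, slot_add',
      mul_add, k1, zero_add] at k2
    rw [← hgx, mulVec_smul, rk_smul_left, rk_smul_right, slot_smul', slot_smul', smul_mul_assoc, mul_smul_comm,
      smul_mul_assoc, k2, smul_zero, smul_zero]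
  set x' := (g : Matrix (Fin k) (Fin k) F) *ᵥ o with hx'
  set y' := (g : Matrix (Fin k) (Fin k) F) *ᵥ y with hy'
  have hi := mem_isom.mp hg.1
  have fx : f x' x' = 0 := (hi o o).trans foo
  have fy : f y' y' = 0 := (hi y y).trans hyy
  have fxy : f x' y' = 0 := (hi o y).trans hym.eo'
  have fyx : f y' x' = 0 := (hi y o).trans hym.eo
  set A := slot l (rk s Jk x' x') with hA
  set B := slot l (rk s Jk y' y') with hB
  have hAA : A * A = 0 := by rw [hA, ← slot_mul', rk_mul, fx, zero_smul, slot_zero']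
  have hBB : B * B = 0 := by rw [hB, ← slot_mul', rk_mul, fy, zero_smul, slot_zero']
  have hAB : A * B = 0 := by rw [hA, hB, ← slot_mul', rk_mul, fyx, zero_smul, slot_zero']
  have hBA : B * A = 0 := by rw [hA, hB, ← slot_mul', rk_mul, fxy, zero_smul, slot_zero']
  have hut : ∀ v, f v v = 0 → ∀ X, InC s hk H (G * X) →
      InC s hk H (G * (c₀ • (slot l (rk s Jk v v) * X - X * slot l (rk s Jk v v)) -
        (c₀ * c₀) • (slot l (rk s Jk v v) * X * slot l (rk s Jk v v)))) := by
    intro v hv X hX
    have h1 := (hconj _ (HermStab.ut_mem_su hu hv hc₀s) X hX).sub hX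
    rwa [← mul_sub, show slotU l (ut (hf s Jk) v c₀) = sRoot s Jk l v c₀ from rfl, conjHom_sRoot s Jk l hv,
      show ∀ P Q R : Matrix (Fin t → Fin k) (Fin t → Fin k) F, P + Q - R - P = Q - R from fun _ _ _ => by abel] at h1
  have h2 := hut x' fx _ (hut y' fy _ h)
  rw [← hA, ← hB] at h2
  have hr : s.σ (-(c₀ * c₀))⁻¹ = (-(c₀ * c₀))⁻¹ := by
    rw [map_inv₀, map_neg, map_mul, eq_neg_of_add_eq_zero_right hc₀s, neg_mul_neg]
  have h3 := h2.smul hM hr
  have eW : (-(c₀ * c₀))⁻¹ • (c₀ • (A * (c₀ • (B * Z - Z * B) - (c₀ * c₀) • (B * Z * B)) -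
        (c₀ • (B * Z - Z * B) - (c₀ * c₀) • (B * Z * B)) * A) -
      (c₀ * c₀) • (A * (c₀ • (B * Z - Z * B) - (c₀ * c₀) • (B * Z * B)) * A)) = A * Z * B + B * Z * A := by
    have z1 : ∀ X, A * (B * X) = 0 := fun X => by rw [← mul_assoc, hAB, zero_mul]
    simp only [mul_sub, sub_mul, mul_smul_comm, smul_mul_assoc, mul_assoc, z1, hBA, hAB, hAA, hBB, mul_zero, zero_mul,
      smul_zero, sub_zero, zero_sub, neg_zero, smul_neg, smul_sub, smul_smul, inv_neg, neg_mul, mul_neg, neg_smul, neg_neg]
    have e : (c₀ * c₀)⁻¹ * (c₀ * c₀) = 1 := inv_mul_cancel₀ (mul_ne_zero hc₀ hc₀)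
    simp only [e, one_smul]
    abel
  rw [← mul_smul_comm, eW, hA, hB, sandwich s hk, sandwich s hk] at h3
  set C₁ := contr s hk l x' y' Z
  set C₂ := contr s hk l y' x' Z
  have hc1 := contr_comm s hk l x' y' Z
  have hc2 := contr_comm s hk l y' x' Z
  have hginv : ∀ v, ((g⁻¹ : GL (Fin k) F) : Matrix (Fin k) (Fin k) F) *ᵥ ((g : Matrix (Fin k) (Fin k) F) *ᵥ v) = v :=
    fun v => inv_mulVec_mulVec g v
  have h4 := hconj _ (inv_mem hg) _ h3
  rw [map_add, conj_slot (inv_mem hg.1) _ _ hc1, conj_slot (inv_mem hg.1) _ _ hc2, hx', hy', hginv, hginv] at h4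
  have hD : ∀ θ : F, InC s hk H (G * (slot l eE * (s.σ θ • C₁ + θ • C₂))) := by
    intro θ
    obtain ⟨p, hp, hpo, hpy⟩ := hshift θ
    have h5 := (hconj _ hp _ h4).sub h4
    rw [← mul_sub, map_add, conj_slot hp.1 _ _ hc1, conj_slot hp.1 _ _ hc2, hpo, hpy, rk_add_left, rk_add_right,
      rk_smul_left, rk_smul_right, slot_add', slot_add', slot_smul', slot_smul', add_mul, add_mul] at h5
    convert h5 using 1
    rw [mul_add (slot l eE), mul_smul_comm, mul_smul_comm, smul_mul_assoc, smul_mul_assoc, ← ho]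
    congr 1
    abel
  obtain ⟨θ, hθ⟩ : ∃ θ : F, s.σ θ • C₁ + θ • C₂ ≠ 0 := by
    by_contra hc
    push Not at hc
    obtain ⟨w₀, hw₀⟩ := s.exists_moved
    have e1 : C₁ + C₂ = 0 := by simpa using hc 1
    have e2 : (s.σ w₀ - w₀) • C₁ = 0 := by
      rw [sub_smul, sub_eq_zero]
      have := hc w₀
      rw [show C₂ = -C₁ from eq_neg_of_add_eq_zero_right e1, smul_neg, ← sub_eq_add_neg, sub_eq_zero] at this
      exact this
    have z1 : C₁ = 0 := (smul_eq_zero.mp e2).resolve_left (sub_ne_zero.mpr hw₀)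
    have z2 : C₂ = 0 := by rw [z1, zero_add] at e1; exact e1
    refine hne ?_
    rw [hA, hB, sandwich s hk, sandwich s hk]
    show _ * C₁ + _ * C₂ = 0
    rw [z1, z2, mul_zero, mul_zero, add_zero]
  exact ⟨_, hθ, fun A' => ((hc1 A').smul_right _).add_right ((hc2 A').smul_right _),
    fun j hj hjZ A' => (((hcomm _ _ j hj hjZ A')).smul_right _).add_right ((hcomm _ _ j hj hjZ A').smul_right _),
    hD θ⟩

/-- A family of first lines on a set of slots. -/
def lines (s : Conj F) (hk : 3 ≤ k) (T : Finset (Fin t)) : Fin t → Matrix (Fin k) (Fin k) F :=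
  fun l => if l ∈ T then rk s (sw hk) (WreathU.eo hk) (WreathU.eo hk) else 1

theorem tens_lines_sq {T : Finset (Fin t)} (hT : T.Nonempty) :
    tens (lines s hk T) * tens (lines s hk T) = 0 := by
  obtain ⟨l, hl⟩ := hT
  rw [tens_mul]
  exact tens_eq_zero (l := l) (by simp [lines, hl, eE_sq])

theorem adj_lines (T : Finset (Fin t)) : adj s (powI Jk t) (tens (lines s hk T)) = tens (lines s hk T) := by
  rw [adj_tens]
  congr 1
  funext l
  by_cases hl : l ∈ T <;> simp [lines, hl, adj_rk, adj_one]

theorem commute_tens_slot {l : Fin t} {G : Fin t → Matrix (Fin k) (Fin k) F} (h : G l = 1) (A : Matrix (Fin k) (Fin k) F) :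
    Commute (slot l A) (tens G) := by
  show _ * _ = _ * _
  rw [slot_mul_tens, tens_mul_slot, h, one_mul, mul_one]

/-- A pure centre element. -/
theorem InC.exists_pure (hH : H ≤ SUp s Jk (t + 1)) (hM : ContainsU s Jk H) (hex : ¬ (Nat.card F = 4 ∧ k = 3))
    {Z : Matrix (Fin t → Fin k) (Fin t → Fin k) F} (h : InC s hk H Z) (hZ : ∀ c : F, Z ≠ c • 1) :
    ∃ T : Finset (Fin t), T.Nonempty ∧ ∃ a : F, a ≠ 0 ∧ a + s.σ a = 0 ∧ InC s hk H (a • tens (lines s hk T)) := by
  classical
  have key : ∀ S : Finset (Fin t), ∃ T, T ⊆ S ∧ ∃ Z', Z' ≠ 0 ∧ (T = ∅ → Z' = Z) ∧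
      (∀ l ∈ S, ∀ A, Commute (slot l A) Z') ∧ InC s hk H (tens (lines s hk T) * Z') := by
    intro S
    induction S using Finset.induction with
    | empty =>
      refine ⟨∅, Finset.Subset.refl _, Z, fun h0 => hZ 0 (by rw [h0, zero_smul]), fun _ => rfl, by simp, ?_⟩
      rw [show lines s hk (∅ : Finset (Fin t)) = 1 by funext l; simp [lines], tens_one, one_mul]
      exact h
    | insert l S hl ih =>
      obtain ⟨T, hTS, Z', hZ', hT0, hcomm, hin⟩ := ih
      by_cases hc : ∀ A, Commute (slot l A) Z'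
      · refine ⟨T, hTS.trans (Finset.subset_insert _ _), Z', hZ', hT0, fun j hj => ?_, hin⟩
        rcases Finset.mem_insert.mp hj with rfl | hj
        · exact hc
        · exact hcomm j hj
      have hlT : l ∉ T := fun hh => hl (hTS hh)
      obtain ⟨C, hC0, hCl, hCj, hinC⟩ := InC.slot_step hM hex l
        (commute_tens_slot (l := l) (by simp [lines, hlT])) hc hin
      refine ⟨insert l T, Finset.insert_subset_insert _ hTS, C, hC0, fun he => absurd he (Finset.insert_ne_empty _ _),
        fun j hj => ?_, ?_⟩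
      · rcases Finset.mem_insert.mp hj with rfl | hj
        · exact hCl
        · exact hCj j (fun e => hl (e ▸ hj)) (hcomm j hj)
      · convert hinC using 1
        rw [← mul_assoc, tens_mul_slot]
        congr 2
        funext j
        rcases eq_or_ne j l with rfl | hj
        · simp [lines, hlT]
        · simp [lines, hj]
  obtain ⟨T, -, Z', hZ', hT0, hcomm, hin⟩ := key Finset.univ
  obtain ⟨a, ha⟩ := slot_centraliser (T := Z') fun i M => (hcomm i (Finset.mem_univ i) M).symm
  have hT : T.Nonempty := Finset.nonempty_iff_ne_empty.mpr fun e => hZ a (by rw [← hT0 e, ha])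
  have ha0 : a ≠ 0 := fun h0 => hZ' (by rw [ha, h0, zero_smul])
  rw [ha, mul_smul_comm, mul_one] at hin
  refine ⟨T, hT, a, ha0, ?_, hin⟩
  have hsk := InC.skew hH hin
  rw [adj_smul, adj_lines, ← neg_smul] at hsk
  have hne : tens (lines s hk T) ≠ 0 := by
    let x : Fin t → Fin k := fun l => if l ∈ T then i0 hk else ⟨2, by omega⟩
    let y : Fin t → Fin k := fun l => if l ∈ T then i1 hk else ⟨2, by omega⟩
    intro h0
    have := congrFun (congrFun h0 x) y
    rw [tens_apply, Matrix.zero_apply, Finset.prod_eq_zero_iff] at this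
    obtain ⟨l, -, hl⟩ := this
    by_cases hlT : l ∈ T
    · simp [lines, x, y, hlT, WreathU.eo, rk_single, sw] at hl
    · rw [show x l = y l by simp [x, y, hlT]] at hl
      simp [lines, hlT] at hl
  rw [smul_left_injective F hne hsk, add_neg_cancel]

/-- The matrices giving centre elements with every coefficient. -/
def CY (s : Conj F) (hk : 3 ≤ k) (H : Subgroup (GL (Fin (t + 1) → Fin k) F)) :
    Submodule F (Matrix (Fin t → Fin k) (Fin t → Fin k) F) where
  carrier := {Y | ∀ c : F, InC s hk H (c • Y - s.σ c • adj s (powI (sw hk) t) Y)}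
  zero_mem' c := by rw [adj_zero, smul_zero, smul_zero, sub_zero]; exact InC.zero
  add_mem' {Y Y'} h h' c := by
    convert (h c).add (h' c) using 1
    rw [adj_add]; module
  smul_mem' a Y h c := by
    convert h (c * a) using 1
    rw [adj_smul, map_mul, smul_smul, smul_smul]

theorem CY.conj (hM : ContainsU s Jk H) {B : GL (Fin t → Fin k) F} (hB : B ∈ SUp s Jk t)
    (hBW : B ∈ Geo.tensorWreathStandard k t F) {Y : Matrix (Fin t → Fin k) (Fin t → Fin k) F}
    (h : Y ∈ CY s hk H) : conjHom B Y ∈ CY s hk H := by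
  intro c
  convert (h c).conj hM hB hBW using 1
  rw [map_sub, map_smul, map_smul]
  congr 2
  rw [conjHom_apply, conjHom_apply, adj_mul, adj_mul, inv_eq_adj s _ hB.1, adj_adj, mul_assoc]

theorem tensGL_mem_su {gs : Fin t → GL (Fin k) F} (h : ∀ i, gs i ∈ HermStab.su (hf s Jk)) :
    tensGL gs ∈ SUp s Jk t := by
  classical
  have key : ∀ S : Finset (Fin t), tensGL (fun i => if i ∈ S then gs i else 1) ∈ SUp s Jk t := by
    intro S
    induction S using Finset.induction with
    | empty => simp only [Finset.notMem_empty, if_false]; rw [show (fun _ : Fin t => (1 : GL (Fin k) F)) = 1 from rfl, tensGL_one]; exact one_mem _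
    | insert l S hl ih =>
      have e : tensGL (fun i => if i ∈ insert l S then gs i else 1) =
          slotU l (gs l) * tensGL (fun i => if i ∈ S then gs i else 1) := by
        rw [slotU, tensGL_mul]
        congr 1
        funext i
        rcases eq_or_ne i l with rfl | hi
        · simp [hl]
        · simp [hi]
      rw [e]
      exact mul_mem (slotU_mem_su s Jk (h l) l) ih
  simpa using key Finset.univ

/-- Isometric images of a hyperbolic pair span everything. -/
theorem span_pairs (S : Submodule F (Matrix (Fin k) (Fin k) F))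
    (h : ∀ g ∈ HermStab.su (hf s Jk),
      rk s Jk ((g : Matrix (Fin k) (Fin k) F) *ᵥ WreathU.eo hk) ((g : Matrix (Fin k) (Fin k) F) *ᵥ WreathU.ew hk) ∈ S)
    (A : Matrix (Fin k) (Fin k) F) : A ∈ S := by
  have hu := isUnitary s (sw hk)
  set o := WreathU.eo (F := F) hk
  set w := WreathU.ew (F := F) hk
  have foo : f o o = 0 := eo_iso s hk
  obtain ⟨c₀, hc₀, hc₀s⟩ := s.exists_skew
  have how : rk s Jk o w ∈ S := by simpa using h 1 (one_mem _)
  have hoo : ∀ g ∈ HermStab.su (hf s Jk),
      rk s Jk ((g : Matrix (Fin k) (Fin k) F) *ᵥ o) ((g : Matrix (Fin k) (Fin k) F) *ᵥ o) ∈ S := by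
    intro g hg
    have h2 := h (g * ut (hf s Jk) o c₀) (mul_mem hg (HermStab.ut_mem_su hu foo hc₀s))
    have fwo : f w o = 1 := ew_eo s hk
    rw [Units.val_mul, ← mulVec_mulVec, ← mulVec_mulVec, ut_mulVec hu foo, ut_mulVec hu foo, foo, fwo, mul_zero,
      zero_smul, add_zero, mul_one, mulVec_add, mulVec_smul, rk_add_right, rk_smul_right] at h2
    have h3 := S.sub_mem h2 (h g hg)
    rw [add_sub_cancel_left] at h3
    simpa [smul_smul, (map_ne_zero s.σ).mpr hc₀] using S.smul_mem (s.σ c₀)⁻¹ h3
  have hiso : ∀ x, f x x = 0 → rk s Jk x x ∈ S := by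
    intro x hx
    by_cases hx0 : x = 0
    · rw [hx0]; simp [rk, S.zero_mem]
    obtain ⟨g, hg, r, -, hgx⟩ := exists_map_eo s hk hx hx0
    rw [← hgx, mulVec_smul, rk_smul_left, rk_smul_right]
    exact S.smul_mem _ (S.smul_mem _ (hoo g hg))
  have htr : (rk s Jk o w).trace = 1 := by rw [trace_rk, eo_ew]
  have h1 := mem_of_isotropic s hk S hiso (A - A.trace • rk s Jk o w)
    (by rw [Matrix.trace_sub, Matrix.trace_smul, htr, smul_eq_mul, mul_one, sub_self])
  simpa using S.add_mem h1 (S.smul_mem A.trace how)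

/-- Pure centre elements with every coefficient give all tensors on their support. -/
theorem CY.of_lines (hH : H ≤ SUp s Jk (t + 1)) (hM : ContainsU s Jk H) {T : Finset (Fin t)} (hT : T.Nonempty)
    {a : F} (ha : a ≠ 0) (h : InC s hk H (a • tens (lines s hk T))) (A : Fin t → Matrix (Fin k) (Fin k) F)
    (hA : ∀ l, l ∉ T → A l = 1) : tens A ∈ CY s hk H := by
  classical
  obtain ⟨g, hg, r, hr, hgo⟩ := exists_map_ew s hk (eo_iso s hk) (eo_ne_zero hk)
  set G : Fin t → GL (Fin k) F := fun l => if l ∈ T then g⁻¹ else 1 with hG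
  have hGsu : ∀ l, G l ∈ HermStab.su (hf s Jk) := fun l => by
    by_cases hl : l ∈ T <;> simp [G, hl, inv_mem hg, one_mem]
  have h' := h.conj hM (tensGL_mem_su hGsu) (tensGL_mem _)
  set ρ := r * s.σ r
  set W : Fin t → Matrix (Fin k) (Fin k) F :=
    fun l => if l ∈ T then rk s Jk (WreathU.ew hk) (WreathU.ew hk) else 1 with hW
  have e1 : conjHom (tensGL G) (tens (lines s hk T)) = (∏ l, if l ∈ T then ρ else 1) • tens W := by
    rw [← mul_one (tensGL G), ← factorPerm_one, conjHom_wreath_tens, ← tens_smul]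
    congr 1
    funext l
    rw [show (Equiv.symm (1 : Equiv.Perm (Fin t))) l = l from rfl]
    by_cases hl : l ∈ T
    · simp only [G, lines, W, if_pos hl]
      rw [conj_rk s Jk (inv_mem hg.1), ← hgo, inv_mulVec_mulVec, rk_smul_left, rk_smul_right, smul_smul]
    · simp [G, lines, W, hl]
  rw [map_smul, e1, smul_smul] at h'
  set a' := a * ∏ l, if l ∈ T then ρ else 1
  have ha' : a' ≠ 0 := mul_ne_zero ha (Finset.prod_ne_zero_iff.mpr fun l _ => by
    by_cases hl : l ∈ T <;> simp [hl, ρ, hr])
  have hsq : tens W * tens W = 0 := by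
    obtain ⟨l, hl⟩ := hT
    rw [tens_mul]
    exact tens_eq_zero (l := l) (by simp [W, hl, rk_mul, ew_iso])
  set P : Fin t → Matrix (Fin k) (Fin k) F :=
    fun l => if l ∈ T then rk s Jk (WreathU.eo hk) (WreathU.ew hk) else 1 with hP
  have hprod : tens (lines s hk T) * tens W = tens P := by
    rw [tens_mul]
    congr 1
    funext l
    by_cases hl : l ∈ T <;> simp [lines, W, P, hl, rk_mul, ew_eo]
  have hPm : tens P ∈ CY s hk H := by
    have h0 : a • tens (lines s hk T) * (a' • tens W) ∈ CY s hk H := fun c =>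
      InC.product hH hM h h' (by rw [smul_mul_assoc, mul_smul_comm, tens_lines_sq hT, smul_zero, smul_zero])
        (by rw [smul_mul_assoc, mul_smul_comm, hsq, smul_zero, smul_zero]) c
    rw [smul_mul_assoc, mul_smul_comm, hprod, smul_smul] at h0
    have h1 := (CY s hk H).smul_mem (a * a')⁻¹ h0
    rwa [smul_smul, inv_mul_cancel₀ (mul_ne_zero ha ha'), one_smul] at h1
  have key : ∀ S : Finset (Fin t), S ⊆ T → ∀ A : Fin t → Matrix (Fin k) (Fin k) F, (∀ l, l ∉ T → A l = 1) →
      (∀ l ∈ T, l ∉ S → ∃ g ∈ HermStab.su (hf s Jk), A l = rk s Jk ((g : Matrix (Fin k) (Fin k) F) *ᵥ WreathU.eo hk)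
        ((g : Matrix (Fin k) (Fin k) F) *ᵥ WreathU.ew hk)) → tens A ∈ CY s hk H := by
    intro S
    induction S using Finset.induction with
    | empty =>
      intro _ A hA1 hA2
      choose gs hgs hgA using fun l (hl : l ∈ T) => hA2 l hl (Finset.notMem_empty l)
      let g' : Fin t → GL (Fin k) F := fun l => if hl : l ∈ T then gs l hl else 1
      have hg' : ∀ l, g' l ∈ HermStab.su (hf s Jk) := fun l => by
        by_cases hl : l ∈ T
        · simp only [g', dif_pos hl]; exact hgs l hl
        · simp only [g', dif_neg hl]; exact one_mem _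
      have h1 := CY.conj hM (tensGL_mem_su hg') (tensGL_mem _) hPm
      rw [← mul_one (tensGL g'), ← factorPerm_one, conjHom_wreath_tens] at h1
      convert h1 using 2
      funext l
      rw [show (Equiv.symm (1 : Equiv.Perm (Fin t))) l = l from rfl]
      by_cases hl : l ∈ T
      · simp only [g', dif_pos hl, P, if_pos hl]
        rw [conj_rk s Jk (hgs l hl).1, hgA l hl]
      · simp [g', P, hl, hA1 l hl]
    | insert l S hlS ih =>
      intro hsub A hA1 hA2
      have hlT : l ∈ T := hsub (Finset.mem_insert_self _ _)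
      have hsub' : S ⊆ T := fun x hx => hsub (Finset.mem_insert_of_mem hx)
      let R : Submodule F (Matrix (Fin k) (Fin k) F) :=
        { carrier := {B | tens (Function.update A l B) ∈ CY s hk H}
          zero_mem' := by
            show _ ∈ CY s hk H
            rw [tens_eq_zero (l := l) (Function.update_self _ _ _)]; exact zero_mem _
          add_mem' := fun {B B'} hB hB' => by
            show _ ∈ CY s hk H
            rw [tens_update_add]; exact add_mem hB hB'
          smul_mem' := fun c B hB => by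
            show _ ∈ CY s hk H
            have h := slot_mul_tens l (c • 1) (Function.update A l B)
            rw [slot_smul_one, Matrix.smul_mul, one_mul, Function.update_idem, Function.update_self,
              Matrix.smul_mul, one_mul] at h
            rw [← h]
            exact Submodule.smul_mem _ c hB }
      have hR : A l ∈ R := span_pairs R (fun g hg => ih hsub' _
        (fun j hj => by rw [Function.update_of_ne (fun e => hj (by rw [e]; exact hlT))]; exact hA1 j hj)
        (fun j hj hjS => by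
          rcases eq_or_ne j l with rfl | hjl
          · exact ⟨g, hg, Function.update_self _ _ _⟩
          · rw [Function.update_of_ne hjl]
            exact hA2 j hj (fun h => (Finset.mem_insert.mp h).elim hjl hjS))) _
      have : tens (Function.update A l (A l)) ∈ CY s hk H := hR
      rwa [Function.update_eq_self] at this
  exact key T (Finset.Subset.refl _) A hA fun l hl hlT => absurd hl hlT

/-- A centre element which is not scalar gives all. -/
theorem InC.all (hH : H ≤ SUp s Jk (t + 1)) (hM : ContainsU s Jk H) (hex : ¬ (Nat.card F = 4 ∧ k = 3))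
    {Z₀ : Matrix (Fin t → Fin k) (Fin t → Fin k) F} (h₀ : InC s hk H Z₀) (hZ₀ : ∀ c : F, Z₀ ≠ c • 1)
    (Z : Matrix (Fin t → Fin k) (Fin t → Fin k) F) (hZ : adj s (powI Jk t) Z = -Z) : InC s hk H Z := by
  classical
  obtain ⟨θ, hθ⟩ := s.exists_trace_one
  obtain ⟨T, hT, a, ha, -, hin⟩ := InC.exists_pure hH hM hex h₀ hZ₀
  -- a single slot
  obtain ⟨j, hj⟩ := hT
  have hsingle : ∀ e : F, e + s.σ e = 0 → InC s hk H (e • tens (lines s hk {j})) := by
    intro e he
    have hm := CY.of_lines hH hM ⟨j, hj⟩ ha hin (lines s hk {j})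
      (fun l hl => by simp [lines, show l ≠ j from fun h => hl (h ▸ hj)]) (θ * e)
    rwa [adj_lines, ← sub_smul, map_mul, show θ * e - s.σ θ * s.σ e = e by
      linear_combination e * hθ - s.σ θ * he] at hm
  have hone : ∀ (l : Fin t) (e : F), e + s.σ e = 0 → InC s hk H (e • tens (lines s hk {l})) := by
    intro l e he
    rcases eq_or_ne l j with rfl | hlj
    · exact hsingle e he
    obtain ⟨g, hg, hgv⟩ := hsingle e he
    set σ : Equiv.Perm (Fin (t + 1)) := Equiv.swap 0 l.succ * Equiv.swap j.succ l.succ with hσ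
    have h0l : (0 : Fin (t + 1)) ≠ l.succ := (Fin.succ_ne_zero l).symm
    have h0j : (0 : Fin (t + 1)) ≠ j.succ := (Fin.succ_ne_zero j).symm
    have hjl : j.succ ≠ l.succ := fun h => hlj (Fin.succ_injective _ h).symm
    have hσ0 : σ 0 = l.succ := by
      rw [hσ, Equiv.Perm.mul_apply, Equiv.swap_apply_of_ne_of_ne h0j h0l, Equiv.swap_apply_left]
    have hσj : σ j.succ = 0 := by
      rw [hσ, Equiv.Perm.mul_apply, Equiv.swap_apply_left, Equiv.swap_apply_right]
    have hσl : σ l.succ = j.succ := by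
      rw [hσ, Equiv.Perm.mul_apply, Equiv.swap_apply_right, Equiv.swap_apply_of_ne_of_ne h0j.symm hjl]
    have hσ3 : σ * σ * σ = 1 := by
      refine Equiv.ext fun x => ?_
      simp only [Equiv.Perm.mul_apply, Equiv.Perm.one_apply]
      rcases eq_or_ne x 0 with rfl | h1
      · rw [hσ0, hσl, hσj]
      rcases eq_or_ne x j.succ with rfl | h2
      · rw [hσj, hσ0, hσl]
      rcases eq_or_ne x l.succ with rfl | h3
      · rw [hσl, hσj, hσ0]
      have hx : σ x = x := by
        rw [hσ, Equiv.Perm.mul_apply, Equiv.swap_apply_of_ne_of_ne h2 h3, Equiv.swap_apply_of_ne_of_ne h1 h3]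
      rw [hx, hx, hx]
    have hdet : (factorPerm σ : GL (Fin (t + 1) → Fin k) F) ∈ Geo.specialLinear (Fin (t + 1) → Fin k) F := by
      have d3 := congrArg Matrix.GeneralLinearGroup.det
        (show (factorPerm σ : GL (Fin (t + 1) → Fin k) F) * factorPerm σ * factorPerm σ = 1 by
          rw [factorPerm_mul, factorPerm_mul, hσ3, factorPerm_one])
      have d2 := congrArg Matrix.det (factorPerm_transpose_mul (F := F) (d := k) σ)
      rw [Matrix.det_mul, Matrix.det_transpose, Matrix.det_one] at d2
      refine MonoidHom.mem_ker.mpr (Units.ext ?_)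
      have d3' := congrArg Units.val d3
      simp only [map_mul, Units.val_mul, map_one, Units.val_one, Matrix.GeneralLinearGroup.val_det_apply] at d3' ⊢
      rw [d2, one_mul] at d3'
      exact d3'
    have hx : factorPerm σ ∈ H := hM _ (factorPerm_mem _) ⟨factorPerm_mem_U s Jk σ, hdet⟩
    refine ⟨factorPerm σ * g * (factorPerm σ)⁻¹, mul_mem (mul_mem hx hg) (inv_mem hx), ?_⟩
    rw [Units.val_mul, Units.val_mul, hgv, conj_one_add, ← conjHom_apply]
    congr 1
    have e1 : ∀ i : Fin t, tens (lines s hk {i}) = slot i eE := fun i => by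
      rw [slot]; congr 1; funext x
      rcases eq_or_ne x i with rfl | hx <;> simp [lines, *]
    have e2 : ∀ i : Fin t, kz eE (slot i eE) = slot 0 eE * slot i.succ eE := fun i => by
      rw [slot_zero_eq_kz, slot_succ_eq_kz, kz_mul, mul_one, one_mul]
    have hperm : ∀ (i : Fin (t + 1)) (A : Matrix (Fin k) (Fin k) F),
        conjHom (factorPerm σ : GL (Fin (t + 1) → Fin k) F) (slot i A) = slot (σ i) A := fun i A => by
      rw [conjHom_apply, factorPerm_mul_slot, mul_assoc, Units.mul_inv, mul_one]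
    rw [e1, e1, kz_smul_right, kz_smul_right, e2, e2, map_smul, map_mul, hperm, hperm, hσ0, hσj,
      slot_comm h0l.symm]
  have hgrow : ∀ S : Finset (Fin t), S.Nonempty → ∀ e : F, e + s.σ e = 0 → InC s hk H (e • tens (lines s hk S)) := by
    intro S
    induction S using Finset.induction with
    | empty => exact fun h => absurd h Finset.not_nonempty_empty
    | insert l S hl ih =>
      intro _ d hd
      by_cases hS : S.Nonempty
      swap
      · rw [Finset.not_nonempty_iff_eq_empty.mp hS]
        exact hone l d hd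
      obtain ⟨c₀, hc₀, hc₀s⟩ := s.exists_skew
      have hsq : ∀ (T : Finset (Fin t)) (x : F), T.Nonempty →
          (x • tens (lines s hk T)) * (x • tens (lines s hk T)) = 0 := fun T x hT => by
        rw [smul_mul_assoc, mul_smul_comm, tens_lines_sq hT, smul_zero, smul_zero]
      have hp := InC.product hH hM (ih hS c₀ hc₀s) (hone l c₀ hc₀s) (hsq _ _ hS) (hsq _ _ (Finset.singleton_nonempty _))
        (θ * d / (c₀ * c₀))
      have e : tens (lines s hk S) * tens (lines s hk {l}) = tens (lines s hk (insert l S)) := by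
        rw [tens_mul]; congr 1; funext x
        rcases eq_or_ne x l with rfl | hx
        · simp [lines, hl]
        · by_cases hxS : x ∈ S <;> simp [lines, hxS, hx]
      rw [smul_mul_assoc, mul_smul_comm, e] at hp
      simp only [adj_smul, adj_lines, smul_smul, ← sub_smul, map_mul] at hp
      convert hp using 2
      have hσc : s.σ c₀ = -c₀ := eq_neg_of_add_eq_zero_right hc₀s
      rw [map_div₀, map_mul, map_mul, hσc, neg_mul_neg, div_mul_cancel₀ _ (mul_ne_zero hc₀ hc₀),
        div_mul_cancel₀ _ (mul_ne_zero hc₀ hc₀)]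
      linear_combination -d * hθ + s.σ θ * hd
  obtain ⟨c₀, hc₀, hc₀s⟩ := s.exists_skew
  have huniv : (Finset.univ : Finset (Fin t)).Nonempty := ⟨j, Finset.mem_univ j⟩
  have hall : ∀ Y, Y ∈ CY s hk H := by
    intro Y
    rw [Matrix.matrix_eq_sum_single Y]
    refine Submodule.sum_mem _ fun x _ => Submodule.sum_mem _ fun y _ => ?_
    rw [show Matrix.single x y (Y x y) = Y x y • Matrix.single x y (1 : F) by simp [Matrix.smul_single],
      single_eq_tens]
    exact Submodule.smul_mem _ _ (CY.of_lines hH hM huniv hc₀ (hgrow _ huniv c₀ hc₀s) _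
      fun l hl => absurd (Finset.mem_univ l) hl)
  have h1 := hall (θ • Z) 1
  rw [map_one, one_smul, one_smul, adj_smul, hZ, smul_neg, sub_neg_eq_add, ← add_smul, hθ, one_smul] at h1
  exact h1

end Cfsg.Agent.WreathU
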